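import Cfsg.Agent.SUPres.Mono
import Mathlib.LinearAlgebra.Determinant
import Mathlib.LinearAlgebra.Dimension.Finite
import Mathlib.LinearAlgebra.FiniteDimensional.Lemmas

/-!
# Diagonal isometries of determinant one in a frame of odd dimension
-/

set_option autoImplicit false
set_option linter.unusedSectionVars false
set_option linter.unusedSimpArgs false

namespace CfsgLib.MultPSU

open Matrix CfsgLib.RepBounds.Unit CfsgLib.SUThreeUnipotent CfsgLib.SUTwoGen CfsgLib.SUPres

variable {F : Type*} [Field F] [Fintype F] {C : ConjField F} {ι : Type*} [Fintype ι] [DecidableEq ι] {m : ℕ}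

/-- The last eigenvalue of a diagonal element of determinant one. -/
noncomputable def xiOf (C : ConjField F) (a : Fin m → F) : F := (∏ i, a i * (C.σ (a i))⁻¹)⁻¹

theorem exists_frame_diag (Φ : PFrame C m ι) (he : eps Φ = 1) (hcard : Fintype.card ι = 2 * m + 1)
    {a : Fin m → F} (ha : ∀ i, a i ≠ 0) :
    ∃ g : suG C ι, (∀ i, app C g (Φ.v (.inl i)) = a i • Φ.v (.inl i)) ∧
      (∀ i, app C g (Φ.v (.inr i)) = (C.σ (a i))⁻¹ • Φ.v (.inr i)) ∧ app C g Φ.x0 = xiOf C a • Φ.x0 := by
  classical
  let w : SI m ⊕ Unit → ι → F := Sum.elim Φ.v fun _ => Φ.x0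
  let d : SI m ⊕ Unit → F := Sum.elim (Sum.elim a fun i => (C.σ (a i))⁻¹) fun _ => xiOf C a
  have hspan : ⊤ ≤ Submodule.span F (Set.range w) := by
    refine Φ.span.trans (Submodule.span_mono ?_)
    rintro x (⟨c, rfl⟩ | rfl)
    · exact ⟨.inl c, rfl⟩
    · exact ⟨.inr (), rfl⟩
  have hc : Fintype.card (SI m ⊕ Unit) = Module.finrank F (ι → F) := by
    rw [Module.finrank_pi, hcard]
    simp [two_mul]
  let b : Module.Basis (SI m ⊕ Unit) F (ι → F) :=
    basisOfTopLeSpanOfCardEqFinrank w hspan hc
  have hb : ∀ j, b j = w j := fun j => by simp [b]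
  let φ : (ι → F) →ₗ[F] (ι → F) := b.constr F fun j => d j • w j
  have hφ : ∀ j, φ (w j) = d j • w j := fun j => by
    conv_lhs => rw [← hb]
    rw [Module.Basis.constr_basis]
  have hdet : φ.det = 1 := by
    rw [← LinearMap.det_toMatrix b]
    have e : LinearMap.toMatrix b b φ = Matrix.diagonal d := by
      ext i j
      rw [LinearMap.toMatrix_apply, hb, hφ, map_smul, ← hb, Module.Basis.repr_self, Finsupp.smul_single,
        smul_eq_mul, mul_one, Finsupp.single_apply, Matrix.diagonal_apply]
      by_cases h : i = j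
      · subst h; simp
      · simp [h, Ne.symm h]
    rw [e, Matrix.det_diagonal, Fintype.prod_sum_type, Fintype.prod_sum_type]
    simp only [d, Sum.elim_inl, Sum.elim_inr, Finset.univ_unique, Finset.prod_singleton, xiOf]
    rw [← Finset.prod_mul_distrib]
    exact mul_inv_cancel₀ (Finset.prod_ne_zero_iff.2 fun i _ =>
      mul_ne_zero (ha i) (inv_ne_zero ((map_ne_zero C.σ).2 (ha i))))
  have hxi : xiOf C a * C.σ (xiOf C a) = 1 := by
    rw [xiOf, map_inv₀, map_prod, ← mul_inv, ← Finset.prod_mul_distrib, inv_eq_one]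
    refine Finset.prod_eq_one fun i _ => ?_
    rw [map_mul, map_inv₀, C.invol]
    have := ha i
    have := (map_ne_zero C.σ).2 (ha i)
    field_simp
  have hwd : ∀ i j, herm C (d i • w i) (d j • w j) = herm C (w i) (w j) := by
    intro i j
    rw [herm_smul_left, herm_smul_right]
    rcases i with c | u <;> rcases j with c' | u' <;> simp only [w, Sum.elim_inl, Sum.elim_inr]
    · rw [herm_vv]
      by_cases h : c' = c.swap
      · subst h
        rw [if_pos rfl]
        rcases c with i | i <;> simp only [d, Sum.elim_inl, Sum.elim_inr, Sum.swap_inl, Sum.swap_inr,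
          map_inv₀, C.invol, mul_one]
        · exact mul_inv_cancel₀ (ha i)
        · exact inv_mul_cancel₀ ((map_ne_zero C.σ).2 (ha i))
      · rw [if_neg h, mul_zero, mul_zero]
    · rw [Φ.vx, mul_zero, mul_zero]
    · rw [Φ.xv, mul_zero, mul_zero]
    · rw [← mul_assoc]; simp only [d, Sum.elim_inr]; rw [hxi, one_mul]
  have hform : ∀ x y, herm C (φ x) (φ y) = herm C x y := by
    intro x y
    have hx : x ∈ Submodule.span F (Set.range w) := hspan Submodule.mem_top
    have hy : y ∈ Submodule.span F (Set.range w) := hspan Submodule.mem_top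
    induction hx using Submodule.span_induction with
    | mem x hx =>
      obtain ⟨i, rfl⟩ := hx
      induction hy using Submodule.span_induction with
      | mem y hy => obtain ⟨j, rfl⟩ := hy; rw [hφ, hφ, hwd]
      | zero => rw [map_zero, herm_zero_right, herm_zero_right]
      | add y z _ _ h1 h2 => rw [map_add, herm_add_right, herm_add_right, h1, h2]
      | smul r y _ h1 => rw [map_smul, herm_smul_right, herm_smul_right, h1]
    | zero => rw [map_zero, herm_zero_left, herm_zero_left]
    | add x z _ _ h1 h2 => rw [map_add, herm_add_left, herm_add_left, h1, h2]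
    | smul r x _ h1 => rw [map_smul, herm_smul_left, herm_smul_left, h1]
  let M : Matrix.SpecialLinearGroup ι F := ⟨LinearMap.toMatrix' φ, by rw [LinearMap.det_toMatrix', hdet]⟩
  have happ : ∀ x, M.1 *ᵥ x = φ x := fun x => LinearMap.toMatrix'_mulVec φ x
  refine ⟨⟨M, fun x y => ?_⟩, fun i => ?_, fun i => ?_, ?_⟩
  · rw [happ, happ]; exact hform x y
  · exact (happ _).trans (hφ (.inl (.inl i)))
  · exact (happ _).trans (hφ (.inl (.inr i)))
  · exact (happ _).trans (hφ (.inr ()))

end CfsgLib.MultPSU
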