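import Cfsg.Agent.MultPSU.BigCen
import Cfsg.Agent.MultPSU.FrameDiag
import Cfsg.Agent.MultPSL.Main

/-!
# Lifting the Levi factor `SL_3` in dimension seven

All diagonal matrices act on the root groups of the Levi factor through isometries of determinant one,
so the lifts of the root elements satisfy the Steinberg relations for every field with more than two elements.
-/

set_option autoImplicit false
set_option linter.unusedSectionVars false

namespace CfsgLib.MultPSU

open Matrix CfsgLib.RepBounds.Unit CfsgLib.SUThreeUnipotent CfsgLib.SUTwoGen CfsgLib.SUPres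
open CfsgLib.MultPSL (el el_eq stein_el closure_el Stein)
open scoped commutatorElement

universe u

/-- Root elements of type `A₂` with all diagonal automorphisms. -/
structure DData (E G F : Type*) [Group E] [Group G] [Field F] where
  D : CExt E G
  p : Fin 3 → Fin 3 → F → G
  stein : Stein p
  c : F
  hc0 : c ≠ 0
  hc1 : c ≠ 1
  dg : (Fin 3 → Fˣ) → G
  dg_comm : ∀ a b, Commute (dg a) (dg b)
  dg_conj : ∀ a i j t, i ≠ j → dg a * p i j t * (dg a)⁻¹ = p i j (a i * ((a j : F))⁻¹ * t)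

namespace DData

variable {E G F : Type*} [Group E] [Group G] [Field F] (A : DData E G F)

/-- The unit `c` at one index. -/
def at1 (m : Fin 3) : Fin 3 → Fˣ := fun x => if x = m then Units.mk0 A.c A.hc0 else 1

theorem fix_of {a : Fin 3 → Fˣ} {i j : Fin 3} (h : i ≠ j) (e : (a i : F) = a j) (t : F) :
    Commute (A.dg a) (A.p i j t) := by
  have := A.dg_conj a i j t h
  rw [e, mul_inv_cancel₀ (a j).ne_zero, one_mul, mul_inv_eq_iff_eq_mul] at this
  exact this

theorem pair_ne {i j k l : Fin 3} (h1 : i ≠ j) (h2 : k ≠ l) (h3 : i ≠ l) (h4 : j ≠ k)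
    (hne : ¬ (k = i ∧ l = j)) (a b : F) : A.D.cm (A.p i j a) (A.p k l b) = 1 := by
  obtain ⟨m, hmi, hmj, hm⟩ : ∃ m, m ≠ i ∧ m ≠ j ∧ (m = k ∨ m = l) := by
    by_cases hk : k = i
    · exact ⟨l, Ne.symm h3, fun e => hne ⟨hk, e⟩, Or.inr rfl⟩
    · exact ⟨k, hk, Ne.symm h4, Or.inl rfl⟩
  refine A.D.cm_of_scale (A.p k l) (fun s t => A.stein.add k l h2 s t)
    (fun t => A.stein.comm i j k l h1 h2 h3 h4 a t)
    (A.fix_of (a := A.at1 m) h1 (by simp [at1, Ne.symm hmi, Ne.symm hmj]) a)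
    (l := (A.at1 m k : F) * ((A.at1 m l : F))⁻¹) ?_ (fun t => A.dg_conj _ k l t h2) b
  rcases hm with rfl | rfl
  · simpa [at1, Ne.symm h2] using A.hc1
  · simpa [at1, h2] using A.hc1

theorem pair {i j k l : Fin 3} (h1 : i ≠ j) (h2 : k ≠ l) (h3 : i ≠ l) (h4 : j ≠ k) (a b : F) :
    A.D.cm (A.p i j a) (A.p k l b) = 1 := by
  by_cases h : k = i ∧ l = j
  · obtain ⟨rfl, rfl⟩ := h
    obtain ⟨m, hmk, hml⟩ : ∃ m, m ≠ k ∧ m ≠ l := by revert k l; decide
    have e : A.p k l b = ⁅A.p k m b, A.p m l 1⁆ := by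
      rw [A.stein.rel k m l hmk.symm hml h1, mul_one]
    rw [e, ← A.D.mem_cen]
    exact A.D.commutator_mem_cen
      (A.D.mem_cen.2 (A.pair_ne h1 hmk.symm hmk.symm h4 (fun e => hml e.2) a b))
      (A.D.mem_cen.2 (A.pair_ne h1 hml h3 hml.symm (fun e => hmk e.1) a 1))
  · exact A.pair_ne h1 h2 h3 h4 h a b

/-- The commutator of two lifted root elements. -/
noncomputable def f (i k j : Fin 3) (a b : F) : E := A.D.cm (A.p i k a) (A.p k j b)

theorem π_f {i k j : Fin 3} (h1 : i ≠ k) (h2 : k ≠ j) (h3 : i ≠ j) (a b : F) :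
    A.D.π (A.f i k j a b) = A.p i j (a * b) := by
  rw [f, A.D.π_cm, A.stein.rel i k j h1 h2 h3]

theorem f_add_left {i k j : Fin 3} (h1 : i ≠ k) (h2 : k ≠ j) (h3 : i ≠ j) (a a' b : F) :
    A.f i k j (a + a') b = A.f i k j a b * A.f i k j a' b := by
  rw [f, f, f, A.stein.add i k h1, A.D.cm_mul_left]
  have c1 := A.D.commute_of (A.D.π_sl (A.p i k a)) (A.π_f h1 h2 h3 a' b) (A.pair h1 h3 h3 h1.symm a _)
  have c2 := A.D.commute_of (A.π_f h1 h2 h3 a b) (A.π_f h1 h2 h3 a' b) (A.pair h3 h3 h3 h3.symm _ _)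
  simp only [f] at c1 c2
  rw [c1.eq, mul_inv_cancel_right, c2.eq]

theorem f_zero_left {i k j : Fin 3} (h1 : i ≠ k) (h2 : k ≠ j) (h3 : i ≠ j) (b : F) :
    A.f i k j 0 b = 1 := by
  have := A.f_add_left h1 h2 h3 0 0 b
  rw [add_zero] at this
  exact left_eq_mul.1 this

theorem f_eq {i k j : Fin 3} (h1 : i ≠ k) (h2 : k ≠ j) (h3 : i ≠ j) (a b : F) :
    A.f i k j a b = A.f i k j (a * b) 1 := by
  rcases eq_or_ne b 0 with rfl | hb
  · rw [mul_zero, A.f_zero_left h1 h2 h3, f, MultPSL.x_zero A.stein h2, A.D.cm_one_right]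
  set g := A.dg (fun x => if x = k then Units.mk0 b hb else 1)
  have hfix : ∀ r, Commute g (A.p i j r) := A.fix_of h3 (by simp [h1, h2.symm])
  have hg : ∀ r, A.D.cm g (A.p i j r) = 1 := fun r =>
    A.D.cm_of_scale (A.p i j) (fun s t => A.stein.add i j h3 s t) hfix (A.dg_comm (A.at1 i) _)
      (l := (A.at1 i i : F) * ((A.at1 i j : F))⁻¹) (by simpa [at1, h3.symm] using A.hc1)
      (fun t => A.dg_conj _ i j t h3) r
  have h := mul_inv_eq_iff_eq_mul.2 (A.D.commute_of (A.D.π_sl g) (A.π_f h1 h2 h3 (a * b) 1) (hg _)).eq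
  rw [f, A.D.conj_cm, A.D.π_sl, A.dg_conj _ i k _ h1, A.dg_conj _ k j _ h2] at h
  simpa [h1, h2.symm, mul_comm a b, inv_mul_cancel_left₀ hb, f] using h

/-- The index other than `i` and `j`. -/
def third (i j : Fin 3) : Fin 3 :=
  if 0 ≠ i ∧ 0 ≠ j then 0 else if 1 ≠ i ∧ 1 ≠ j then 1 else 2

theorem third_spec : ∀ i j : Fin 3, i ≠ j → third i j ≠ i ∧ third i j ≠ j ∧
    ∀ k, k ≠ i → k ≠ j → k = third i j := by decide

/-- The lifts. -/
noncomputable def X (i j : Fin 3) (a : F) : E := A.f i (third i j) j a 1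

theorem π_X {i j : Fin 3} (h : i ≠ j) (a : F) : A.D.π (A.X i j a) = A.p i j a := by
  obtain ⟨e1, e2, -⟩ := third_spec i j h
  rw [X, A.π_f e1.symm e2 h, mul_one]

theorem stein_X : Stein A.X where
  add i j h s t := by
    obtain ⟨e1, e2, -⟩ := third_spec i j h
    exact A.f_add_left e1.symm e2 h s t 1
  comm i j k l h1 h2 h3 h4 a b := A.D.commute_of (A.π_X h1 a) (A.π_X h2 b) (A.pair h1 h2 h3 h4 a b)
  rel i j k h1 h2 h3 a b := by
    rw [A.D.cm_eq, A.π_X h1, A.π_X h2, X, ← (third_spec i k h3).2.2 j h1.symm h2]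
    exact A.f_eq h1 h2 h3 a b

/-- The homomorphism lifting `f` on the root elements. -/
theorem exists_lift [Fintype F] [Finite E] 
    (f : Matrix.SpecialLinearGroup (Fin 3) F →* G) (hf : ∀ i j a, i ≠ j → f (el i j a) = A.p i j a) :
    ∃ ρ : Matrix.SpecialLinearGroup (Fin 3) F →* E, ∀ M, A.D.π (ρ M) = f M := by
  classical
  set S := {g : E × Matrix.SpecialLinearGroup (Fin 3) F | ∃ i j, i ≠ j ∧ ∃ a, g = (A.X i j a, el i j a)}
    with hS
  set L := Subgroup.closure S with hL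
  let x : Fin 3 → Fin 3 → F → L := fun i j a => if h : i ≠ j then
    ⟨_, Subgroup.subset_closure ⟨i, j, h, a, rfl⟩⟩ else 1
  have hxv : ∀ {i j : Fin 3}, i ≠ j → ∀ a,
      (x i j a : E × Matrix.SpecialLinearGroup (Fin 3) F) = (A.X i j a, el i j a) :=
    fun h a => by simp only [x, dif_pos h]
  have R1 := A.stein_X
  have RL : Stein x :=
    { add := fun i j h s t => Subtype.ext (by
        rw [Subgroup.coe_mul, hxv h, hxv h, hxv h]
        exact Prod.ext (R1.add i j h s t) (stein_el.add i j h s t))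
      comm := fun i j k l h1 h2 h3 h4 a b => Subtype.ext (by
        rw [Subgroup.coe_mul, Subgroup.coe_mul, hxv h1, hxv h2]
        exact Prod.ext (R1.comm i j k l h1 h2 h3 h4 a b).eq (stein_el.comm i j k l h1 h2 h3 h4 a b).eq)
      rel := fun i j k h1 h2 h3 a b => Subtype.ext (by
        show ⁅(x i j a).1, (x j k b).1⁆ = (x i k (a * b)).1
        rw [hxv h1, hxv h2, hxv h3]
        exact Prod.ext (R1.rel i j k h1 h2 h3 a b) (stein_el.rel i j k h1 h2 h3 a b)) }
  have hgen : Subgroup.closure {g | ∃ i j, i ≠ j ∧ ∃ a, g = x i j a} = ⊤ := by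
    rw [eq_top_iff, ← Subgroup.closure_closure_coe_preimage (k := S)]
    refine Subgroup.closure_mono ?_
    rintro g ⟨i, j, h, a, e⟩
    exact ⟨i, j, h, a, Subtype.ext (by rw [hxv h]; exact e)⟩
  have hm' : 3 ≤ Fintype.card (Fin 3) := by simp
  obtain ⟨-, hc⟩ := MultPSL.card_le RL hm' hgen
  let pr : L →* Matrix.SpecialLinearGroup (Fin 3) F := (MonoidHom.snd _ _).comp L.subtype
  have hs : Function.Surjective pr := by
    rw [← MonoidHom.range_eq_top, eq_top_iff, ← closure_el, Subgroup.closure_le]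
    rintro _ ⟨i, j, h, a, rfl⟩
    exact ⟨⟨_, Subgroup.subset_closure ⟨i, j, h, a, rfl⟩⟩, rfl⟩
  have hle : Nat.card L ≤ Nat.card (Matrix.SpecialLinearGroup (Fin 3) F) := by
    haveI : Nonempty (Fin 3) := ⟨0⟩
    have hq := Fintype.one_lt_card (α := F)
    refine Nat.le_of_mul_le_mul_left (hc.trans_eq ?_) (by omega : 0 < Fintype.card F - 1)
    rw [Linear.card_SL_mul, Linear.card_GL, Linear.prod_pow_sub_pow]
  have hb : Function.Bijective pr := (Nat.bijective_iff_surjective_and_card pr).2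
    ⟨hs, le_antisymm hle (Nat.card_le_card_of_surjective _ hs)⟩
  let e := MulEquiv.ofBijective pr hb
  refine ⟨((MonoidHom.fst _ _).comp L.subtype).comp e.symm.toMonoidHom, fun M => ?_⟩
  have h2 : ((e.symm M : L) : E × Matrix.SpecialLinearGroup (Fin 3) F).2 = M := e.apply_symm_apply M
  have key : ∀ z ∈ L, A.D.π z.1 = f z.2 := by
    have : L ≤ (A.D.π.comp (MonoidHom.fst _ _)).eqLocus (f.comp (MonoidHom.snd _ _)) := by
      rw [hL, Subgroup.closure_le]
      rintro _ ⟨i, j, h, a, rfl⟩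
      exact (A.π_X h a).trans (hf i j a h).symm
    exact fun z hz => this hz
  exact (key _ (e.symm M).2).trans (congrArg f h2)

end DData

variable {F : Type u} [Field F] [Fintype F] {C : ConjField F} {ι : Type} [Fintype ι] [DecidableEq ι]

/-- The Levi factor of rank three lifts when every diagonal matrix extends to the group. -/
theorem exists_levi_lift3 (Φ : PFrame C (0 + 1 + 2) ι) (he : eps Φ = 1) (h7 : Fintype.card ι = 7)
    {E : Type u} [Group E] [Finite E] (D : CExt E (suG C ι)) :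
    ∃ ρ : Matrix.SpecialLinearGroup (Fin (0 + 1 + 2)) F →* E, ∀ M, D.π (ρ M) = lev Φ M := by
  classical
  obtain ⟨c, hc1, hc0⟩ : ∃ c : F, c ≠ 1 ∧ c ≠ 0 := by
    obtain ⟨c, hc⟩ := (exists_scalar C)
    refine ⟨c, fun e => hc.1 ?_, fun e => hc.1 ?_⟩ <;> simp [e]
  have hd : ∀ a : Fin 3 → Fˣ, ∀ i, ((a i : F)) ≠ 0 := fun a i => (a i).ne_zero
  choose dg hl hr hx using fun a : Fin 3 → Fˣ =>
    exists_frame_diag Φ he (by rw [h7]) (a := fun i => (a i : F)) (hd a)
  have hel : ∀ (i j : Fin 3) (t : F), i ≠ j → el i j t = SLnPres.tv i j t := fun i j t h => by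
    rw [el_eq h, SLnPres.tv, dif_neg h]
  let A : DData E (suG C ι) F :=
    { D := D
      p := fun i j t => lev Φ (el i j t)
      stein := stein_el.map _
      c := c
      hc0 := hc0
      hc1 := hc1
      dg := dg
      dg_comm := fun a b => Φ.ext_app
        (fun d => by
          rcases d with i | i <;>
            simp only [app_mul, hl, hr, app_smul, smul_smul] <;> rw [mul_comm])
        (by simp only [app_mul, hx, app_smul, smul_smul]; rw [mul_comm])
      dg_conj := fun a i j t h => by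
        rw [hel i j t h, hel i j _ h, lev_tv h, lev_tv h,
          conj_pEl' (hr a j) (hl a i) (by simpa using h.symm) t]
        congr 1
        rw [map_inv₀, C.invol]; ring }
  exact A.exists_lift (lev Φ) fun i j t _ => rfl

end CfsgLib.MultPSU
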