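import Cfsg.Agent.MultPSU.BigMain
import Cfsg.Agent.MultPSU.SevenLevi

/-!
# Perfect central extensions of unitary groups of dimension seven are trivial
-/

set_option autoImplicit false

namespace CfsgLib.MultPSU

open Matrix CfsgLib.RepBounds.Unit CfsgLib.SUThreeUnipotent CfsgLib.SUTwoGen CfsgLib.SUPres

universe u

/-- Perfect central extensions of `SU_7(q)` are trivial. -/
theorem injective_seven {F : Type u} [Field F] [Fintype F] {C : ConjField F} {ι : Type} [Fintype ι]
    [DecidableEq ι] (Φ : PFrame C (0 + 1 + 2) ι) (he : eps Φ = 1) (h7 : Fintype.card ι = 7) {E : Type u}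
    [Group E] [Finite E] (π : E →* suG C ι) (hs : Function.Surjective π) (hc : π.ker ≤ Subgroup.center E)
    (hE : commutator E = ⊤) : Function.Injective π := by
  obtain ⟨ρ, hρ⟩ := exists_levi_lift3 Φ he h7 ⟨π, hs, hc⟩
  exact injective_big_of_lift Φ (by omega) π hs hc hE ρ hρ

end CfsgLib.MultPSU
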