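import Cfsg.Agent.SchurTheory.Basic

/-!
# Commutators of lifts in a central extension

`cm X Y` is the commutator of any lifts of `X` and `Y`; `cen X` is the group of elements whose lifts
commute with the lifts of `X`.
-/

set_option autoImplicit false

namespace CfsgLib.MultPSU

open scoped commutatorElement

/-- A central extension. -/
structure CExt (E G : Type*) [Group E] [Group G] where
  π : E →* G
  surj : Function.Surjective π
  central : π.ker ≤ Subgroup.center E

namespace CExt

variable {E G : Type*} [Group E] [Group G] (D : CExt E G)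

/-- A chosen lift. -/
noncomputable def sl (X : G) : E := Function.surjInv D.surj X

theorem π_sl (X : G) : D.π (D.sl X) = X := Function.surjInv_eq D.surj X

theorem center_of_eq {a a' : E} (h : D.π a = D.π a') : a'⁻¹ * a ∈ Subgroup.center E :=
  D.central (by rw [MonoidHom.mem_ker, map_mul, map_inv, h, inv_mul_cancel])

/-- The commutator of lifts. -/
noncomputable def cm (X Y : G) : E := ⁅D.sl X, D.sl Y⁆

theorem cm_eq (a b : E) : ⁅a, b⁆ = D.cm (D.π a) (D.π b) := by
  have e := SchurTheory.commutatorElement_mul_mem_center (x := D.sl (D.π a)) (y := D.sl (D.π b))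
    (D.center_of_eq (a := a) (D.π_sl (D.π a)).symm) (D.center_of_eq (a := b) (D.π_sl (D.π b)).symm)
  rw [mul_inv_cancel_left, mul_inv_cancel_left] at e
  exact e

theorem π_cm (X Y : G) : D.π (D.cm X Y) = ⁅X, Y⁆ := by
  rw [cm, map_commutatorElement, D.π_sl, D.π_sl]

theorem conj_cm (g : E) (X Y : G) :
    g * D.cm X Y * g⁻¹ = D.cm (D.π g * X * (D.π g)⁻¹) (D.π g * Y * (D.π g)⁻¹) := by
  have e := D.cm_eq (g * D.sl X * g⁻¹) (g * D.sl Y * g⁻¹)
  simp only [map_mul, map_inv, D.π_sl] at e
  rw [← e, cm]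
  simp only [commutatorElement_def]; group

theorem cm_swap (X Y : G) : (D.cm X Y)⁻¹ = D.cm Y X := by
  simp only [cm, commutatorElement_def]; group

theorem cm_mul_left (X X' Y : G) :
    D.cm (X * X') Y = D.sl X * D.cm X' Y * (D.sl X)⁻¹ * D.cm X Y := by
  have e := D.cm_eq (D.sl X * D.sl X') (D.sl Y)
  simp only [map_mul, D.π_sl] at e
  rw [← e]
  simp only [cm, commutatorElement_def]; group

theorem cm_mul_right (X Y Y' : G) :
    D.cm X (Y * Y') = D.cm X Y * (D.sl Y * D.cm X Y' * (D.sl Y)⁻¹) := by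
  have e := D.cm_eq (D.sl X) (D.sl Y * D.sl Y')
  simp only [map_mul, D.π_sl] at e
  rw [← e]
  simp only [cm, commutatorElement_def]; group

theorem cm_one_right (X : G) : D.cm X 1 = 1 := by
  have e := D.cm_eq (D.sl X) 1
  rw [map_one, D.π_sl, commutatorElement_one_right] at e
  exact e.symm

theorem cm_central {X Y : G} (h : Commute X Y) : D.cm X Y ∈ Subgroup.center E :=
  D.central (by rw [MonoidHom.mem_ker, D.π_cm, commutatorElement_eq_one_iff_commute]; exact h)

theorem cm_eq_one_iff {a b : E} : D.cm (D.π a) (D.π b) = 1 ↔ Commute a b := by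
  rw [← D.cm_eq, commutatorElement_eq_one_iff_commute]

theorem commute_of {a b : E} {X Y : G} (ha : D.π a = X) (hb : D.π b = Y) (h : D.cm X Y = 1) :
    Commute a b := by
  subst ha hb; exact D.cm_eq_one_iff.1 h

theorem cm_conj_one {X Y : G} (g : G) (h : D.cm X Y = 1) :
    D.cm (g * X * g⁻¹) (g * Y * g⁻¹) = 1 := by
  have := D.conj_cm (D.sl g) X Y
  rw [D.π_sl, h, mul_one, mul_inv_cancel] at this
  exact this.symm

/-- The elements whose lifts commute with the lifts of `X`. -/
noncomputable def cen (X : G) : Subgroup G := (Subgroup.centralizer {D.sl X}).map D.π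

theorem mem_cen {X Y : G} : Y ∈ D.cen X ↔ D.cm X Y = 1 := by
  constructor
  · rintro ⟨y, hy, rfl⟩
    have h1 : Commute (D.sl X) y := ((Subgroup.mem_centralizer_singleton_iff.1 hy) : _).symm
    have := D.cm_eq_one_iff.2 h1
    rwa [D.π_sl] at this
  · intro h
    exact ⟨D.sl Y, Subgroup.mem_centralizer_singleton_iff.2 (D.commute_of (D.π_sl X) (D.π_sl Y) h).symm.eq,
      D.π_sl Y⟩

theorem mem_cen_comm {X Y : G} : Y ∈ D.cen X ↔ X ∈ D.cen Y := by
  rw [D.mem_cen, D.mem_cen, ← D.cm_swap X Y, inv_eq_one]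

theorem commutator_mem_cen {X A B : G} (hA : A ∈ D.cen X) (hB : B ∈ D.cen X) : ⁅A, B⁆ ∈ D.cen X := by
  rw [commutatorElement_def]
  exact mul_mem (mul_mem (mul_mem hA hB) (inv_mem hA)) (inv_mem hB)

/-- A torus element that scales an additive family and commutes with `X` kills the pairing. -/
theorem cm_of_scale {F : Type*} [Field F] {X h : G} (P : F → G)
    (hadd : ∀ a b, P (a + b) = P a * P b) (hc : ∀ a, Commute X (P a)) (hh : Commute h X) {l : F}
    (hl : l ≠ 1) (hP : ∀ a, h * P a * h⁻¹ = P (l * a)) (a : F) : D.cm X (P a) = 1 := by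
  have add : ∀ a b, D.cm X (P (a + b)) = D.cm X (P a) * D.cm X (P b) := fun a b => by
    rw [hadd, D.cm_mul_right, Subgroup.mem_center_iff.1 (D.cm_central (hc b)) (D.sl (P a)), mul_inv_cancel_right]
  have inv : ∀ a, D.cm X (P (l * a)) = D.cm X (P a) := fun a => by
    have e := D.conj_cm (D.sl h) X (P a)
    rw [D.π_sl, hh.eq, mul_inv_cancel_right, hP,
      Subgroup.mem_center_iff.1 (D.cm_central (hc a)) (D.sl h), mul_inv_cancel_right] at e
    exact e.symm
  have h1 : (l - 1) ≠ 0 := sub_ne_zero.2 hl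
  have e := add ((l - 1) * (a / (l - 1))) (a / (l - 1))
  rw [show (l - 1) * (a / (l - 1)) + a / (l - 1) = l * (a / (l - 1)) by ring, inv, mul_div_cancel₀ _ h1] at e
  exact mul_eq_right.1 e.symm

/-- Lifts agree with a homomorphism on commutators. -/
theorem cm_hom {A : Type*} [Group A] (f : A →* E) (x y : A) :
    D.cm (D.π (f x)) (D.π (f y)) = f ⁅x, y⁆ := by rw [← D.cm_eq, map_commutatorElement]

end CExt

end CfsgLib.MultPSU
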