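import Cfsg.Agent.MultPSU.ThreeTools
import Cfsg.Agent.MultPSU.Central
import Cfsg.Agent.FusionSub.PSUThree

/-!
# The monomial group of `SU₃(q)` and the prime three

For `3 ∣ q + 1` the diagonal torus and the three-cycle contain a Sylow 3-subgroup; the preimage of the
torus is abelian and the displacements of the three-cycle on it miss the kernel.
-/

set_option autoImplicit false
set_option linter.style.haveILetI false

namespace CfsgLib.MultPSU.Three

open Matrix CfsgLib.FusionSub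
open scoped commutatorElement MatrixGroups Pointwise

section General

variable {E G : Type*} [Group E] [Group G] [Finite E] {l : ℕ}

/-- The elements over central elements are central. -/
theorem Cov.mem_center (D : Cov E G l) {a : E} (ha : D.π a ∈ Subgroup.center G) : a ∈ Subgroup.center E := by
  have hk : ∀ e, ⁅e, a⁆ ∈ D.π.ker := fun e => by
    rw [MonoidHom.mem_ker, map_commutatorElement, commutatorElement_eq_one_iff_commute]
    exact Subgroup.mem_center_iff.1 ha _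
  let φ : E →* Subgroup.center E := MonoidHom.mk' (fun e => ⟨⁅e, a⁆, D.central (hk e)⟩) fun e e' =>
    Subtype.ext (by
      show ⁅e * e', a⁆ = ⁅e, a⁆ * ⁅e', a⁆
      have h := Subgroup.mem_center_iff.1 (D.central (hk e')) e
      calc ⁅e * e', a⁆ = e * ⁅e', a⁆ * e⁻¹ * ⁅e, a⁆ := by simp only [commutatorElement_def]; group
        _ = ⁅e', a⁆ * ⁅e, a⁆ := by rw [h, mul_inv_cancel_right]
        _ = _ := (Subgroup.mem_center_iff.1 (D.central (hk e')) _).symm)
  have h1 : ⁅(⊤ : Subgroup E), ⊤⁆ ≤ φ.ker := Subgroup.commutator_le.2 fun x _ y _ => by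
    rw [MonoidHom.mem_ker, map_commutatorElement, commutatorElement_eq_one_iff_commute]
    exact Subtype.ext (Subgroup.mem_center_iff.1 (φ y).2 _)
  rw [← commutator_def, D.perfect] at h1
  refine Subgroup.mem_center_iff.2 fun e => ?_
  exact commutatorElement_eq_one_iff_commute.1 (congrArg Subtype.val (h1 (Subgroup.mem_top e)))

/-- The central extension underlying `D`. -/
def Cov.toCExt (D : Cov E G l) : CExt E G := ⟨D.π, D.surj, D.central⟩

theorem Cov.toCExt_π (D : Cov E G l) : D.toCExt.π = D.π := rfl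

/-- An abelian normal subgroup and an element normalising it: the derived group consists of
displacements. -/
theorem commutator_displacement {A H : Subgroup E} (hA : ∀ a ∈ A, ∀ b ∈ A, Commute a b) {P : E}
    (hP : ∀ a ∈ A, P * a * P⁻¹ ∈ A) (hd : ∀ h ∈ H, ∃ a ∈ A, ∃ i : ℕ, h = a * P ^ i) :
    ∀ x ∈ ⁅H, H⁆, ∃ a ∈ A, x = ⁅P, a⁆ := by
  let R : Subgroup E :=
    { carrier := {x | ∃ a ∈ A, x = ⁅P, a⁆}
      one_mem' := ⟨1, one_mem _, (commutatorElement_one_right P).symm⟩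
      mul_mem' := by
        rintro _ _ ⟨a, ha, rfl⟩ ⟨b, hb, rfl⟩
        refine ⟨a * b, mul_mem ha hb, ?_⟩
        have hb' : ⁅P, b⁆ ∈ A := by rw [commutatorElement_def]; exact mul_mem (hP b hb) (inv_mem hb)
        calc ⁅P, a⁆ * ⁅P, b⁆ = ⁅P, a⁆ * (a * ⁅P, b⁆ * a⁻¹) := by
              rw [(hA a ha _ hb').eq, mul_inv_cancel_right]
          _ = _ := by simp only [commutatorElement_def]; group
      inv_mem' := by
        rintro _ ⟨a, ha, rfl⟩
        refine ⟨a⁻¹, inv_mem ha, ?_⟩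
        have ha' : ⁅P, a⁆ ∈ A := by rw [commutatorElement_def]; exact mul_mem (hP a ha) (inv_mem ha)
        calc ⁅P, a⁆⁻¹ = a⁻¹ * ⁅P, a⁆⁻¹ * a := by
              rw [(hA _ (inv_mem ha) _ (inv_mem ha')).eq, inv_mul_cancel_right]
          _ = _ := by simp only [commutatorElement_def]; group }
  have hRA : ∀ x ∈ R, x ∈ A := by
    rintro _ ⟨a, ha, rfl⟩
    rw [commutatorElement_def]; exact mul_mem (hP a ha) (inv_mem ha)
  have hPi : ∀ i : ℕ, ∀ a ∈ A, P ^ i * a * (P ^ i)⁻¹ ∈ A ∧ ⁅P ^ i, a⁆ ∈ R := by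
    intro i
    induction i with
    | zero =>
      intro a ha
      rw [pow_zero, commutatorElement_one_left, one_mul, inv_one, mul_one]
      exact ⟨ha, one_mem R⟩
    | succ i ih =>
      intro a ha
      obtain ⟨h1, h2⟩ := ih a ha
      refine ⟨?_, ?_⟩
      · rw [show P ^ (i + 1) * a * (P ^ (i + 1))⁻¹ = P * (P ^ i * a * (P ^ i)⁻¹) * P⁻¹ by
          rw [pow_succ']; group]
        exact hP _ h1
      · rw [show ⁅P ^ (i + 1), a⁆ = ⁅P, P ^ i * a * (P ^ i)⁻¹⁆ * ⁅P ^ i, a⁆ by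
          simp only [commutatorElement_def, pow_succ']; group]
        exact mul_mem ⟨_, h1, rfl⟩ h2
  have h : ⁅H, H⁆ ≤ R := Subgroup.commutator_le.2 fun x hx y hy => by
    obtain ⟨a, ha, i, rfl⟩ := hd x hx
    obtain ⟨b, hb, j, rfl⟩ := hd y hy
    obtain ⟨-, hu⟩ := hPi i b hb
    obtain ⟨-, hv⟩ := hPi j a ha
    have e : ⁅a * P ^ i, b * P ^ j⁆ =
        a * ⁅P ^ i, b⁆ * (b * ⁅P ^ i, P ^ j⁆ * b⁻¹) * (b * (a⁻¹ * (a * ⁅P ^ j, a⁻¹⁆ * a⁻¹) * a) * a⁻¹ * b⁻¹) := by
      simp only [commutatorElement_def]; group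
    obtain ⟨-, hv'⟩ := hPi j a⁻¹ (inv_mem ha)
    rw [e, commutatorElement_eq_one_iff_commute.2 ((Commute.refl P).pow_pow i j), mul_one, mul_inv_cancel,
      mul_one]
    have c1 := hA a ha _ (hRA _ hu)
    have c2 := hA b hb _ (hRA _ hv')
    have c3 := hA a ha b hb
    have e2 : a * ⁅P ^ i, b⁆ * (b * (a⁻¹ * (a * ⁅P ^ j, a⁻¹⁆ * a⁻¹) * a) * a⁻¹ * b⁻¹) =
        ⁅P ^ i, b⁆ * ⁅P ^ j, a⁻¹⁆ := by
      rw [c1.eq, show b * (a⁻¹ * (a * ⁅P ^ j, a⁻¹⁆ * a⁻¹) * a) * a⁻¹ * b⁻¹ =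
        b * ⁅P ^ j, a⁻¹⁆ * a⁻¹ * b⁻¹ by group, c2.eq,
        show ⁅P ^ i, b⁆ * a * (⁅P ^ j, a⁻¹⁆ * b * a⁻¹ * b⁻¹) =
          ⁅P ^ i, b⁆ * (a * ⁅P ^ j, a⁻¹⁆) * (b * a⁻¹ * b⁻¹) by group,
        (hA a ha _ (hRA _ hv')).eq, (hA b hb _ (inv_mem ha)).eq]
      group
    rw [e2]
    exact mul_mem hu hv'
  exact fun x hx => h hx

end General

variable {F : Type*} [Field F] [Fintype F] {q : ℕ}

/-- The three-cycle. -/
def cyc3 : SL(3, F) := ⟨!![0, 0, 1; 1, 0, 0; 0, 1, 0], by simp [Matrix.det_fin_three]⟩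

omit [Fintype F] in
theorem coe_cyc3 : (cyc3 : SL(3, F)).1 = !![0, 0, 1; 1, 0, 0; 0, 1, 0] := rfl

omit [Fintype F] in
theorem cyc3_mem : (cyc3 : SL(3, F)) ∈ Cfsg.SU 3 F q := by
  intro u v
  show Cfsg.hermForm 3 F q ((cyc3 : SL(3, F)).1 *ᵥ u) ((cyc3 : SL(3, F)).1 *ᵥ v) = _
  simp [Cfsg.hermForm, coe_cyc3, Matrix.mulVec, dotProduct, Matrix.vecHead, Matrix.vecTail,
    Fin.sum_univ_three]
  ring

/-- The diagonal torus. -/
def dia (hF : Fintype.card F = q ^ 2) :
    GUTwo.normOne F q × GUTwo.normOne F q →* Cfsg.SU 3 F q :=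
  (embSU hF).comp (MonoidHom.codRestrict
    ((GLTwo.Δ).comp ((GUTwo.normOne F q).subtype.prodMap (GUTwo.normOne F q).subtype)) (Cfsg.GU 2 F q)
    fun t => GUTwo.Δ_mem hF t.1.2 t.2.2)

theorem coe_dia (hF : Fintype.card F = q ^ 2) (t : GUTwo.normOne F q × GUTwo.normOne F q) :
    (dia hF t).1.1 = !![((t.1 : Fˣ) : F), 0, 0; 0, ((t.2 : Fˣ) : F), 0;
      0, 0, (((t.1 : Fˣ) : F) * ((t.2 : Fˣ) : F))⁻¹] := by
  show (embThree (GLTwo.Δ ((t.1 : Fˣ), (t.2 : Fˣ)))).1 = _
  rw [coe_embThree]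
  simp [GLTwo.coe_Δ, Matrix.det_fin_two]

theorem dia_injective (hF : Fintype.card F = q ^ 2) : Function.Injective (dia (F := F) hF) := by
  intro s t e
  have e' : (dia hF s).1.1 = (dia hF t).1.1 := congrArg (fun x : Cfsg.SU 3 F q => x.1.1) e
  rw [coe_dia, coe_dia] at e'
  have h1 := congrFun (congrFun e' 0) 0
  have h2 := congrFun (congrFun e' 1) 1
  simp at h1 h2
  exact Prod.ext (Subtype.ext (Units.ext h1)) (Subtype.ext (Units.ext h2))

/-- The prime three. -/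
theorem false_torus {E : Type*} [Group E] [Finite E] (hF : Fintype.card F = q ^ 2)
    (D : Cov E (Cfsg.SU 3 F q) 3) (h3 : 3 ∣ q + 1) : False := by
  classical
  set N := GUTwo.normOne F q
  obtain ⟨g, hgen⟩ := IsCyclic.exists_generator (α := N)
  set C := D.toCExt
  set x := dia hF (g, 1) with hxd
  set y := dia hF (1, g) with hyd
  let w : Cfsg.SU 3 F q := embSU hF ⟨GLTwo.swap, GUTwo.swap_mem⟩
  let P : Cfsg.SU 3 F q := ⟨cyc3, cyc3_mem⟩
  have hw : ∀ a b : N, w * dia hF (a, b) = dia hF (b, a) * w := fun a b => by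
    show embSU hF _ * embSU hF _ = embSU hF _ * embSU hF _
    rw [← map_mul, ← map_mul]
    congr 1
    refine Subtype.ext (Units.ext ?_)
    show (GLTwo.swap : GL (Fin 2) F).1 * (GLTwo.Δ ((a : Fˣ), (b : Fˣ))).1 =
      (GLTwo.Δ ((b : Fˣ), (a : Fˣ))).1 * (GLTwo.swap : GL (Fin 2) F).1
    ext i j
    fin_cases i <;> fin_cases j <;> simp [GLTwo.swap, GLTwo.coe_Δ, Matrix.mul_apply]
  have hPc : ∀ a b : N, P * dia hF (a, b) = dia hF ((a * b)⁻¹, a) * P := fun a b => by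
    refine Subtype.ext (Subtype.ext ?_)
    show (cyc3 : SL(3, F)).1 * (dia hF (a, b)).1.1 = (dia hF ((a * b)⁻¹, a)).1.1 * (cyc3 : SL(3, F)).1
    rw [coe_dia, coe_dia, coe_cyc3]
    ext i j
    fin_cases i <;> fin_cases j <;>
      simp [Matrix.mul_apply, Fin.sum_univ_three] <;> field_simp
  have hP3 : P ^ 3 = 1 := by
    refine Subtype.ext (Subtype.ext ?_)
    show ((cyc3 : SL(3, F)) ^ 3).1 = 1
    rw [pow_three, Matrix.SpecialLinearGroup.coe_mul, Matrix.SpecialLinearGroup.coe_mul, coe_cyc3]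
    ext i j
    fin_cases i <;> fin_cases j <;> simp [Matrix.mul_apply, Fin.sum_univ_three]
  have hcxy : Commute x y := by
    rw [Commute, SemiconjBy, hxd, hyd, ← map_mul, ← map_mul, mul_comm]
  -- the pairing vanishes
  have hc : C.cm x y = 1 := by
    have hwx : w * x * w⁻¹ = y := by rw [mul_inv_eq_iff_eq_mul]; exact hw g 1
    have hwy : w * y * w⁻¹ = x := by rw [mul_inv_eq_iff_eq_mul]; exact hw 1 g
    have e := C.conj_cm (C.sl w) x y
    rw [C.π_sl, hwx, hwy, ← C.cm_swap x y,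
      Subgroup.mem_center_iff.1 (C.cm_central hcxy) (C.sl w), mul_inv_cancel_right] at e
    have hk : C.cm x y ∈ D.π.ker := by
      rw [MonoidHom.mem_ker, ← D.toCExt_π, C.π_cm, commutatorElement_eq_one_iff_commute]
      exact hcxy
    have e3 : C.cm x y ^ 3 = 1 := by
      have := congrArg Subtype.val (pow_card_eq_one' (x := (⟨_, hk⟩ : D.π.ker)))
      rwa [D.card_ker] at this
    have e2 : C.cm x y ^ 2 = 1 := by
      rw [pow_two]
      exact (congrArg (· * C.cm x y) e).trans (inv_mul_cancel _)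
    simpa using pow_gcd_eq_one.2 ⟨e3, e2⟩
  obtain ⟨X', hX'⟩ := D.surj x
  obtain ⟨Y', hY'⟩ := D.surj y
  have hXY : Commute X' Y' := C.commute_of hX' hY' hc
  -- the preimage of the torus
  set A := (dia (F := F) hF).range.comap D.π
  have hA : ∀ a ∈ A, ∀ b ∈ A, Commute a b := by
    have hd : ∀ a ∈ A, ∃ i j : ℤ, ∃ k ∈ Subgroup.center E, a = X' ^ i * Y' ^ j * k := by
      intro a ha
      obtain ⟨⟨s, t⟩, hst⟩ : D.π a ∈ (dia (F := F) hF).range := ha
      obtain ⟨i, rfl⟩ := Subgroup.mem_zpowers_iff.1 (hgen s)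
      obtain ⟨j, rfl⟩ := Subgroup.mem_zpowers_iff.1 (hgen t)
      refine ⟨i, j, (X' ^ i * Y' ^ j)⁻¹ * a, D.central ?_, by rw [mul_inv_cancel_left]⟩
      rw [MonoidHom.mem_ker, map_mul, map_inv, map_mul, map_zpow, map_zpow, hX', hY', ← hst, hxd, hyd,
        ← map_zpow, ← map_zpow, ← map_mul, ← map_inv, ← map_mul]
      rw [show ((g, 1) ^ i * (1, g) ^ j)⁻¹ * (g ^ i, g ^ j) = (1 : N × N) by simp [Prod.ext_iff], map_one]
    intro a ha b hb
    obtain ⟨i, j, k, hk, rfl⟩ := hd a ha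
    obtain ⟨i', j', k', hk', rfl⟩ := hd b hb
    have c : ∀ {u}, u ∈ Subgroup.center E → ∀ v, Commute v u := fun hu v => Subgroup.mem_center_iff.1 hu v
    refine ((c hk' _).mul_left (c hk' k)).symm.symm |> fun h1 => Commute.mul_right ?_ h1
    refine Commute.mul_left ?_ (c hk _).symm
    exact (((Commute.refl X').zpow_zpow i i').mul_right (hXY.zpow_zpow i j')).mul_left
      ((hXY.symm.zpow_zpow j i').mul_right ((Commute.refl Y').zpow_zpow j j'))
  obtain ⟨P', hP'⟩ := D.surj P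
  have hPA : ∀ a ∈ A, P' * a * P'⁻¹ ∈ A := fun a ha => by
    obtain ⟨⟨s, t⟩, hst⟩ : D.π a ∈ (dia (F := F) hF).range := ha
    exact ⟨((s * t)⁻¹, s), by rw [map_mul, map_mul, map_inv, hP', ← hst, hPc, mul_inv_cancel_right]⟩
  set X := (dia (F := F) hF).range ⊔ Subgroup.zpowers P
  have hn : Subgroup.zpowers P ≤ Subgroup.normalizer ((dia (F := F) hF).range : Set (Cfsg.SU 3 F q)) := by
    refine Subgroup.zpowers_le.2 ?_
    rw [Subgroup.mem_normalizer_iff]
    intro z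
    constructor
    · rintro ⟨⟨s, t⟩, rfl⟩
      exact ⟨((s * t)⁻¹, s), by rw [hPc, mul_inv_cancel_right]⟩
    · rintro ⟨⟨s, t⟩, e⟩
      refine ⟨(t, (s * t)⁻¹), mul_left_cancel (a := P) (mul_right_cancel (b := P⁻¹) ?_)⟩
      rw [hPc, ← e, mul_inv_cancel_right]
      congr 1
      exact Prod.ext (by show (t * (s * t)⁻¹)⁻¹ = s; rw [_root_.mul_inv_rev, inv_inv, mul_inv_cancel_right]) rfl
  have hset := Subgroup.coe_mul_of_right_le_normalizer_left (dia (F := F) hF).range (Subgroup.zpowers P) hn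
  have hXmem : ∀ z ∈ X, ∃ t ∈ (dia (F := F) hF).range, ∃ u ∈ Subgroup.zpowers P, t * u = z := fun z hz => by
    have : z ∈ ((dia (F := F) hF).range : Set (Cfsg.SU 3 F q)) * (Subgroup.zpowers P : Set (Cfsg.SU 3 F q)) :=
      hset ▸ (hz : z ∈ (X : Set (Cfsg.SU 3 F q)))
    exact Set.mem_mul.1 this
  have hcard : (q + 1) ^ 2 * 3 ∣ Nat.card X := by
    haveI := Fact.mk Nat.prime_three
    have hP1 : P ≠ 1 := fun e => by
      have := congrFun (congrFun (congrArg (fun z : Cfsg.SU 3 F q => z.1.1) e) 0) 0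
      simp [P, coe_cyc3] at this
    have hPn : ∀ u ∈ Subgroup.zpowers P, u ∈ (dia (F := F) hF).range → u = 1 := by
      intro u hu ⟨t, ht⟩
      obtain ⟨i, rfl⟩ := mem_powers_iff_mem_zpowers.2 hu
      show P ^ i = 1
      have hi : P ^ i = P ^ (i % 3) := by
        conv_lhs => rw [← Nat.mod_add_div i 3, pow_add, pow_mul, hP3, one_pow, mul_one]
      have ht' := congrArg (fun z : Cfsg.SU 3 F q => z.1.1) (ht.trans (show _ = P ^ (i % 3) from hi))
      have : i % 3 < 3 := Nat.mod_lt _ (by norm_num)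
      rw [hi]
      interval_cases h : i % 3
      · rw [pow_zero]
      · exfalso
        have := congrFun (congrFun ht' 1) 0
        simp [P, coe_dia, coe_cyc3] at this
      · exfalso
        have := congrFun (congrFun ht' 2) 0
        simp [P, coe_dia, coe_cyc3, pow_two, Matrix.mul_apply, Fin.sum_univ_three] at this
    let m : (dia (F := F) hF).range × Subgroup.zpowers P → X := fun z =>
      ⟨z.1.1 * z.2.1, mul_mem (Subgroup.mem_sup_left z.1.2) (Subgroup.mem_sup_right z.2.2)⟩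
    have hm : Function.Bijective m := by
      constructor
      · rintro ⟨a, u⟩ ⟨b, v⟩ e
        have e' : a.1 * u.1 = b.1 * v.1 := congrArg Subtype.val e
        have h1 : u.1 * v.1⁻¹ = a.1⁻¹ * b.1 := by
          rw [eq_inv_mul_iff_mul_eq, ← mul_assoc, e', mul_inv_cancel_right]
        have h2 := hPn _ (mul_mem u.2 (inv_mem v.2)) (h1 ▸ mul_mem (inv_mem a.2) b.2)
        rw [mul_inv_eq_one] at h2
        rw [h2] at e'
        exact Prod.ext (Subtype.ext (mul_right_cancel e')) (Subtype.ext h2)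
      · intro z
        obtain ⟨t, ht, u, hu, e⟩ := hXmem z z.2
        exact ⟨(⟨t, ht⟩, ⟨u, hu⟩), Subtype.ext e⟩
    rw [← Nat.card_congr (Equiv.ofBijective m hm), Nat.card_prod, Nat.card_zpowers,
      orderOf_eq_prime hP3 hP1, ← Nat.card_congr (MonoidHom.ofInjective (dia_injective hF)).toEquiv,
      Nat.card_prod, GUTwo.card_normOne hF, pow_two]
  obtain ⟨k, hk⟩ : ∃ k, q = 3 * k + 2 := ⟨q / 3, by omega⟩
  have hG : Nat.card (Cfsg.SU 3 F q) = (q + 1) ^ 2 * 3 * (q ^ 3 * (q - 1) * (3 * k ^ 2 + 3 * k + 1)) := by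
    rw [card_SU_three hF]
    have : q ^ 2 - q + 1 = 3 * (3 * k ^ 2 + 3 * k + 1) := by
      rw [hk, show (3 * k + 2) ^ 2 - (3 * k + 2) = 9 * k ^ 2 + 9 * k + 2 from Nat.sub_eq_of_eq_add (by ring)]
      ring
    rw [this]; ring
  have hm : ¬ 3 ∣ q ^ 3 * (q - 1) * (3 * k ^ 2 + 3 * k + 1) := by
    intro h
    rcases (Nat.Prime.dvd_mul Nat.prime_three).1 h with h | h
    · rcases (Nat.Prime.dvd_mul Nat.prime_three).1 h with h | h
      · have := Nat.prime_three.dvd_of_dvd_pow h; omega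
      · omega
    · have : 3 * k ^ 2 + 3 * k + 1 = 3 * (k ^ 2 + k) + 1 := by ring
      omega
  refine D.false_of_derived X (not_dvd_index hG hcard hm) ⁅X.comap D.π, X.comap D.π⁆ le_rfl ?_
  intro z hz hz1
  have hd : ∀ h ∈ X.comap D.π, ∃ a ∈ A, ∃ i : ℕ, h = a * P' ^ i := fun h hh => by
    obtain ⟨t, ht, u, hu, e⟩ := hXmem _ (Subgroup.mem_comap.1 hh)
    obtain ⟨i, rfl⟩ := mem_powers_iff_mem_zpowers.2 hu
    refine ⟨h * (P' ^ i)⁻¹, ?_, i, by rw [inv_mul_cancel_right]⟩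
    show D.π (h * (P' ^ i)⁻¹) ∈ (dia (F := F) hF).range
    rw [map_mul, map_inv, map_pow, hP', ← e]
    simpa using ht
  obtain ⟨a, ha, rfl⟩ := commutator_displacement hA hPA hd z hz
  -- a fixed torus element is scalar
  obtain ⟨⟨s, t⟩, hst⟩ : D.π a ∈ (dia (F := F) hF).range := ha
  rw [map_commutatorElement, hP', ← hst, commutatorElement_eq_one_iff_commute] at hz1
  have e : ((s * t)⁻¹, s) = (s, t) := dia_injective hF (mul_right_cancel (b := P)
    ((hPc s t).symm.trans hz1.eq))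
  obtain ⟨e1, e2⟩ := Prod.ext_iff.1 e
  simp only at e1 e2
  subst e2
  have hcen : a ∈ Subgroup.center E := by
    refine D.mem_center ?_
    rw [← hst, Subgroup.mem_center_iff]
    intro z
    refine Subtype.ext (Subtype.ext ?_)
    show z.1.1 * (dia hF (s, s)).1.1 = (dia hF (s, s)).1.1 * z.1.1
    have hs : (dia hF (s, s)).1.1 = ((s : Fˣ) : F) • (1 : Matrix (Fin 3) (Fin 3) F) := by
      have h' := congrArg (fun z : N => ((z : Fˣ) : F)) e1
      simp at h'
      rw [coe_dia]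
      ext i j
      fin_cases i <;> fin_cases j <;> simp [h']
    rw [hs, mul_smul_comm, smul_mul_assoc, mul_one, one_mul]
  rw [commutatorElement_eq_one_iff_commute]
  exact Subgroup.mem_center_iff.1 hcen P'

end CfsgLib.MultPSU.Three
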