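import Cfsg.Agent.MultPSU.ThreeTools
import Cfsg.Agent.MultPSU.Central
import Cfsg.Agent.SUThreePresentation.Model
import Cfsg.Agent.Forms.UnitaryTransvections

/-!
# The prime `p` and the root group of `SU₃(q)`

The torus kills every pairing on the root group, so the derived group of its preimage misses the
kernel.
-/

set_option autoImplicit false
set_option linter.style.haveILetI false

namespace CfsgLib.MultPSU.Three

open CfsgLib.RepBounds.Unit CfsgLib.SUThreePresentation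
open scoped commutatorElement

variable {F : Type*} [Field F] [Fintype F] {C : ConjField F}

theorem exists_norm_one_cube_ne (h3 : 3 ≤ C.q) : ∃ l : Fˣ, nrm C (l : F) = 1 ∧ mu C (l : F) ≠ 1 := by
  classical
  let N : Subgroup Fˣ := (powMonoidHom (C.q + 1) : Fˣ →* Fˣ).ker
  have hN : Nat.card N = C.q + 1 := by
    rw [IsCyclic.card_powMonoidHom_ker, Nat.card_eq_fintype_card, Fintype.card_units, C.card]
    refine Nat.gcd_eq_right ⟨C.q - 1, ?_⟩
    rw [← one_pow 2, Nat.sq_sub_sq, one_pow]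
  obtain ⟨g, hg⟩ := IsCyclic.exists_generator (α := N)
  have hn : ((g : Fˣ) : F) * C.σ (g : Fˣ) = 1 := by
    have h1 : (g : Fˣ) ^ (C.q + 1) = 1 := g.2
    rw [C.pow, ← pow_succ', ← Units.val_pow_eq_pow_val, h1, Units.val_one]
  refine ⟨g, hn, fun h => ?_⟩
  have h3' : g ^ 3 = 1 := by
    have hσ : C.σ ((g : Fˣ) : F) = ((g : Fˣ) : F)⁻¹ := eq_inv_of_mul_eq_one_right hn
    have h0 := (g : Fˣ).ne_zero
    rw [mu, hσ] at h
    field_simp at h
    exact Subtype.ext (Units.ext (by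
      rw [Subgroup.coe_pow, Units.val_pow_eq_pow_val, Subgroup.coe_one, Units.val_one]
      linear_combination (norm := ring_nf) -h))
  have h4 : orderOf g = C.q + 1 := by rw [orderOf_eq_card_of_forall_mem_zpowers hg, hN]
  have := Nat.le_of_dvd (by norm_num) (orderOf_dvd_of_pow_eq_one h3')
  omega

theorem exists_fixed_nrm_ne (h3 : 3 ≤ C.q) : ∃ b : Fˣ, nrm C (b : F) ≠ 1 := by
  classical
  by_contra h
  push Not at h
  have hall : ∀ b : Fˣ, b ^ (C.q + 1) = 1 := fun b => Units.ext (by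
    rw [Units.val_pow_eq_pow_val, Units.val_one, pow_succ', ← C.pow]; exact h b)
  obtain ⟨g, hg⟩ := IsCyclic.exists_generator (α := Fˣ)
  have h1 := orderOf_dvd_of_pow_eq_one (hall g)
  rw [orderOf_eq_card_of_forall_mem_zpowers hg, Nat.card_eq_fintype_card, Fintype.card_units, C.card] at h1
  have h2 := Nat.le_of_dvd (Nat.succ_pos _) h1
  have : 3 * C.q ≤ C.q ^ 2 := by rw [pow_two]; exact Nat.mul_le_mul_right _ h3
  omega

/-- The scalar for the pairing. -/
theorem exists_lambda (h3 : 3 ≤ C.q) : ∃ t : F, t ^ 2 + t + 1 ≠ 0 ∧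
    (∃ l : Fˣ, mu C (l : F) = t) ∧ ∃ l : Fˣ, mu C (l : F) = t + 1 := by
  classical
  obtain ⟨S, hcard, hS⟩ : ∃ S : Finset F, 5 ≤ S.card ∧
      ∀ t ∈ S, t ≠ 0 → t + 1 ≠ 0 → (∃ l : Fˣ, mu C (l : F) = t) ∧ ∃ l : Fˣ, mu C (l : F) = t + 1 := by
    rcases le_or_gt 5 C.q with h5 | h5
    · refine ⟨Finset.univ.filter fun t => C.σ t = t, ?_, fun t ht h0 h1 => ?_⟩
      · rw [← Fintype.card_subtype, ← Nat.card_eq_fintype_card]
        refine h5.trans (le_of_eq ?_)
        obtain ⟨a, ha, ha0⟩ := C.exists_skew_ne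
        rw [← C.card_skew]
        exact Nat.card_congr
          { toFun := fun z => ⟨(z : F) / a, by rw [map_div₀, C.skew_eq ha, C.skew_eq z.2, neg_div_neg_eq]⟩
            invFun := fun z => ⟨(z : F) * a, by rw [C.mem_skew, map_mul, z.2, C.skew_eq ha]; ring⟩
            left_inv := fun z => Subtype.ext (div_mul_cancel₀ _ ha0)
            right_inv := fun z => Subtype.ext (mul_div_cancel_right₀ _ ha0) }
      · have htσ : C.σ t = t := (Finset.mem_filter.1 ht).2
        exact ⟨⟨Units.mk0 t h0, mu_fixed htσ⟩,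
          ⟨Units.mk0 _ h1, mu_fixed (by simp [map_add, htσ])⟩⟩
    · refine ⟨Finset.univ, ?_, fun t _ h0 h1 => ?_⟩
      · rw [Finset.card_univ, C.card]
        nlinarith
      · have hcop : (Nat.card Fˣ).Coprime (2 * C.q - 1) := by
          rw [Nat.card_eq_fintype_card, Fintype.card_units, C.card]
          interval_cases h : C.q <;> decide
        have hmu : ∀ s : F, s ≠ 0 → ∃ l : Fˣ, mu C (l : F) = s := by
          intro s hs
          obtain ⟨l, hl⟩ := (powCoprime hcop).surjective (Units.mk0 s hs)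
          refine ⟨l, ?_⟩
          have hl' : (l : F) ^ (2 * C.q - 1) = s := by
            have := congrArg Units.val hl
            simpa using this
          rw [← hl', mu, C.pow, div_eq_iff l.ne_zero, ← pow_succ, ← pow_add]
          congr 1
          have := C.two_le
          omega
        exact ⟨hmu t h0, hmu _ h1⟩
  obtain ⟨t, ht, htn⟩ : ∃ t ∈ S, t ∉ ({0, -1} : Finset F) ∪
      (Polynomial.X ^ 2 + Polynomial.X + 1 : Polynomial F).roots.toFinset := by
    refine Finset.not_subset.1 fun hsub => ?_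
    have h1 := Finset.card_le_card hsub
    have h2 : (Polynomial.X ^ 2 + Polynomial.X + 1 : Polynomial F).natDegree ≤ 2 := by compute_degree
    have h3 := ((Multiset.toFinset_card_le _).trans (Polynomial.card_roots'
      (Polynomial.X ^ 2 + Polynomial.X + 1 : Polynomial F))).trans h2
    have h4 : ({0, -1} : Finset F).card ≤ 2 := Finset.card_le_two
    have := Finset.card_union_le ({0, -1} : Finset F)
      (Polynomial.X ^ 2 + Polynomial.X + 1 : Polynomial F).roots.toFinset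
    omega
  simp only [Finset.mem_union, Finset.mem_insert, Finset.mem_singleton, not_or, Multiset.mem_toFinset] at htn
  obtain ⟨⟨h0, h1⟩, h2⟩ := htn
  have hne : (Polynomial.X ^ 2 + Polynomial.X + 1 : Polynomial F) ≠ 0 := fun h => by
    have := congrArg (fun P => Polynomial.coeff P 0) h
    simp at this
  rw [Polynomial.mem_roots hne, Polynomial.IsRoot] at h2
  have h1' : t + 1 ≠ 0 := fun h => h1 (eq_neg_of_add_eq_zero_left h)
  exact ⟨t, by simpa using h2, hS t ht h0 h1'⟩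

section Pairing

variable {E G : Type*} [Group E] [Group G] [Finite E] {p : ℕ}

theorem commutatorElement_mul_central {t k : E} (hk : ∀ v, Commute v k) (w : E) : ⁅t * k, w⁆ = ⁅t, w⁆ := by
  have h : k * w * k⁻¹ = w := by rw [← (hk w).eq, mul_inv_cancel_right]
  calc ⁅t * k, w⁆ = t * (k * w * k⁻¹) * t⁻¹ * w⁻¹ := by simp only [commutatorElement_def]; group
    _ = _ := by rw [h, commutatorElement_def]

/-- The second coordinate over a first one. -/
noncomputable def dd (C : ConjField F) (s : F) : F := -(C.exists_trace_one.choose * (s * C.σ s))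

theorem val_dd (s : F) : Val C s (dd C s) := by
  have := C.exists_trace_one.choose_spec
  unfold Val dd
  rw [map_neg, map_mul, map_mul, C.invol]
  linear_combination -(s * C.σ s) * this

theorem exists_split (Mo : Model C G) {s d : F} (h : Val C s d) :
    ∃ z ∈ Mo.ZU, Mo.U s d = Mo.U s (dd C s) * z := by
  have hc : Val C 0 (d - dd C s) := by
    have h2 := val_dd (C := C) s
    unfold Val at *
    rw [map_sub]
    linear_combination h - h2
  exact ⟨_, ⟨_, hc, rfl⟩, by rw [Mo.U_central hc (val_dd s), add_sub_cancel]⟩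

/-- The derived group of the preimage of the root group lifts. -/
theorem exists_lift_derived (h3 : 3 ≤ C.q) (Mo : Model C G) (π : E →* G) (hs : Function.Surjective π)
    (hc : π.ker ≤ Subgroup.center E) :
    ∃ M : Subgroup E, ⁅Mo.UU.comap π, Mo.UU.comap π⁆ ≤ M ∧ ∀ x ∈ M, π x = 1 → x = 1 := by
  classical
  let D : CExt E G := ⟨π, hs, hc⟩
  have cen : ∀ {x}, π x = 1 → ∀ v, Commute v x := fun hx v => Subgroup.mem_center_iff.1 (hc hx) v
  have hzu : ∀ {z u}, z ∈ Mo.ZU → u ∈ Mo.UU → Commute z u := by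
    rintro _ _ ⟨c, hc', rfl⟩ ⟨s, d, h, rfl⟩
    exact (Mo.commute_central hc' h).symm
  have hmulr : ∀ {z u v}, z ∈ Mo.ZU → v ∈ Mo.UU → D.cm z (u * v) = D.cm z u * D.cm z v := by
    intro z u v hz hv
    rw [D.cm_mul_right, Subgroup.mem_center_iff.1 (D.cm_central (hzu hz hv)) (D.sl u), mul_inv_cancel_right]
  have hone : ∀ {z u}, z ∈ Mo.ZU → u ∈ Mo.UU → D.cm z u⁻¹ = (D.cm z u)⁻¹ := by
    intro z u hz hu
    refine eq_inv_of_mul_eq_one_left ?_
    rw [← hmulr hz hu, inv_mul_cancel, D.cm_one_right]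
  -- the centre of the root group pairs trivially with itself
  have hZZ : ∀ {z w}, z ∈ Mo.ZU → w ∈ Mo.ZU → D.cm z w = 1 := by
    rintro z _ hz ⟨c, hc', rfl⟩
    obtain ⟨r, hr⟩ := C.exists_sub_eq (show c ∈ C.skew by
      rw [C.mem_skew, val_zero_iff.1 hc']; exact add_neg_cancel c)
    have hA : Mo.U r (dd C r) ∈ Mo.UU := ⟨_, _, val_dd r, rfl⟩
    have hB : Mo.U 1 (dd C 1) ∈ Mo.UU := ⟨_, _, val_dd 1, rfl⟩
    have e := Mo.U_commutator (val_dd (C := C) r) (val_dd (C := C) 1)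
    rw [show C.σ (1 : F) * r - C.σ r * 1 = c by rw [map_one, one_mul, mul_one, hr]] at e
    rw [← e, commutatorElement_def, hmulr hz (inv_mem hB), hmulr hz (inv_mem hA), hmulr hz hB, hone hz hA,
      hone hz hB, Subgroup.mem_center_iff.1 (inv_mem (D.cm_central (hzu hz hA))) _]
    have hcB := Subgroup.mem_center_iff.1 (D.cm_central (hzu hz hB)) ((D.cm z (Mo.U r (dd C r)))⁻¹)
    rw [← mul_assoc (D.cm z (Mo.U r (dd C r)))⁻¹, inv_mul_cancel, one_mul, mul_inv_cancel]
  -- and with the whole root group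
  have hZU : ∀ {z u}, z ∈ Mo.ZU → u ∈ Mo.UU → D.cm z u = 1 := by
    intro z u hz hu
    obtain ⟨l, hl1, hl2⟩ := exists_norm_one_cube_ne h3
    let L : F → E := fun s => D.cm z (Mo.U s (dd C s))
    have hL : ∀ {s d}, Val C s d → D.cm z (Mo.U s d) = L s := by
      intro s d h
      obtain ⟨w, hw, e⟩ := exists_split Mo h
      rw [e, hmulr hz (Mo.ZU_le hw), hZZ hz hw, mul_one]
    have hadd : ∀ a b, L (a + b) = L a * L b := fun a b => by
      rw [← hL ((val_dd a).mul (val_dd b)), ← Mo.U_mul (val_dd a) (val_dd b),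
        hmulr hz ⟨_, _, val_dd b, rfl⟩]
    have hinv : ∀ a, L (mu C (l : F) * a) = L a := fun a => by
      have hzl : Mo.T l * z * (Mo.T l)⁻¹ = z := by
        obtain ⟨c, hc', rfl⟩ := id hz
        rw [Mo.T_conj l hc', mul_zero, hl1, one_mul]
      have e := D.conj_cm (D.sl (Mo.T l)) z (Mo.U a (dd C a))
      rw [D.π_sl, hzl, Mo.T_conj l (val_dd a), hL ((val_dd a).smul l.ne_zero),
        Subgroup.mem_center_iff.1 (D.cm_central (hzu hz ⟨_, _, val_dd a, rfl⟩)) (D.sl (Mo.T l)),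
        mul_inv_cancel_right] at e
      exact e.symm
    obtain ⟨s, d, h, rfl⟩ := hu
    rw [hL h]
    have h1 : mu C (l : F) - 1 ≠ 0 := sub_ne_zero.2 hl2
    have e := hadd ((mu C (l : F) - 1) * (s / (mu C (l : F) - 1))) (s / (mu C (l : F) - 1))
    rw [show (mu C (l : F) - 1) * (s / (mu C (l : F) - 1)) + s / (mu C (l : F) - 1) =
      mu C (l : F) * (s / (mu C (l : F) - 1)) by ring, hinv, mul_div_cancel₀ _ h1] at e
    exact mul_eq_right.1 e.symm
  set A := Mo.ZU.comap π with hA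
  have hAc : ∀ {x y}, x ∈ A → y ∈ Mo.UU.comap π → Commute x y := fun hx hy =>
    D.cm_eq_one_iff.1 (hZU hx hy)
  have hAA : ∀ {x y}, x ∈ A → y ∈ A → Commute x y := fun hx hy => hAc hx (Mo.ZU_le hy)
  have hTZ : ∀ (l : Fˣ) {z}, z ∈ Mo.ZU → Mo.T l * z * (Mo.T l)⁻¹ ∈ Mo.ZU := by
    rintro l _ ⟨c, hc', rfl⟩
    refine ⟨nrm C (l : F) * c, ?_, by rw [Mo.T_conj l hc', mul_zero]⟩
    simpa using hc'.smul l.ne_zero
  have hTA : ∀ (l : Fˣ) {x}, x ∈ A → D.sl (Mo.T l) * x * (D.sl (Mo.T l))⁻¹ ∈ A := fun l {x} hx => by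
    show π _ ∈ Mo.ZU
    rw [map_mul, map_mul, map_inv, show π (D.sl (Mo.T l)) = Mo.T l from D.π_sl _]
    exact hTZ l hx
  obtain ⟨b, hb⟩ := exists_fixed_nrm_ne h3
  set t := D.sl (Mo.T b) with ht
  have hπt : π t = Mo.T b := D.π_sl _
  have htA : ∀ {z}, z ∈ A → ⁅t, z⁆ ∈ A := fun hz => by
    rw [commutatorElement_def]; exact mul_mem (hTA b hz) (inv_mem hz)
  let M : Subgroup E :=
    { carrier := {x | ∃ z ∈ A, x = ⁅t, z⁆}
      one_mem' := ⟨1, one_mem _, (commutatorElement_one_right t).symm⟩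
      mul_mem' := by
        rintro _ _ ⟨x, hx, rfl⟩ ⟨y, hy, rfl⟩
        refine ⟨x * y, mul_mem hx hy, ?_⟩
        calc ⁅t, x⁆ * ⁅t, y⁆ = ⁅t, x⁆ * (x * ⁅t, y⁆ * x⁻¹) := by
              rw [(hAA hx (htA hy)).eq, mul_inv_cancel_right]
          _ = _ := by simp only [commutatorElement_def]; group
      inv_mem' := by
        rintro _ ⟨x, hx, rfl⟩
        refine ⟨x⁻¹, inv_mem hx, ?_⟩
        calc ⁅t, x⁆⁻¹ = x⁻¹ * ⁅t, x⁆⁻¹ * x := by
              rw [(hAA (inv_mem hx) (inv_mem (htA hx))).eq, inv_mul_cancel_right]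
          _ = _ := by simp only [commutatorElement_def]; group }
  have hMA : ∀ {x}, x ∈ M → x ∈ A := by
    rintro _ ⟨z, hz, rfl⟩; exact htA hz
  have hMK : ∀ x ∈ M, π x = 1 → x = 1 := by
    rintro _ ⟨z, hz, rfl⟩ h
    obtain ⟨c, hc', e⟩ : π z ∈ Mo.ZU := hz
    rw [map_commutatorElement, hπt, e, commutatorElement_def, Mo.T_conj b hc', mul_zero, mul_inv_eq_one,
      Mo.U_eq_iff (by simpa using hc'.smul b.ne_zero) hc'] at h
    have hc0 : c = 0 := by
      by_contra hc0
      exact hb ((mul_eq_right₀ hc0).1 h.2)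
    subst hc0
    rw [Mo.U_zero] at e
    exact commutatorElement_eq_one_iff_commute.2 (cen e t)
  have hKM : ∀ {x}, x ∈ A → ∃ m ∈ M, π (x * m⁻¹) = 1 := by
    intro x hx
    obtain ⟨c, hc', e⟩ : π x ∈ Mo.ZU := hx
    have hν : nrm C (b : F) - 1 ≠ 0 := sub_ne_zero.2 hb
    have hc'' : Val C 0 (c / (nrm C (b : F) - 1)) := by
      rw [val_zero_iff] at hc' ⊢
      rw [map_div₀, map_sub, map_one, nrm_fixed, hc', neg_div]
    have hy : D.sl (Mo.U 0 (c / (nrm C (b : F) - 1))) ∈ A := by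
      show π _ ∈ Mo.ZU
      rw [show π (D.sl _) = _ from D.π_sl _]
      exact ⟨_, hc'', rfl⟩
    refine ⟨_, ⟨_, hy, rfl⟩, ?_⟩
    rw [map_mul, map_inv, map_commutatorElement, hπt, show π (D.sl _) = _ from D.π_sl _, e,
      commutatorElement_def, Mo.T_conj b hc'', mul_zero, Mo.U_inv hc'', neg_zero, mul_inv_eq_one]
    have hv : Val C 0 (nrm C (b : F) * (c / (nrm C (b : F) - 1))) := by
      simpa using hc''.smul b.ne_zero
    have hv' : Val C 0 (C.σ (c / (nrm C (b : F) - 1))) := by simpa using hc''.inv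
    rw [Mo.U_central hv' hv]
    congr 1
    rw [val_zero_iff.1 hc'']
    field_simp
    ring
  refine ⟨M, ?_, hMK⟩
  -- the quotient of the preimage of the centre
  have hnorm : (M.subgroupOf A).Normal := ⟨fun x hx g => by
    have e : g * x * g⁻¹ = x := Subtype.ext (by
      show (g : E) * x * (g : E)⁻¹ = x
      rw [(hAA g.2 x.2).eq, mul_inv_cancel_right])
    rwa [e]⟩
  let mk : A →* A ⧸ M.subgroupOf A := QuotientGroup.mk' _
  have hQ : ∀ u v : A ⧸ M.subgroupOf A, u * v = v * u := fun u v => by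
    obtain ⟨u, rfl⟩ := QuotientGroup.mk_surjective u
    obtain ⟨v, rfl⟩ := QuotientGroup.mk_surjective v
    exact congrArg mk (show u * v = v * u from Subtype.ext (hAA u.2 v.2).eq)
  have hmk : ∀ x : A, mk x = 1 ↔ (x : E) ∈ M := fun x => by
    show QuotientGroup.mk' (M.subgroupOf A) x = 1 ↔ _
    rw [QuotientGroup.mk'_apply, QuotientGroup.eq_one_iff, Subgroup.mem_subgroupOf]
  have hcmA : ∀ {u v}, u ∈ Mo.UU → v ∈ Mo.UU → D.cm u v ∈ A := by
    rintro _ _ ⟨s, d, h, rfl⟩ ⟨s', d', h', rfl⟩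
    show π _ ∈ Mo.ZU
    rw [show π (D.cm _ _) = _ from D.π_cm _ _, Mo.U_commutator h h']
    exact ⟨_, by rw [val_zero_iff, map_sub, map_mul, map_mul, C.invol, C.invol]; ring, rfl⟩
  have hmull : ∀ {u u' v}, u ∈ Mo.UU → u' ∈ Mo.UU → v ∈ Mo.UU →
      D.cm (u * u') v = D.cm u' v * D.cm u v := by
    intro u u' v hu hu' hv
    have hu2 : D.sl u ∈ Mo.UU.comap π := by
      show π _ ∈ Mo.UU
      rwa [show π (D.sl u) = u from D.π_sl u]
    rw [D.cm_mul_left, ← (hAc (hcmA hu' hv) hu2).eq, mul_inv_cancel_right]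
  let β : F → F → A ⧸ M.subgroupOf A := fun a c => mk ⟨D.cm (Mo.U a (dd C a)) (Mo.U c (dd C c)),
    hcmA ⟨_, _, val_dd a, rfl⟩ ⟨_, _, val_dd c, rfl⟩⟩
  have hswap : ∀ a c, β a c = (β c a)⁻¹ := fun a c => by
    show mk _ = (mk _)⁻¹
    rw [← map_inv]
    exact congrArg mk (Subtype.ext (D.cm_swap _ _).symm)
  have hleft : ∀ {s d}, (h : Val C s d) → ∀ c, D.cm (Mo.U s d) (Mo.U c (dd C c)) =
      D.cm (Mo.U s (dd C s)) (Mo.U c (dd C c)) := by
    intro s d h c
    obtain ⟨w, hw, e⟩ := exists_split Mo h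
    rw [e, hmull ⟨_, _, val_dd s, rfl⟩ (Mo.ZU_le hw) ⟨_, _, val_dd c, rfl⟩,
      hZU hw ⟨_, _, val_dd c, rfl⟩, one_mul]
  have haddl : ∀ a a' c, β (a + a') c = β a c * β a' c := fun a a' c => by
    rw [hQ]
    show mk _ = mk _ * mk _
    rw [← map_mul]
    refine congrArg mk (Subtype.ext ?_)
    show D.cm (Mo.U (a + a') _) _ = D.cm _ _ * D.cm _ _
    rw [← hleft ((val_dd a).mul (val_dd a')), ← Mo.U_mul (val_dd a) (val_dd a'),
      hmull ⟨_, _, val_dd a, rfl⟩ ⟨_, _, val_dd a', rfl⟩ ⟨_, _, val_dd c, rfl⟩]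
  have haddr : ∀ a c c', β a (c + c') = β a c * β a c' := fun a c c' => by
    rw [hswap, haddl, _root_.mul_inv_rev, ← hswap, ← hswap, hQ]
  have hright : ∀ {s d}, (h : Val C s d) → ∀ u, u ∈ Mo.UU → D.cm u (Mo.U s d) =
      D.cm u (Mo.U s (dd C s)) := by
    intro s d h u hu
    obtain ⟨w, hw, e⟩ := exists_split Mo h
    rw [e, D.cm_mul_right, show D.cm u w = 1 by rw [← D.cm_swap w u, hZU hw hu, inv_one], mul_one,
      mul_inv_cancel, mul_one]
  have hinv : ∀ (l : Fˣ) a c, β (mu C (l : F) * a) (mu C (l : F) * c) = β a c := fun l a c => by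
    set g := D.sl (Mo.T l)
    have hg : π g = Mo.T l := D.π_sl _
    have hx := hcmA (show Mo.U a (dd C a) ∈ Mo.UU from ⟨_, _, val_dd a, rfl⟩)
      (show Mo.U c (dd C c) ∈ Mo.UU from ⟨_, _, val_dd c, rfl⟩)
    have e := D.conj_cm g (Mo.U a (dd C a)) (Mo.U c (dd C c))
    rw [show D.π g = Mo.T l from hg, Mo.T_conj l (val_dd a), Mo.T_conj l (val_dd c),
      hright ((val_dd c).smul l.ne_zero) _ ⟨_, _, (val_dd a).smul l.ne_zero, rfl⟩,
      hleft ((val_dd a).smul l.ne_zero)] at e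
    set x := D.cm (Mo.U a (dd C a)) (Mo.U c (dd C c))
    show mk _ = mk _
    rw [show (⟨D.cm (Mo.U (mu C (l : F) * a) (dd C (mu C (l : F) * a)))
        (Mo.U (mu C (l : F) * c) (dd C (mu C (l : F) * c))), _⟩ : A) = ⟨g * x * g⁻¹, hTA l hx⟩ from
      Subtype.ext e.symm]
    obtain ⟨m, ⟨z, hz, hm⟩, hk⟩ := hKM hx
    have hx' : x = x * m⁻¹ * m := (inv_mul_cancel_right x m).symm
    have hgm : g * m * g⁻¹ ∈ M := by
      refine ⟨g * z * g⁻¹, hTA l hz, ?_⟩
      have hgt : π (t⁻¹ * (g * t * g⁻¹)) = 1 := by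
        rw [map_mul, map_inv, map_mul, map_mul, map_inv, hπt, hg,
          ← map_mul Mo.T, mul_comm l b, map_mul Mo.T, mul_inv_cancel_right, inv_mul_cancel]
      calc g * m * g⁻¹ = ⁅t * (t⁻¹ * (g * t * g⁻¹)), g * z * g⁻¹⁆ := by
            rw [hm, mul_inv_cancel_left]; simp only [commutatorElement_def]; group
        _ = _ := commutatorElement_mul_central (cen hgt) _
    refine (mul_inv_eq_one.1 ?_)
    rw [← map_inv, ← map_mul, hmk]
    show g * x * g⁻¹ * x⁻¹ ∈ M
    have hgk : g * (x * m⁻¹) * g⁻¹ = x * m⁻¹ := by rw [(cen hk g).eq, mul_inv_cancel_right]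
    rw [show g * x * g⁻¹ * x⁻¹ = g * (x * m⁻¹) * g⁻¹ * (g * m * g⁻¹ * m⁻¹) * (x * m⁻¹)⁻¹ by group, hgk,
      show x * m⁻¹ * (g * m * g⁻¹ * m⁻¹) * (x * m⁻¹)⁻¹ = g * m * g⁻¹ * m⁻¹ by
        rw [← (cen hk _).eq, mul_inv_cancel_right]]
    exact mul_mem hgm (inv_mem ⟨z, hz, hm⟩)
  have hzero : ∀ a c, β a c = 1 := by
    obtain ⟨r, hr, ⟨l, hl⟩, ⟨l', hl'⟩⟩ := exists_lambda h3
    have h1 : ∀ a c, β (r * a) c * β a (r * c) * β a c = 1 := fun a c => by
      have e := hinv l' a c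
      rw [hl', add_mul, one_mul, add_mul, one_mul, haddl, haddr, haddr] at e
      have e2 := hinv l a c
      rw [hl] at e2
      rw [e2] at e
      rw [mul_assoc] at e
      rw [mul_assoc]
      exact mul_eq_left.1 e
    have hzero' : ∀ a, β a 0 = 1 := fun a => by
      have := haddr a 0 0
      rw [add_zero] at this
      exact mul_eq_left.1 this.symm
    intro a c
    have h2 := h1 a (r * (c / (r ^ 2 + r + 1)))
    have e2 := hinv l a (c / (r ^ 2 + r + 1))
    rw [hl] at e2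
    rw [e2, ← haddr, ← haddr] at h2
    rw [← h2]
    congr 1
    have e := mul_div_cancel₀ c hr
    rw [mul_div_assoc'] at *
    linear_combination (norm := ring_nf) -e
  rw [Subgroup.commutator_le]
  intro x hx y hy
  rw [show ⁅x, y⁆ = D.cm (π x) (π y) from D.cm_eq x y]
  obtain ⟨s, d, h, e⟩ : π x ∈ Mo.UU := hx
  obtain ⟨s', d', h', e'⟩ : π y ∈ Mo.UU := hy
  rw [e, e', hright h' _ ⟨_, _, h, rfl⟩, hleft h]
  exact (hmk _).1 (hzero s s')

end Pairing

variable {ι : Type*} [Fintype ι] [DecidableEq ι] {p : ℕ}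

/-- The prime `p`. -/
theorem false_unipotent {F : Type*} [Field F] [Fintype F] {E : Type*} [Group E] [Finite E] [Fact p.Prime]
    [CharP F p] (C : ConjField F) (h3 : 3 ≤ C.q) (D : Cov E (suG C (Fin 3)) p) : False := by
  obtain ⟨Φ⟩ : Nonempty (SUThreeUnipotent.Frame C 0 (Fin 3)) := SUThreeUnipotent.exists_frame C 0
  obtain ⟨Mo⟩ := exists_model Φ (fun h => by omega)
  obtain ⟨M, h1, h2⟩ := exists_lift_derived h3 Mo D.π D.surj D.central
  have hU : Nat.card Mo.UU = C.q ^ 3 := by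
    let m : F × C.skew → Mo.UU := fun z => ⟨Mo.U z.1 (dd C z.1 + z.2), _, _, by
      have h := val_dd (C := C) z.1
      have h' := C.mem_skew.1 z.2.2
      unfold Val at *
      rw [map_add]; linear_combination h + h', rfl⟩
    have hv : ∀ z : F × C.skew, Val C z.1 (dd C z.1 + z.2) := fun z => by
      have h := val_dd (C := C) z.1
      have h' := C.mem_skew.1 z.2.2
      unfold Val at *
      rw [map_add]; linear_combination h + h'
    have hm : Function.Bijective m := by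
      constructor
      · intro z w e
        obtain ⟨e1, e2⟩ := (Mo.U_eq_iff (hv z) (hv w)).1 (congrArg Subtype.val e)
        rw [e1, add_right_inj] at e2
        exact Prod.ext e1 (Subtype.ext e2)
      · rintro ⟨_, s, d, h, rfl⟩
        refine ⟨(s, ⟨d - dd C s, ?_⟩), Subtype.ext (by simp [m])⟩
        have h' := val_dd (C := C) s
        unfold Val at *
        rw [C.mem_skew, map_sub]; linear_combination h - h'
    rw [← Nat.card_congr (Equiv.ofBijective m hm), Nat.card_prod, Nat.card_eq_fintype_card, C.card,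
      C.card_skew, ← pow_succ]
  refine D.false_of_derived Mo.UU ?_ M h1 h2
  refine not_dvd_index (c := C.q ^ 3) (m := (C.q + 1) ^ 2 * ((C.q - 1) * (C.q ^ 2 - C.q + 1))) ?_
    hU.symm.dvd ?_
  · rw [suG_fin_eq, card_SU_three C.card, mul_assoc]
  · intro h
    have hpq : p ∣ C.q := by
      have h0 : ((C.q : F)) = 0 := by
        have := Nat.cast_card_eq_zero F
        rw [C.card] at this
        push_cast at this
        exact (pow_eq_zero_iff two_ne_zero).1 this
      exact (CharP.cast_eq_zero_iff F p _).1 h0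
    have hp : p.Prime := Fact.out
    have h2' : C.q ≤ C.q ^ 2 := Nat.le_self_pow two_ne_zero _
    have hsub : C.q ^ 2 - C.q = C.q * (C.q - 1) := by rw [Nat.mul_sub, mul_one, pow_two]
    rcases (Nat.Prime.dvd_mul hp).1 h with h | h
    · exact hp.not_dvd_one ((Nat.dvd_add_right hpq).1 (hp.dvd_of_dvd_pow h))
    rcases (Nat.Prime.dvd_mul hp).1 h with h | h
    · exact hp.not_dvd_one ((Nat.dvd_add_right h).1 (by rwa [Nat.sub_add_cancel (by omega)]))
    · rw [hsub] at h
      exact hp.not_dvd_one ((Nat.dvd_add_right (Dvd.dvd.mul_right hpq _)).1 h)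

end CfsgLib.MultPSU.Three
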