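import Cfsg.Agent.MultPSU.ThreeLevi
import Cfsg.Agent.MultPSU.ThreeTorus
import Cfsg.Agent.MultPSU.ThreeUnipotent
import Cfsg.Agent.UnitOrders.Three
import Cfsg.Agent.AutPSU.Realise

/-!
# Perfect central extensions of `SU₃(q)`, `q ≠ 2`, are trivial
-/

set_option autoImplicit false
set_option linter.style.haveILetI false

namespace CfsgLib.MultPSU

open CfsgLib.RepBounds.Unit

universe u

namespace Three

variable {F : Type u} [Field F] [Fintype F] {q : ℕ}

/-- The primes of the Singer cycle. -/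
theorem false_singer {E : Type u} [Group E] [Finite E] {l p a : ℕ} [Fact p.Prime] [CharP F p]
    (hF : Fintype.card F = q ^ 2) (hq : q = p ^ a) (D : Cov E (Cfsg.SU 3 F q) l)
    (hl : l ∣ q ^ 2 - q + 1) (h3 : ¬ (l = 3 ∧ 3 ∣ q + 1)) : False := by
  obtain ⟨C, rfl⟩ := exists_conjField q hF
  have hq1 : 1 < C.q := C.two_le
  obtain ⟨g, hg⟩ := UnitOrders.exists_singer_odd (τ := C.σ) (p := p) (a := a) (n := 3) C.pow C.invol C.ne_id
    hF hq hq1 le_rfl (by decide)
  rw [UnitOrders.singerM_three hq1] at hg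
  set s := Nat.gcd 3 (C.q + 1)
  obtain ⟨hs1, hs2⟩ := UnitOrders.gcd_three_dvd C.q
  have hsl : ¬ l ∣ s := fun h => h3 (by
    obtain rfl := (Nat.prime_dvd_prime_iff_eq D.prime Nat.prime_three).1 (h.trans hs2)
    exact ⟨rfl, h.trans hs1⟩)
  have hdvd : s ∣ C.q ^ 2 - C.q + 1 := by
    rcases (Nat.dvd_prime Nat.prime_three).1 hs2 with e | e
    · rw [show s = 1 from e]; exact one_dvd _
    · rw [show s = 3 from e]
      have hd : 3 ∣ C.q + 1 := e ▸ hs1
      obtain ⟨k, hk⟩ : ∃ k, C.q = 3 * k + 2 := ⟨C.q / 3, by omega⟩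
      rw [hk, show (3 * k + 2) ^ 2 - (3 * k + 2) = 9 * k ^ 2 + 9 * k + 2 from Nat.sub_eq_of_eq_add (by ring)]
      exact ⟨3 * k ^ 2 + 3 * k + 1, by ring⟩
  obtain ⟨t, ht⟩ := hdvd
  have hs0 : 0 < s := Nat.gcd_pos_of_pos_left _ (by norm_num)
  rw [ht, Nat.mul_div_cancel_left _ hs0] at hg
  have hX : t ∣ Nat.card (Subgroup.zpowers g) := by
    rw [Nat.card_zpowers]
    exact hg.trans (orderOf_map_dvd (QuotientGroup.mk' _) g)
  have hm : ¬ l ∣ C.q ^ 3 * (C.q + 1) ^ 2 * (C.q - 1) * s := by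
    intro h
    rcases (Nat.Prime.dvd_mul D.prime).1 h with h | h
    · exact h3 (eq_three_of_dvd D.prime hl (by omega) h)
    · exact hsl h
  have hidx := not_dvd_index (X := Subgroup.zpowers g) (c := t)
    (m := C.q ^ 3 * (C.q + 1) ^ 2 * (C.q - 1) * s) (by rw [card_SU_three hF, ht]; ring) hX hm
  have hbot : D.π.ker = ⊥ := Schur.ker_eq_bot_of_index_zpowers D.prime g hidx D.π
    ⟨D.surj, D.central, by rw [D.perfect]; exact le_top⟩ (fun z hz => by
      have := congrArg Subtype.val (pow_card_eq_one' (x := (⟨z, hz⟩ : D.π.ker)))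
      rwa [D.card_ker] at this)
  have := D.card_ker
  rw [hbot, Subgroup.card_bot] at this
  exact D.prime.ne_one this.symm

/-- Transport along an isomorphism. -/
def Cov.trans {E G G' : Type*} [Group E] [Group G] [Group G'] {l : ℕ} (D : Cov E G l) (e : G ≃* G') :
    Cov E G' l where
  π := e.toMonoidHom.comp D.π
  surj := e.surjective.comp D.surj
  central := fun x hx => D.central (e.map_eq_one_iff.1 hx)
  perfect := D.perfect
  prime := D.prime
  card_ker := by
    rw [show (e.toMonoidHom.comp D.π).ker = D.π.ker by ext x; simp [MonoidHom.mem_ker]]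
    exact D.card_ker

theorem false_cov {C : ConjField F} (hq : C.q ≠ 2) {E : Type u} [Group E] [Finite E] {l : ℕ}
    (D : Cov E (suG C (Fin 3)) l) : False := by
  classical
  obtain ⟨p, hp⟩ := CharP.exists F
  obtain ⟨n, hpp, hn⟩ := FiniteField.card F p
  haveI := Fact.mk hpp
  obtain ⟨a, -, ha⟩ : ∃ a ≤ (n : ℕ), C.q = p ^ a :=
    (Nat.dvd_prime_pow hpp).1 (by rw [← hn, C.card]; exact dvd_pow_self _ two_ne_zero)
  have h3 : 3 ≤ C.q := by have := C.two_le; omega
  by_cases hlp : l = p
  · subst hlp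
    exact false_unipotent C h3 D
  let D' := D.trans (MulEquiv.subgroupCongr (suG_fin_eq C 3))
  by_cases h : l = 3 ∧ 3 ∣ C.q + 1
  · obtain ⟨rfl, hd⟩ := h
    exact false_torus C.card D' hd
  by_cases hl : l ∣ C.q ^ 2 - C.q + 1
  · exact false_singer C.card ha D' hl h
  refine false_levi C.card D' hlp fun hd => ?_
  rcases (Nat.Prime.dvd_mul D.prime).1 hd with hd | hd
  · rw [ha, ← pow_mul] at hd
    exact hlp ((Nat.prime_dvd_prime_iff_eq D.prime hpp).1 (D.prime.dvd_of_dvd_pow hd))
  · exact hl hd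

end Three

/-- Perfect central extensions of `SU₃(q)`, `q ≠ 2`, are trivial. -/
theorem injective_three {F : Type u} [Field F] [Fintype F] {C : ConjField F} {ι : Type} [Fintype ι]
    [DecidableEq ι] (h3 : Fintype.card ι = 3) (hq : C.q ≠ 2) {E : Type u} [Group E] [Finite E]
    (π : E →* suG C ι) (hs : Function.Surjective π) (hc : π.ker ≤ Subgroup.center E)
    (hE : commutator E = ⊤) : Function.Injective π := by
  classical
  rw [← MonoidHom.ker_eq_bot_iff]
  by_contra hne
  let e := AutPSU.reindexIso C (Fintype.equivFinOfCardEq h3)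
  obtain ⟨l, hl, hdvd⟩ := Nat.exists_prime_and_dvd (show Nat.card π.ker ≠ 1 from fun h =>
    hne (Subgroup.eq_bot_of_card_eq _ h))
  have hst : Cfsg.IsStemExtension π := ⟨hs, hc, by rw [hE]; exact le_top⟩
  haveI := Fact.mk hl
  refine Schur.not_dvd_card_ker_of_exponent_p (fun Γ _ _ τ hτ hexp => ?_) π hst hdvd
  by_contra hτne
  obtain ⟨M, hMn, hM, hcard⟩ := Schur.exists_lift_ker_card_prime τ hτ hexp hτne
  haveI := hMn
  have hst' := Schur.isStemExtension_lift τ hτ M hM
  have hGper : commutator (suG C ι) = ⊤ := by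
    rw [eq_top_iff]
    intro x _
    obtain ⟨y, rfl⟩ := hs x
    exact (QuotientGroup.eq_one_iff _).1
      (Abelianization.commutator_subset_ker (Abelianization.of.comp π) (hE ▸ Subgroup.mem_top y))
  -- a stem extension of a perfect group is perfect
  have hper : commutator (Γ ⧸ M) = ⊤ := by
    rw [eq_top_iff]
    intro x _
    obtain ⟨y, hy, hxy⟩ : QuotientGroup.lift M τ hM x ∈
        (commutator (Γ ⧸ M)).map (QuotientGroup.lift M τ hM) := by
      rw [commutator_def, Subgroup.map_commutator, Subgroup.map_top_of_surjective _ hst'.1, ← commutator_def,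
        hGper]
      exact Subgroup.mem_top _
    have hz : x * y⁻¹ ∈ commutator (Γ ⧸ M) := hst'.2.2 (by
      rw [MonoidHom.mem_ker, map_mul, map_inv, hxy, mul_inv_cancel])
    simpa using mul_mem hz hy
  exact Three.false_cov hq (Three.Cov.trans
    ({ π := QuotientGroup.lift M τ hM, surj := hst'.1, central := hst'.2.1, perfect := hper,
       prime := hl, card_ker := hcard } : Three.Cov (Γ ⧸ M) (suG C ι) l) e)

end CfsgLib.MultPSU
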