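import Cfsg.Agent.MultPSU.FiveMain
import Cfsg.Agent.MultPSU.SevenMain
import Cfsg.Agent.MultPSU.Three
import Cfsg.Agent.MultPSp.Central
import Cfsg.Agent.Forms4.UnitaryCenter
import Cfsg.Agent.Forms4.OmegaSixMinus

/-!
# The Schur multiplier of `PSU_n(q)`
-/

set_option autoImplicit false
set_option linter.unusedSectionVars false

namespace CfsgLib.MultPSU

open Matrix CfsgLib.RepBounds.Unit CfsgLib.SUThreeUnipotent CfsgLib.SUTwoGen CfsgLib.SUPres

universe u

variable {F : Type u} [Field F] [Fintype F]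

/-- `SU_N(q)` is centrally closed outside `(3, 2)`, `(4, 2)`, `(4, 3)`, `(6, 2)`. -/
theorem closed_suG (C : ConjField F) {N : ℕ} (hN : 3 ≤ N) (h3 : ¬ (N = 3 ∧ C.q = 2))
    (h4 : N = 4 → C.q ≠ 2 ∧ C.q ≠ 3) (h6 : ¬ (N = 6 ∧ C.q = 2)) : MultPSp.Closed (suG C (Fin N)) := by
  intro E _ _ π hs hc hE
  have h2 := C.two_le
  obtain rfl | hN4 : N = 3 ∨ 4 ≤ N := by omega
  · exact injective_three (Fintype.card_fin 3) (fun h => h3 ⟨rfl, h⟩) π hs hc hE
  obtain h45 | hN6 : (N = 4 ∨ N = 5) ∨ 6 ≤ N := by omega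
  · obtain ⟨Φ, -, he⟩ := exists_pframe C (0 + 2) N (by omega) (by omega)
    by_cases hq : 4 ≤ C.q
    · exact injective_small Φ h45 (fun h => he (by omega)) hq π hs hc hE
    rcases h45 with rfl | rfl
    · have := h4 rfl; omega
    · exact injective_five Φ (he rfl) (by omega) π hs hc hE
  obtain ⟨k, hk, hk'⟩ : ∃ k, 2 * (k + 1 + 2) ≤ N ∧ N ≤ 2 * (k + 1 + 2) + 1 :=
    ⟨N / 2 - 3, by omega, by omega⟩
  obtain ⟨Φ, -, he⟩ := exists_pframe C (k + 1 + 2) N hk hk'
  by_cases h : k = 0 ∧ C.q = 2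
  · obtain ⟨rfl, hq⟩ := h
    have h7 : N = 7 := by omega
    subst h7
    exact injective_seven Φ (he rfl) (Fintype.card_fin 7) π hs hc hE
  · exact injective_big Φ (by rw [Fintype.card_fin]; omega) (fun e hq => h ⟨e, hq⟩) π hs hc hE

/-- The multiplier of `PSU_n(q)`. -/
theorem multiplier_PSU {n q : ℕ} (hF : Fintype.card F = q ^ 2) (hn : 3 ≤ n) (h3 : ¬ (n = 3 ∧ q = 2))
    (h4 : n = 4 → q ≠ 2 ∧ q ≠ 3) (h6 : ¬ (n = 6 ∧ q = 2)) :
    Cfsg.HasCyclicSchurMultiplier (Cfsg.PSU n F q) (Nat.gcd n (q + 1)) := by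
  classical
  obtain ⟨C, rfl⟩ := exists_conjField q hF
  have hcl : MultPSp.Closed (Cfsg.SU n F C.q) := by
    rw [← suG_fin_eq]; exact closed_suG C hn h3 h4 h6
  have hperf := Forms4.commutator_SU_eq_top hF n hn h3
  set σ := QuotientGroup.mk' (Subgroup.center (Cfsg.SU n F C.q))
  have hk : σ.ker = Subgroup.center _ := QuotientGroup.ker_mk' _
  have hcard : Nat.card σ.ker = Nat.gcd n (C.q + 1) := by
    rw [hk]; exact Forms4.card_center_SU hF (by omega)
  have hσ : Cfsg.IsStemExtension σ :=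
    ⟨QuotientGroup.mk'_surjective _, hk.le, by rw [hperf]; exact le_top⟩
  haveI : IsCyclic σ.ker := by
    have hz : ∀ A : σ.ker, ∃ r : F, A.1.1.1 = r • 1 := fun A =>
      Forms4.exists_scalar_of_mem_center hF (by omega) (hk.le A.2)
    let i0 : Fin n := ⟨0, by omega⟩
    let f : σ.ker →* F :=
      { toFun := fun A => A.1.1.1 i0 i0
        map_one' := by simp
        map_mul' := fun A B => by
          obtain ⟨r, hr⟩ := hz A
          obtain ⟨s, hs⟩ := hz B
          show (A.1.1.1 * B.1.1.1) i0 i0 = _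
          rw [hr, hs]; simp [Matrix.mul_apply, Matrix.one_apply, mul_comm] }
    refine isCyclic_of_subgroup_isDomain f fun A B e => ?_
    obtain ⟨r, hr⟩ := hz A
    obtain ⟨s, hs⟩ := hz B
    have e' : A.1.1.1 i0 i0 = B.1.1.1 i0 i0 := e
    rw [hr, hs] at e'
    simp at e'
    exact Subtype.ext (Subtype.ext (Subtype.ext (by rw [hr, hs, e'])))
  refine MultPSL.hasCyclicSchurMultiplier_of_bound σ hσ hcard fun Δ _ _ τ hτ => ?_
  obtain ⟨f, hf⟩ := MultPSp.exists_lift hcl hperf τ hτ.1 hτ.2.1 σ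
  have hQ : commutator (Cfsg.PSU n F C.q) = ⊤ := by
    rw [commutator_def, ← Subgroup.map_top_of_surjective σ (QuotientGroup.mk'_surjective _),
      ← Subgroup.map_commutator, ← commutator_def, hperf]
  have hs : Function.Surjective (τ.comp f) := fun y => by
    obtain ⟨x, rfl⟩ := QuotientGroup.mk'_surjective _ y
    exact ⟨x, hf x⟩
  have htop : f.range = ⊤ := by
    rw [MonoidHom.range_eq_map, ← hperf, SchurTheory.map_commutator_eq τ hτ.2.1 f hs,
      MultPSL.commutator_eq_top_of_stem τ hτ hQ]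
  exact Nat.card_le_card_of_surjective f (MonoidHom.range_eq_top.1 htop)

end CfsgLib.MultPSU
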