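import Cfsg.Agent.MultPSU.Unipotent
import Cfsg.Agent.SUPres.Bruhat

/-!
# Kernels of order prime to `p`, four dimensions and more

The `p`-power lifts satisfy the rules of the amalgam of `SUPres`.
-/

set_option autoImplicit false
set_option linter.unusedSectionVars false
set_option linter.unusedSimpArgs false
set_option maxHeartbeats 800000

namespace CfsgLib.MultPSU

open Matrix CfsgLib.RepBounds.Unit CfsgLib.SUThreeUnipotent CfsgLib.SUTwoGen CfsgLib.SUPres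
open CfsgLib.SLnPres (tv)
open CfsgLib.SL2Pres (xU wW hD)
open CfsgLib.SpnPres (IsMon monOf isMon_monOf xD)
open CfsgLib.DnPres (eA eA_xU eA_xD eA_hD_mon)
open scoped commutatorElement

universe u

theorem tv_eq_el {n : ℕ} {F : Type*} [Field F] (i j : Fin n) (a : F) :
    (tv i j a : Matrix.SpecialLinearGroup (Fin n) F) = MultPSL.el i j a := by
  by_cases h : i = j
  · rw [tv, MultPSL.el, dif_pos h, dif_neg (not_not_intro h)]
  · rw [tv, MultPSL.el, dif_neg h, dif_pos h]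

namespace PExt

variable {E G : Type*} [Group E] [Group G] [Finite E] {p : ℕ} (D : PExt E G p)

/-- The lift of a `p`-subgroup. -/
noncomputable def liftS {P : Subgroup G} (hP : IsPGroup p P) : Subgroup E := (D.hom hP).range

theorem mem_liftS {P : Subgroup G} (hP : IsPGroup p P) {y : E} :
    y ∈ D.liftS hP ↔ ∃ x ∈ P, y = D.lf x :=
  ⟨fun ⟨x, e⟩ => ⟨x, x.2, e.symm⟩, fun ⟨x, hx, e⟩ => ⟨⟨x, hx⟩, e.symm⟩⟩

theorem pEl_mem {P : Subgroup G} (hP : IsPGroup p P) {x : G} (hx : x ∈ P) : PEl p x := by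
  obtain ⟨a, ha⟩ := hP ⟨x, hx⟩
  exact ⟨a, by simpa using congrArg Subtype.val ha⟩

theorem lf_commutator {P : Subgroup G} (hP : IsPGroup p P) {x y : G} (hx : x ∈ P) (hy : y ∈ P) :
    ⁅D.lf x, D.lf y⁆ = D.lf ⁅x, y⁆ :=
  (map_commutatorElement (D.hom hP) ⟨x, hx⟩ ⟨y, hy⟩).symm

theorem conj_mem_liftS {P : Subgroup G} (hP : IsPGroup p P) {g : E} {x : G} (hx : PEl p x)
    (h : D.π g * x * (D.π g)⁻¹ ∈ P) : g * D.lf x * g⁻¹ ∈ D.liftS hP :=
  (D.mem_liftS hP).2 ⟨_, h, D.conj_lf hx g⟩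

end PExt

variable {F : Type u} [Field F] [Fintype F] {C : ConjField F} {ι : Type} [Fintype ι] [DecidableEq ι] {k : ℕ}
  {p : ℕ} [Fact p.Prime] [CharP F p] {E : Type u} [Group E] [Finite E]

local notation "SLm" => Matrix.SpecialLinearGroup (Fin (k + 2)) F

theorem qv_skew {Φ : PFrame C (k + 2) ι} {c : F} (hc : C.σ c = -c) : QV Φ 0 c := qv_zero_iff.2 hc

theorem qv_skew_inv {Φ : PFrame C (k + 2) ι} {c : F} (hc : C.σ c = -c) : QV Φ 0 (-c⁻¹) :=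
  qv_zero_iff.2 (by rw [map_neg, map_inv₀, hc, inv_neg])

/-- The data: a lift of the Levi subgroup and a trace zero element. -/
structure HData (Φ : PFrame C (k + 2) ι) (E : Type u) [Group E] (p : ℕ) where
  D : PExt E (suG C ι) p
  ρ : Matrix.SpecialLinearGroup (Fin (k + 2)) F →* E
  hρ : ∀ M, D.π (ρ M) = lev Φ M
  c : F
  hc : C.σ c = -c
  hc0 : c ≠ 0

namespace HData

variable {Φ : PFrame C (k + 2) ι} (A : HData Φ E p)

theorem ρ_tv {i j : Fin (k + 2)} (t : F) : A.ρ (tv i j t) = A.D.lf (lev Φ (tv i j t)) :=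
  A.D.eq_lf ((by rw [tv_eq_el]; exact pEl_el i j t : PEl p (tv i j t : SLm)).map A.ρ) (A.hρ _)

theorem pEl_lev_tv (i j : Fin (k + 2)) (t : F) : PEl p (lev Φ (tv i j t)) :=
  (by rw [tv_eq_el]; exact pEl_el i j t : PEl p (tv i j t : SLm)).map (lev Φ)

/-- The exchange. -/
noncomputable def p0 : E :=
  A.D.lf (qEl Φ (.inr 0) 0 A.c) * A.D.lf (qEl Φ (.inl 0) 0 (-A.c⁻¹)) * A.D.lf (qEl Φ (.inr 0) 0 A.c)

theorem π_p0 : A.D.π A.p0 = flipEl Φ A.c 0 := by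
  rw [p0, map_mul, map_mul, A.D.π_lf (pEl_qEl (qv_skew A.hc)), A.D.π_lf (pEl_qEl (qv_skew_inv A.hc)), flipEl]

theorem commute_p0 {g : E} (h : ∀ s : SI (k + 2), ix s = 0 → ∀ γ, QV Φ 0 γ →
    Commute (A.D.π g) (qEl Φ s 0 γ)) : Commute g A.p0 :=
  ((A.D.commute_lf (pEl_qEl (qv_skew A.hc)) (h _ rfl _ (qv_skew A.hc))).mul_right
    (A.D.commute_lf (pEl_qEl (qv_skew_inv A.hc)) (h _ rfl _ (qv_skew_inv A.hc)))).mul_right
    (A.D.commute_lf (pEl_qEl (qv_skew A.hc)) (h _ rfl _ (qv_skew A.hc)))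

theorem commute_p0_fix {g : E} (h : ∀ s : SI (k + 2), ix s = 0 → app C (A.D.π g) (Φ.v s) = Φ.v s)
    (hx : app C (A.D.π g) Φ.x0 = Φ.x0) : Commute g A.p0 :=
  A.commute_p0 fun s hs _ hγ => pEl_qEl_comm (h s hs) hx hγ

theorem lev_fix {M : SLm} (hM : Triv 0 M) {s : SI (k + 2)} (hs : ix s = 0) :
    app C (lev Φ M) (Φ.v s) = Φ.v s := by
  have hMi : (M⁻¹).1 *ᵥ Pi.single 0 1 = Pi.single 0 1 := by
    have h1 : M.1 *ᵥ Pi.single 0 1 = Pi.single 0 1 := by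
      ext a
      rw [Matrix.mulVec_single_one, Matrix.col_apply, hM a 0 (Or.inr rfl), Matrix.one_apply, Pi.single_apply]
    conv_lhs => rw [← h1]
    rw [Matrix.mulVec_mulVec, ← Matrix.SpecialLinearGroup.coe_mul, inv_mul_cancel,
      Matrix.SpecialLinearGroup.coe_one, Matrix.one_mulVec]
  have hMr : ∀ b, (M⁻¹).1 0 b = (1 : Matrix (Fin (k + 2)) (Fin (k + 2)) F) 0 b := by
    intro b
    have e : (M.1 * (M⁻¹).1) 0 b = (1 : Matrix (Fin (k + 2)) (Fin (k + 2)) F) 0 b := by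
      rw [← Matrix.SpecialLinearGroup.coe_mul, mul_inv_cancel, Matrix.SpecialLinearGroup.coe_one]
    rw [← e, Matrix.mul_apply, Finset.sum_eq_single 0]
    · rw [hM 0 0 (Or.inl rfl), Matrix.one_apply_eq, one_mul]
    · intro x _ hx
      rw [hM 0 x (Or.inl rfl), Matrix.one_apply_ne (Ne.symm hx), zero_mul]
    · simp
  refine frame_ext Φ ?_ (by rw [app_lev, levMap_herm_x0])
  rintro (l | l)
  · rcases s with j | j <;> simp only [ix_inl, ix_inr] at hs <;> subst hs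
    · rw [app_lev, levMap_herm_inl]
      simp [Matrix.mulVec, dotProduct, herm_vv]
    · rw [app_lev, levMap_herm_inl, Matrix.mulVec, dotProduct, Finset.sum_eq_single 0]
      · simp only [herm_vv, Sum.swap_inr, Sum.inl.injEq, if_true, mul_one]
        rw [dual, Matrix.transpose_apply, Matrix.map_apply, hMr l, Matrix.one_apply]
        by_cases hl : l = 0
        · subst hl; simp
        · simp [hl, Ne.symm hl]
      · intro x _ hx; rw [herm_v0 Φ (by simp [hx]), mul_zero]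
      · simp
  · rcases s with j | j <;> simp only [ix_inl, ix_inr] at hs <;> subst hs
    · rw [app_lev, levMap_herm_inr, Matrix.mulVec, dotProduct, Finset.sum_eq_single 0]
      · simp only [herm_vv, Sum.swap_inl, Sum.inr.injEq, if_true, mul_one]
        rw [hM l 0 (Or.inr rfl), Matrix.one_apply]
      · intro x _ hx; rw [herm_v0 Φ (by simp [hx]), mul_zero]
      · simp
    · rw [app_lev, levMap_herm_inr]
      simp [Matrix.mulVec, dotProduct, herm_vv]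

theorem stab (M : SLm) (hM : Triv 0 M) : Commute (A.ρ M) A.p0 :=
  A.commute_p0_fix (fun s hs => by rw [A.hρ]; exact lev_fix hM hs) (by rw [A.hρ, lev_x0])

theorem mv_p0 (d : SI (k + 2)) :
    Mv Φ (A.D.π A.p0) d (if ix d = 0 then d.swap else d) := by
  rw [A.π_p0]
  obtain ⟨h1, h2, h3, -⟩ := flipEl_spec (Φ := Φ) A.hc A.hc0 0
  by_cases hd : ix d = 0
  · rw [if_pos hd]
    rcases d with j | j <;> simp only [ix_inl, ix_inr] at hd <;> subst hd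
    · exact Mv.intro h1
    · exact Mv.intro h2
  · rw [if_neg hd]; exact Mv.intro (a := 1) (by rw [one_smul]; exact h3 d hd)

theorem mv_ρ {M : SLm} {π : Equiv.Perm (Fin (k + 2))} {c : Fin (k + 2) → F} (h : IsMon M π c)
    (d : SI (k + 2)) : Mv Φ (A.D.π (A.ρ M)) d (Sum.map π π d) := by
  rw [A.hρ]
  rcases d with j | j
  · exact mv_lev_inl h j
  · exact mv_lev_inr h j

theorem comm_p1 : Commute A.p0 (A.ρ (w01 k) * A.p0 * (A.ρ (w01 k))⁻¹) := by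
  refine (A.commute_p0_fix (fun s hs => ?_) ?_).symm
  · have hw := A.mv_ρ (w01_mon (F := F) (k := k))
    set W := A.D.π (A.ρ (w01 k))
    obtain ⟨a, -, ea⟩ := (hw (Sum.map (Equiv.swap 0 1) (Equiv.swap 0 1) s)).inv
    rw [show Sum.map (Equiv.swap (0 : Fin (k + 2)) 1) (Equiv.swap 0 1)
      (Sum.map (Equiv.swap 0 1) (Equiv.swap 0 1) s) = s by rcases s with j | j <;> simp] at ea
    obtain ⟨-, -, h3, -⟩ := flipEl_spec (Φ := Φ) A.hc A.hc0 0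
    have hne : ix (Sum.map (Equiv.swap (0 : Fin (k + 2)) 1) (Equiv.swap 0 1) s) ≠ 0 := by
      rcases s with j | j <;> simp only [ix_inl, ix_inr] at hs <;> subst hs <;>
        simp [SUPres.zero_ne_one'.symm]
    rw [map_mul, map_mul, map_inv, A.π_p0, app_mul, app_mul, ea, app_smul, h3 _ hne, ← ea, app_app_inv]
  · obtain ⟨-, -, -, h4⟩ := flipEl_spec (Φ := Φ) A.hc A.hc0 0
    have hw : app C (lev Φ (w01 k))⁻¹ Φ.x0 = Φ.x0 := by
      conv_lhs => rw [← lev_x0 (Φ := Φ) (w01 k)]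
      rw [app_inv_app]
    rw [map_mul, map_mul, map_inv, A.π_p0, A.hρ, app_mul, app_mul, hw, h4, lev_x0]

theorem conj_eA {x : E}
    (h1 : ∀ t, ∃ s, x * A.ρ (tv 0 1 t) * x⁻¹ = A.ρ (tv 0 1 s) ∨ x * A.ρ (tv 0 1 t) * x⁻¹ = A.ρ (tv 1 0 s))
    (h2 : ∀ t, ∃ s, x * A.ρ (tv 1 0 t) * x⁻¹ = A.ρ (tv 0 1 s) ∨ x * A.ρ (tv 1 0 t) * x⁻¹ = A.ρ (tv 1 0 s))
    (g : Matrix.SpecialLinearGroup (Fin 2) F) :
    ∃ g', x * A.ρ (eA 0 1 g) * x⁻¹ = A.ρ (eA 0 1 g') := by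
  induction g using CfsgLib.Linear.sl_induction with
  | hone => exact ⟨1, by simp⟩
  | htransvec i j hij r =>
    have e : eA (0 : Fin (k + 2)) 1 (Matrix.SpecialLinearGroup.transvection hij r) = tv 0 1 r ∨
        eA (0 : Fin (k + 2)) 1 (Matrix.SpecialLinearGroup.transvection hij r) = tv 1 0 r := by
      fin_cases i <;> fin_cases j <;> simp only [ne_eq, not_true_eq_false] at hij ⊢
      · left
        rw [← eA_xU SUPres.zero_ne_one']
        congr 1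
        apply Subtype.ext
        ext a b
        fin_cases a <;> fin_cases b <;>
          simp [xU, Matrix.SpecialLinearGroup.transvection_coe, Matrix.transvection, Matrix.single]
      · right
        rw [← eA_xD SUPres.zero_ne_one']
        congr 1
        apply Subtype.ext
        ext a b
        fin_cases a <;> fin_cases b <;>
          simp [xD, Matrix.SpecialLinearGroup.transvection_coe, Matrix.transvection, Matrix.single]
    rcases e with e | e <;> rw [e]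
    · obtain ⟨s, hs | hs⟩ := h1 r
      · exact ⟨xU s, by rw [hs, eA_xU SUPres.zero_ne_one']⟩
      · exact ⟨xD s, by rw [hs, eA_xD SUPres.zero_ne_one']⟩
    · obtain ⟨s, hs | hs⟩ := h2 r
      · exact ⟨xU s, by rw [hs, eA_xU SUPres.zero_ne_one']⟩
      · exact ⟨xD s, by rw [hs, eA_xD SUPres.zero_ne_one']⟩
  | hmul a b ha hb =>
    obtain ⟨a', ha⟩ := ha
    obtain ⟨b', hb⟩ := hb
    refine ⟨a' * b', ?_⟩
    rw [map_mul, map_mul, map_mul, map_mul, ← ha, ← hb]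
    group

theorem conj_ρ_tv {x : E} {i j i' j' : Fin (k + 2)} (hij : i ≠ j) (hij' : i' ≠ j')
    (hi : Mv Φ (A.D.π x) (.inl i) (.inl i')) (hj : Mv Φ (A.D.π x) (.inr j) (.inr j')) (t : F) :
    ∃ s, x * A.ρ (tv i j t) * x⁻¹ = A.ρ (tv i' j' s) := by
  obtain ⟨a, -, ea⟩ := hi
  obtain ⟨b, -, eb⟩ := hj
  refine ⟨C.σ b * a * t, ?_⟩
  rw [A.ρ_tv, A.D.conj_lf (pEl_lev_tv i j t), lev_tv hij, conj_pEl eb ea (by simp [hij]), ← lev_tv hij',
    ← A.ρ_tv]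

theorem conj_ρ_tv_swap {x : E} {i j i' j' : Fin (k + 2)} (hij : i ≠ j) (hij' : i' ≠ j')
    (hi : Mv Φ (A.D.π x) (.inl i) (.inr j')) (hj : Mv Φ (A.D.π x) (.inr j) (.inl i')) (t : F) :
    ∃ s, x * A.ρ (tv i j t) * x⁻¹ = A.ρ (tv i' j' s) := by
  obtain ⟨a, -, ea⟩ := hi
  obtain ⟨b, -, eb⟩ := hj
  refine ⟨-C.σ (C.σ b * a * t), ?_⟩
  rw [A.ρ_tv, A.D.conj_lf (pEl_lev_tv i j t), lev_tv hij, conj_pEl eb ea (by simp [hij]),
    pEl_symm (by simp [hij'.symm]), ← lev_tv hij', ← A.ρ_tv]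

theorem mv_pq (d : SI (k + 2)) :
    Mv Φ (A.D.π (A.p0 * (A.ρ (w01 k) * A.p0 * (A.ρ (w01 k))⁻¹))) d
      (if ix d = 0 ∨ ix d = 1 then d.swap else d) := by
  have h01 : (0 : Fin (k + 2)) ≠ 1 := SUPres.zero_ne_one'
  have hw := A.mv_ρ (w01_mon (F := F) (k := k))
  have hq : ∀ d, Mv Φ (A.D.π (A.ρ (w01 k) * A.p0 * (A.ρ (w01 k))⁻¹)) d (if ix d = 1 then d.swap else d) := by
    intro d
    obtain ⟨b, rfl⟩ : ∃ b, Sum.map (Equiv.swap 0 1) (Equiv.swap 0 1) b = d :=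
      ⟨Sum.map (Equiv.swap 0 1) (Equiv.swap 0 1) d, by rcases d with j | j <;> simp⟩
    rw [map_mul, map_mul, map_inv]
    have hix : ix (Sum.map (Equiv.swap (0 : Fin (k + 2)) 1) (Equiv.swap 0 1) b) = Equiv.swap 0 1 (ix b) := by
      cases b <;> rfl
    have hp := A.mv_p0 b
    by_cases h : ix b = 0
    · rw [if_pos (by rw [hix, h, Equiv.swap_apply_left])]
      rw [if_pos h] at hp
      refine Mv.mul (Mv.mul ?_ hp) (hw b).inv
      have := hw b.swap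
      cases b <;> exact this
    · rw [if_neg (fun e => h (by
        rw [hix] at e
        exact (Equiv.swap (0 : Fin (k + 2)) 1).injective (e.trans (Equiv.swap_apply_left _ _).symm)))]
      rw [if_neg h] at hp
      exact ((hw b).mul hp).mul (hw b).inv
  rw [map_mul]
  have h1 := hq d
  by_cases hd : ix d = 1
  · rw [if_pos (Or.inr hd)]
    rw [if_pos hd] at h1
    have h2 := A.mv_p0 d.swap
    rw [ix_swap, if_neg (by rw [hd]; exact h01.symm)] at h2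
    exact h2.mul h1
  · rw [if_neg hd] at h1
    have h2 := A.mv_p0 d
    by_cases hd0 : ix d = 0
    · rw [if_pos (Or.inl hd0)]
      rw [if_pos hd0] at h2
      exact h2.mul h1
    · rw [if_neg (not_or.2 ⟨hd0, hd⟩)]
      rw [if_neg hd0] at h2
      exact h2.mul h1

theorem tau (g : Matrix.SpecialLinearGroup (Fin 2) F) :
    ∃ g', A.p0 * (A.ρ (w01 k) * A.p0 * (A.ρ (w01 k))⁻¹) * A.ρ (eA 0 1 g) *
      (A.p0 * (A.ρ (w01 k) * A.p0 * (A.ρ (w01 k))⁻¹))⁻¹ = A.ρ (eA 0 1 g') := by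
  have h01 : (0 : Fin (k + 2)) ≠ 1 := SUPres.zero_ne_one'
  refine A.conj_eA (fun t => ?_) (fun t => ?_) g
  · obtain ⟨s, hs⟩ := A.conj_ρ_tv_swap h01 h01.symm (i' := 1) (j' := 0)
      (by have := A.mv_pq (.inl 0); simpa [-map_mul] using this) (by have := A.mv_pq (.inr 1); simpa [-map_mul] using this) t
    exact ⟨s, Or.inr hs⟩
  · obtain ⟨s, hs⟩ := A.conj_ρ_tv_swap h01.symm h01 (i' := 0) (j' := 1)
      (by have := A.mv_pq (.inl 1); simpa [-map_mul] using this) (by have := A.mv_pq (.inr 0); simpa [-map_mul] using this) t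
    exact ⟨s, Or.inl hs⟩

theorem mv_kk (a : Fˣ) (d : SI (k + 2)) :
    Mv Φ (A.D.π (A.p0 * A.ρ (h01 k a) * A.p0⁻¹)) d d := by
  rw [map_mul, map_mul, map_inv]
  have hh : ∀ d, Mv Φ (A.D.π (A.ρ (h01 k a))) d d := fun d => by
    simpa using A.mv_ρ (h01_mon (k := k) a) d
  by_cases hd : ix d = 0
  · have h2 := A.mv_p0 d.swap
    rw [ix_swap, if_pos hd, Sum.swap_swap] at h2
    exact (h2.mul (hh _)).mul h2.inv
  · have h2 := A.mv_p0 d
    rw [if_neg hd] at h2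
    exact (h2.mul (hh _)).mul h2.inv

theorem knorm (a : Fˣ) (r : F) : ∃ r', A.p0 * A.ρ (h01 k a) * A.p0⁻¹ * A.ρ (tv 0 1 r) *
    (A.p0 * A.ρ (h01 k a) * A.p0⁻¹)⁻¹ = A.ρ (tv 0 1 r') :=
  A.conj_ρ_tv SUPres.zero_ne_one' SUPres.zero_ne_one' (A.mv_kk a _) (A.mv_kk a _) r

theorem kcomm (a b : Fˣ) : Commute (A.ρ (h01 k b)) (A.p0 * A.ρ (h01 k a) * A.p0⁻¹) := by
  set x := A.p0 * A.ρ (h01 k a) * A.p0⁻¹ with hx
  have h01 : (0 : Fin (k + 2)) ≠ 1 := SUPres.zero_ne_one'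
  obtain ⟨g', hg⟩ := A.conj_eA (x := x) (fun t => by
      obtain ⟨s, hs⟩ := A.conj_ρ_tv h01 h01 (A.mv_kk a _) (A.mv_kk a _) t
      exact ⟨s, Or.inl hs⟩) (fun t => by
      obtain ⟨s, hs⟩ := A.conj_ρ_tv h01.symm h01.symm (A.mv_kk a _) (A.mv_kk a _) t
      exact ⟨s, Or.inr hs⟩) (hD b)
  have hm := eA_hD_mon (F := F) (0 : Fin (k + 2)) 1 h01 b
  have hcomm : Commute (A.D.π x) (lev Φ (eA 0 1 (hD b))) := by
    refine Φ.ext_app (fun c => ?_) ?_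
    · obtain ⟨s, -, es⟩ := A.mv_kk a c
      obtain ⟨t, -, et⟩ : Mv Φ (lev Φ (eA 0 1 (hD b))) c c := by
        rw [← A.hρ]; simpa using A.mv_ρ hm c
      rw [app_mul, app_mul, es, et, app_smul, app_smul, es, et, smul_smul, smul_smul, mul_comm]
    · have hxx : app C (A.D.π x) Φ.x0 = Φ.x0 := by
        obtain ⟨-, -, -, h4⟩ := flipEl_spec (Φ := Φ) A.hc A.hc0 0
        have h4' : app C (flipEl Φ A.c 0)⁻¹ Φ.x0 = Φ.x0 := by
          conv_lhs => rw [← h4]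
          rw [app_inv_app]
        rw [hx, map_mul, map_mul, map_inv, A.π_p0, A.hρ, app_mul, app_mul, h4', lev_x0, h4]
      rw [app_mul, app_mul, lev_x0, hxx, lev_x0]
  have e := congrArg A.D.π hg
  rw [map_mul, map_mul, map_inv, A.hρ, A.hρ, hcomm.eq, mul_inv_cancel_right] at e
  rw [← lev_injective e] at hg
  exact (mul_inv_eq_iff_eq_mul.1 hg).symm

theorem scale_h01 (a : Fˣ) :
    app C (A.D.π (A.ρ (h01 k a))) (Φ.v (.inl 0)) = (a : F) • Φ.v (.inl 0) ∧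
    app C (A.D.π (A.ρ (h01 k a))) (Φ.v (.inr 0)) = (C.σ (a : F))⁻¹ • Φ.v (.inr 0) ∧
    app C (A.D.π (A.ρ (h01 k a))) Φ.x0 = (1 : F) • Φ.x0 := by
  rw [A.hρ]
  refine ⟨?_, ?_, by rw [lev_x0, one_smul]⟩
  · rw [lev_mon_inl (h01_mon (k := k) a)]; simp
  · rw [lev_mon_inr (h01_mon (k := k) a)]; simp

theorem conj_long {s : SI (k + 2)} {g : E} {ν : F} (hs : app C (A.D.π g) (Φ.v s) = ν • Φ.v s)
    (hx : app C (A.D.π g) Φ.x0 = (1 : F) • Φ.x0) {γ : F} (hγ : QV Φ 0 γ) :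
    g * A.D.lf (qEl Φ s 0 γ) * g⁻¹ = A.D.lf (qEl Φ s 0 (γ * (ν * C.σ ν))) := by
  rw [A.D.conj_lf (pEl_qEl hγ), conj_qEl hs hx hγ, mul_zero]

theorem norm1 (a : Fˣ) (ha : (a : F) * C.σ a = 1) : Commute A.p0 (A.ρ (h01 k a)) := by
  obtain ⟨h1, h2, h3⟩ := A.scale_h01 a
  refine (A.commute_p0 fun s hs γ hγ => ?_).symm
  obtain ⟨ν, hν, e⟩ : ∃ ν, ν * C.σ ν = 1 ∧ app C (A.D.π (A.ρ (h01 k a))) (Φ.v s) = ν • Φ.v s := by
    rcases s with j | j <;> simp only [ix_inl, ix_inr] at hs <;> subst hs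
    · exact ⟨_, ha, h1⟩
    · refine ⟨_, ?_, h2⟩
      rw [map_inv₀, C.invol, ← mul_inv, mul_comm, ha, inv_one]
  have e' := conj_qEl e h3 hγ
  rw [mul_zero, hν, mul_one] at e'
  exact mul_inv_eq_iff_eq_mul.1 e'

theorem psq : A.p0 * A.p0 ∈ (Dg (Fin (k + 2)) F).map A.ρ ⊔
    ((Dg (Fin (k + 2)) F).map A.ρ).map (MulAut.conj A.p0).toMonoidHom := by
  obtain ⟨u, hu⟩ := C.exists_norm_neg_one
  have hu0 : u ≠ 0 := by rintro rfl; simp at hu
  set x := A.ρ (h01 k (Units.mk0 u hu0)) with hx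
  obtain ⟨h1, h2, h3⟩ := A.scale_h01 (Units.mk0 u hu0)
  have hc' : QV Φ 0 (-A.c) := qv_skew (by rw [map_neg, A.hc])
  have eneg : (C.σ u)⁻¹ * C.σ ((C.σ u)⁻¹) = -1 := by
    rw [map_inv₀, C.invol, ← mul_inv, mul_comm, hu, inv_neg, inv_one]
  have e : x * A.p0 * x⁻¹ = A.p0⁻¹ := by
    rw [p0, show x * (A.D.lf (qEl Φ (.inr 0) 0 A.c) * A.D.lf (qEl Φ (.inl 0) 0 (-A.c⁻¹)) *
        A.D.lf (qEl Φ (.inr 0) 0 A.c)) * x⁻¹ = x * A.D.lf (qEl Φ (.inr 0) 0 A.c) * x⁻¹ *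
        (x * A.D.lf (qEl Φ (.inl 0) 0 (-A.c⁻¹)) * x⁻¹) * (x * A.D.lf (qEl Φ (.inr 0) 0 A.c) * x⁻¹) by group,
      A.conj_long h2 h3 (qv_skew A.hc), A.conj_long h1 h3 (qv_skew_inv A.hc)]
    simp only [Units.val_mk0, eneg, hu, mul_neg, mul_one, neg_neg, _root_.mul_inv_rev, ← mul_assoc]
    rw [← A.D.lf_inv (pEl_qEl (qv_skew A.hc)), ← A.D.lf_inv (pEl_qEl (qv_skew_inv A.hc)),
      qEl_inv (qv_skew A.hc), qEl_inv (qv_skew_inv A.hc), A.hc, map_neg, map_inv₀, A.hc, inv_neg, neg_neg,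
      neg_zero]
  have hmem : x ∈ (Dg (Fin (k + 2)) F).map A.ρ := Subgroup.mem_map_of_mem _ (h01_mem _)
  have e2 : A.p0 * A.p0 = A.p0 * x * A.p0⁻¹ * x⁻¹ := by
    have e3 : x * A.p0⁻¹ * x⁻¹ = A.p0 := by
      have := congrArg (·⁻¹) e
      simpa [mul_assoc] using this
    calc A.p0 * A.p0 = A.p0 * (x * A.p0⁻¹ * x⁻¹) := by rw [e3]
      _ = _ := by group
  rw [e2]
  exact mul_mem (Subgroup.mem_sup_right (Subgroup.mem_map_of_mem _ hmem)) (Subgroup.mem_sup_left (inv_mem hmem))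

/-- The monomial data. -/
noncomputable def toBase : Base Φ E where
  ρ := A.ρ
  p := A.p0
  φ := A.D.π
  c := A.c
  hc := A.hc
  hc0 := A.hc0
  hφρ := A.hρ
  hφp := A.π_p0
  stab_p := A.stab
  comm_p1 := A.comm_p1
  tau := A.tau
  norm1 := A.norm1
  psq := A.psq
  kcomm := A.kcomm
  knorm := A.knorm

/-- The lifted root group of one index. -/
noncomputable def Y (c : SI (k + 2)) : Subgroup E := A.D.liftS (isPGroup_QS (Φ := Φ) c)

theorem lf_mem_Y {c : SI (k + 2)} {a γ : F} (h : QV Φ a γ) : A.D.lf (qEl Φ c a γ) ∈ A.Y c :=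
  (A.D.mem_liftS _).2 ⟨_, qEl_mem_QS h, rfl⟩

theorem XP_lift {c d : SI (k + 2)} (h : ix c ≠ ix d) :
    A.toBase.XP c d = A.D.liftS (isPGroup_PS (Φ := Φ) c d h) := by
  have key : ∀ x ∈ A.toBase.XP c d, PEl p x := by
    intro x hx
    obtain ⟨n, hn, hs⟩ := A.toBase.exists_sends h
    rw [A.toBase.XP_eq hn hs] at hx
    obtain ⟨_, ⟨t, rfl⟩, rfl⟩ := hx
    exact ((by rw [tv_eq_el]; exact pEl_el 0 1 t : PEl p (tv 0 1 t : SLm)).map A.ρ).conj n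
  ext x
  rw [A.D.mem_liftS]
  constructor
  · intro hx
    obtain ⟨r, hr⟩ := (A.toBase.XP_image h).1 x hx
    exact ⟨_, pEl_mem_PS h r, A.D.eq_lf (key x hx) hr⟩
  · rintro ⟨_, ⟨r, rfl⟩, rfl⟩
    obtain ⟨y, hy, e⟩ := (A.toBase.XP_image h).2 r
    rwa [← A.D.eq_lf (key y hy) e]

theorem cnj_w_Y : cnj (A.ρ (w01 k)) (A.Y (.inl 0)) = A.Y (.inl 1) := by
  have hm := isMono_lev (Φ := Φ) (w01_mon (F := F) (k := k))
  obtain ⟨s, hs0, es⟩ : Mv Φ (lev Φ (w01 k)) (.inl 0) (.inl 1) := by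
    simpa using mv_lev_inl (Φ := Φ) (w01_mon (F := F) (k := k)) 0
  ext y
  constructor
  · rintro ⟨x, hx, rfl⟩
    obtain ⟨_, ⟨a, γ, h, rfl⟩, rfl⟩ := (A.D.mem_liftS _).1 hx
    simp only [MulEquiv.coe_toMonoidHom, MulAut.conj_apply]
    rw [A.D.conj_lf (pEl_qEl h), A.hρ, conj_qEl' hm es h]
    exact A.lf_mem_Y (by simpa using h.scale (s := s) (ξ := 1) (by simp))
  · intro hy
    obtain ⟨_, ⟨a, γ, h, rfl⟩, rfl⟩ := (A.D.mem_liftS _).1 hy
    refine ⟨(A.ρ (w01 k))⁻¹ * A.D.lf (qEl Φ (.inl 1) a γ) * A.ρ (w01 k), ?_, by simp [mul_assoc]⟩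
    have ei : app C (lev Φ (w01 k))⁻¹ (Φ.v (.inl 1)) = s⁻¹ • Φ.v (.inl 0) := by
      have := congrArg (app C (lev Φ (w01 k))⁻¹) es
      rw [app_inv_app, app_smul] at this
      rw [this, smul_smul, inv_mul_cancel₀ hs0, one_smul]
    have := A.D.conj_lf (pEl_qEl (c := Sum.inl (1 : Fin (k + 2))) h) (A.ρ (w01 k))⁻¹
    rw [map_inv, A.hρ, inv_inv] at this
    rw [this, show lev Φ (w01 k) = (lev Φ (w01 k))⁻¹⁻¹ from (inv_inv _).symm,
      conj_qEl' (g := (lev Φ (w01 k))⁻¹⁻¹⁻¹) (by rw [inv_inv]; exact hm.inv) (by rw [inv_inv]; exact ei) h]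
    exact A.lf_mem_Y (by simpa using h.scale (s := s⁻¹) (ξ := 1) (by simp))

theorem mem_WW_q0 {a γ : F} (h : QV Φ a γ) : qEl Φ (.inl 0) a γ ∈ WW Φ :=
  Subgroup.mem_sup_right (Subgroup.mem_sup_right (Subgroup.mem_sup_left (qEl_mem_QS h)))

theorem mem_WW_q1 {a γ : F} (h : QV Φ a γ) : qEl Φ (.inl 1) a γ ∈ WW Φ :=
  Subgroup.mem_sup_right (Subgroup.mem_sup_left (qEl_mem_QS h))

theorem mem_WW_m (r : F) : pEl Φ (.inl 0) (.inr 1) r ∈ WW Φ :=
  Subgroup.mem_sup_left (pEl_mem_PS _ r)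

theorem mem_WW_p (r : F) : pEl Φ (.inl 0) (.inl 1) r ∈ WW Φ :=
  Subgroup.mem_sup_right (Subgroup.mem_sup_right (Subgroup.mem_sup_right (pEl_mem_PS _ r)))

theorem comm_m_q1 {r b δ : F} (h' : QV Φ b δ) :
    QV Φ (-r * b) (r * C.σ r * δ) ∧
      ⁅A.D.lf (pEl Φ (.inl 0) (.inr 1) r), A.D.lf (qEl Φ (.inl 1) b δ)⁆ =
        A.D.lf (qEl Φ (.inl 0) (-r * b) (r * C.σ r * δ)) * A.D.lf (pEl Φ (.inl 0) (.inl 1) (-r * δ)) := by
  have hv : QV Φ (-r * b) (r * C.σ r * δ) := by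
    unfold QV at *
    simp only [map_mul, map_neg, C.invol]
    linear_combination (r * C.σ r) * h'
  refine ⟨hv, ?_⟩
  rw [A.D.lf_commutator isPGroup_WW (mem_WW_m r) (mem_WW_q1 h'), commutatorElement_def, conj_pq h',
    mul_inv_cancel_right, mul_inv_cancel_right, A.D.lf_mul isPGroup_WW (mem_WW_q0 hv) (mem_WW_p _)]

/-- The amalgam data. -/
noncomputable def toQData : QData Φ E where
  toBase := A.toBase
  Y := A.Y (.inl 0)
  Y_inj := by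
    intro x hx h
    obtain ⟨y, hy, rfl⟩ := (A.D.mem_liftS _).1 hx
    replace h : A.D.π (A.D.lf y) = 1 := h
    rw [A.D.π_lf (PExt.pEl_mem (isPGroup_QS _) hy)] at h
    rw [h, A.D.lf_one]
  Y_img := by
    intro x hx
    obtain ⟨_, ⟨a, γ, h, rfl⟩, rfl⟩ := (A.D.mem_liftS _).1 hx
    exact ⟨a, γ, h, A.D.π_lf (pEl_qEl h)⟩
  Y_surj := fun a γ h => ⟨_, A.lf_mem_Y h, A.D.π_lf (pEl_qEl h)⟩
  Y_norm := by
    intro n hn h0
    haveI : Finite (A.Y (.inl 0)) := inferInstance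
    rw [Subgroup.mem_normalizer_iff]
    refine fun y => (mem_normalizer_fin (y := n) ?_).symm
    intro x hx
    obtain ⟨_, ⟨a, γ, h, rfl⟩, rfl⟩ := (A.D.mem_liftS _).1 hx
    obtain ⟨s, -, es⟩ := h0
    rw [A.D.conj_lf (pEl_qEl h), show A.D.π = A.toBase.φ from rfl, conj_qEl' (A.toBase.N_mono hn) es h]
    exact A.lf_mem_Y (by simpa using h.scale (s := s) (ξ := 1) (by simp))
  cPP := by
    rw [A.XP_lift ix01', A.XP_lift ix01]
    refine Subgroup.commutator_le.2 fun x hx y hy => ?_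
    obtain ⟨_, ⟨r, rfl⟩, rfl⟩ := (A.D.mem_liftS _).1 hx
    obtain ⟨_, ⟨s, rfl⟩, rfl⟩ := (A.D.mem_liftS _).1 hy
    rw [A.D.lf_commutator isPGroup_WW (mem_WW_m r) (mem_WW_p s), commutatorElement_def, conj_pp,
      mul_inv_cancel_right]
    exact A.lf_mem_Y (qv_zero_iff.2 (by simp only [map_sub, map_mul, C.invol]; ring))
  cPQa := by
    rw [A.XP_lift ix01']
    refine le_bot_iff.1 (Subgroup.commutator_le.2 fun x hx y hy => ?_)
    obtain ⟨_, ⟨r, rfl⟩, rfl⟩ := (A.D.mem_liftS _).1 hx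
    obtain ⟨_, ⟨a, γ, h, rfl⟩, rfl⟩ := (A.D.mem_liftS _).1 hy
    rw [Subgroup.mem_bot, commutatorElement_eq_one_iff_commute]
    exact A.D.commute_lf_lf (pEl_pEl (ne_of_ix ix01').2 r) (pEl_qEl h) (commute_PQ ix01' r h)
  cPQb := by
    intro i j hi hj hij t y hy
    obtain ⟨_, ⟨a, γ, h, rfl⟩, rfl⟩ := (A.D.mem_liftS _).1 hy
    refine A.D.commute_lf (pEl_qEl h) ?_
    show Commute (A.D.π (A.ρ (tv i j t))) _
    rw [A.hρ]
    refine pEl_qEl_comm ?_ (lev_x0 _) h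
    rw [lev_tv hij]
    exact app_pEl_fix (by simp [hij]) t (herm_v0 Φ (by simp [hj])) (herm_v0 Φ (by simp))
  cPQc := by
    rw [A.XP_lift ix01', A.XP_lift ix01, show A.toBase.ρ = A.ρ from rfl, A.cnj_w_Y]
    refine Subgroup.commutator_le.2 fun x hx y hy => ?_
    obtain ⟨_, ⟨r, rfl⟩, rfl⟩ := (A.D.mem_liftS _).1 hx
    obtain ⟨_, ⟨b, δ, h, rfl⟩, rfl⟩ := (A.D.mem_liftS _).1 hy
    obtain ⟨hv, e⟩ := A.comm_m_q1 (r := r) h
    rw [e]
    exact mul_mem (Subgroup.mem_sup_left (A.lf_mem_Y hv))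
      (Subgroup.mem_sup_right ((A.D.mem_liftS _).2 ⟨_, pEl_mem_PS _ _, rfl⟩))
  cQQ := by
    rw [A.XP_lift ix01, show A.toBase.ρ = A.ρ from rfl, A.cnj_w_Y]
    refine Subgroup.commutator_le.2 fun x hx y hy => ?_
    obtain ⟨_, ⟨a, γ, h, rfl⟩, rfl⟩ := (A.D.mem_liftS _).1 hx
    obtain ⟨_, ⟨b, δ, h', rfl⟩, rfl⟩ := (A.D.mem_liftS _).1 hy
    rw [A.D.lf_commutator isPGroup_WW (mem_WW_q0 h) (mem_WW_q1 h'), commutatorElement_def, qq_swap h h',
      mul_inv_cancel_right, mul_inv_cancel_right]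
    exact (A.D.mem_liftS _).2 ⟨_, pEl_mem_PS _ _, rfl⟩
  span := by
    rw [A.XP_lift ix01', A.XP_lift ix01, show A.toBase.ρ = A.ρ from rfl, A.cnj_w_Y]
    intro x hx
    obtain ⟨_, ⟨a, γ, h, rfl⟩, rfl⟩ := (A.D.mem_liftS _).1 hx
    obtain ⟨-, e⟩ := A.comm_m_q1 (r := -1) h
    simp only [map_neg, map_one, neg_neg, one_mul, mul_one, mul_neg] at e
    rw [eq_mul_inv_of_mul_eq e.symm]
    refine Subgroup.mem_sup_left (mul_mem (Subgroup.mem_sup_left ?_) (Subgroup.mem_sup_right ?_))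
    · exact Subgroup.commutator_mem_commutator ((A.D.mem_liftS _).2 ⟨_, pEl_mem_PS _ _, rfl⟩) (A.lf_mem_Y h)
    · exact inv_mem ((A.D.mem_liftS _).2 ⟨_, pEl_mem_PS _ _, rfl⟩)
  exch := by
    refine ⟨_, A.lf_mem_Y (qv_skew_inv A.hc), _, qv_skew_inv A.hc, A.D.π_lf (pEl_qEl (qv_skew_inv A.hc)), ?_⟩
    show A.p0 = _
    obtain ⟨h1, -, -, h4⟩ := flipEl_spec (Φ := Φ) A.hc A.hc0 0
    have e : A.p0 * A.D.lf (qEl Φ (.inl 0) 0 (-A.c⁻¹)) * A.p0⁻¹ = A.D.lf (qEl Φ (.inr 0) 0 A.c) := by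
      rw [A.D.conj_lf (pEl_qEl (qv_skew_inv A.hc)), A.π_p0,
        conj_qEl h1 (h4.trans (one_smul F _).symm) (qv_skew_inv A.hc), mul_zero, A.hc]
      congr 2
      field_simp [A.hc0]
    show A.p0 = A.p0 * _ * A.p0⁻¹ * _ * (A.p0 * _ * A.p0⁻¹)
    rw [e]
    rfl

end HData

end CfsgLib.MultPSU
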