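import Cfsg.Agent.MultPSU.Central
import Cfsg.Agent.MultPSU.High
import Cfsg.Agent.SUPres.Present3

/-!
# Which lifts commute, rank at least three

`Loc l X` says that `X` commutes with every isometry fixing the hyperbolic pair at `l` and `x₀`.
Torus elements then show that lifts of `X` commute with lifts of the root groups away from `l`.
-/

set_option autoImplicit false
set_option linter.unusedSectionVars false
set_option linter.unusedSimpArgs false

namespace CfsgLib.MultPSU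

open Matrix CfsgLib.RepBounds.Unit CfsgLib.SUThreeUnipotent CfsgLib.SUTwoGen CfsgLib.SUPres
open CfsgLib.SLnPres (tv)
open CfsgLib.SpnPres (IsMon monOf isMon_monOf tailEmb exists_tail)
open scoped commutatorElement

variable {F : Type*} [Field F] [Fintype F] {C : ConjField F} {ι : Type*} [Fintype ι] [DecidableEq ι] {k : ℕ}

theorem exists_scalar (C : ConjField F) : ∃ b : Fˣ, C.σ b ≠ b ∧ (b : F) ≠ 1 ∧ (b : F) * b ≠ 1 := by
  obtain ⟨x, hx⟩ : ∃ x, C.σ x ≠ x := by
    by_contra h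
    push Not at h
    exact C.ne_id (RingHom.ext h)
  have hx0 : x ≠ 0 := by rintro rfl; exact hx (map_zero _)
  refine ⟨Units.mk0 x hx0, hx, fun h => hx (by rw [Units.val_mk0] at h; rw [h, map_one]), fun h => ?_⟩
  rw [Units.val_mk0] at h
  rcases mul_self_eq_one_iff.1 h with e | e <;> exact hx (by rw [e]; simp)

section Frame

variable {m : ℕ} {Φ : PFrame C m ι}

/-- The scalars of a diagonal matrix on the frame. -/
def sc (C : ConjField F) (a : Fin m → F) : SI m → F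
  | .inl x => a x
  | .inr x => (C.σ (a x))⁻¹

theorem lev_diag_app {M : Matrix.SpecialLinearGroup (Fin m) F} {a : Fin m → F} (h : IsMon M 1 a) (d : SI m) :
    app C (lev Φ M) (Φ.v d) = sc C a d • Φ.v d := by
  rcases d with j | j
  · rw [lev_mon_inl h]; rfl
  · rw [lev_mon_inr h]; rfl

/-- Commuting with the isometries which fix the pair at `l` and `x₀`. -/
def Loc (Φ : PFrame C m ι) (l : Fin m) (X : suG C ι) : Prop :=
  ∀ g, app C g (Φ.v (.inl l)) = Φ.v (.inl l) → app C g (Φ.v (.inr l)) = Φ.v (.inr l) →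
    app C g Φ.x0 = Φ.x0 → Commute g X

theorem loc_qEl {c : SI m} {a γ : F} (hv : QV Φ a γ) : Loc Φ (ix c) (qEl Φ c a γ) := by
  intro g h1 h2 h3
  refine pEl_qEl_comm ?_ h3 hv
  rcases c with j | j
  · exact h1
  · exact h2

theorem Loc.mul {l : Fin m} {X Y : suG C ι} (hX : Loc Φ l X) (hY : Loc Φ l Y) : Loc Φ l (X * Y) :=
  fun g h1 h2 h3 => (hX g h1 h2 h3).mul_right (hY g h1 h2 h3)

theorem loc_flipEl {c : F} (hc : C.σ c = -c) (l : Fin m) : Loc Φ l (flipEl Φ c l) :=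
  ((loc_qEl (c := Sum.inr l) (qv_zero_iff.2 hc)).mul (loc_qEl (c := Sum.inl l)
    (qv_zero_iff.2 (by rw [map_neg, map_inv₀, hc, inv_neg])))).mul (loc_qEl (c := Sum.inr l) (qv_zero_iff.2 hc))

theorem fix_conj {w g : suG C ι} {v v' : ι → F} {a : F} (ha : a ≠ 0) (hw : app C w v' = a • v)
    (hg : app C g v = v) : app C (w⁻¹ * g * w) v' = v' := by
  rw [app_mul, app_mul, hw, app_smul, hg, ← hw, app_inv_app]

theorem Loc.conj {l l' : Fin m} {X w : suG C ι} (hX : Loc Φ l X) (h1 : Mv Φ w (.inl l) (.inl l'))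
    (h2 : Mv Φ w (.inr l) (.inr l')) (hx : app C w Φ.x0 = Φ.x0) : Loc Φ l' (w * X * w⁻¹) := by
  intro g g1 g2 g3
  obtain ⟨a, ha, ea⟩ := h1
  obtain ⟨b, hb, eb⟩ := h2
  have := hX (w⁻¹ * g * w) (fix_conj ha ea g1) (fix_conj hb eb g2)
    (fix_conj (v := Φ.x0) one_ne_zero (hx.trans (one_smul F _).symm) g3)
  have := this.map (MulAut.conj w).toMonoidHom
  simp only [MulEquiv.coe_toMonoidHom, MulAut.conj_apply] at this
  rwa [show w * (w⁻¹ * g * w) * w⁻¹ = g by group] at this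

theorem app_pEl_ix {c d : SI m} (h : ix c ≠ ix d) {e : SI m} (hc : ix e ≠ ix c) (hd : ix e ≠ ix d) (r : F) :
    app C (pEl Φ c d r) (Φ.v e) = Φ.v e :=
  app_pEl_fix (ne_of_ix h).2 r (herm_v0 Φ (fun x => hc (by rw [x, ix_swap])))
    (herm_v0 Φ (fun x => hd (by rw [x, ix_swap])))

theorem pEl_x0 {c d : SI m} (h : ix c ≠ ix d) (r : F) : app C (pEl Φ c d r) Φ.x0 = Φ.x0 :=
  app_pEl_fix (ne_of_ix h).2 r (Φ.xv _) (Φ.xv _)

/-- The conjugate of a root element by an element with two known images. -/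
theorem conj_pEl' {g : suG C ι} {c d c' d' : SI m} {a b : F} (hc : app C g (Φ.v c) = a • Φ.v c')
    (hd : app C g (Φ.v d) = b • Φ.v d') (h : ix c ≠ ix d) (r : F) :
    g * pEl Φ c d r * g⁻¹ = pEl Φ c' d' (C.σ a * b * r) :=
  conj_pEl hc hd (ne_of_ix h).2 r

end Frame

variable {Φ : PFrame C (k + 1 + 2) ι} {E : Type*} [Group E] (D : CExt E (suG C ι))

local notation "SLm" => Matrix.SpecialLinearGroup (Fin (k + 1 + 2)) F

theorem exists_other (i j : Fin (k + 1 + 2)) : ∃ l, l ≠ i ∧ l ≠ j := by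
  by_contra h
  push Not at h
  have h2 : (Finset.univ : Finset (Fin (k + 1 + 2))).card ≤ ({i, j} : Finset (Fin (k + 1 + 2))).card := by
    refine Finset.card_le_card fun x _ => ?_
    simp only [Finset.mem_insert, Finset.mem_singleton]
    by_cases hx : x = i
    · exact Or.inl hx
    · exact Or.inr (h x hx)
  have h3 := h2.trans Finset.card_le_two
  rw [Finset.card_univ, Fintype.card_fin] at h3
  omega

/-- Root groups of two indices other than `l` commute with `Loc l`. -/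
theorem pEl_mem_cen {l : Fin (k + 1 + 2)} {X : suG C ι} (hX : Loc Φ l X) {c d : SI (k + 1 + 2)}
    (h : ix c ≠ ix d) (hc : l ≠ ix c) (hd : l ≠ ix d) (r : F) : pEl Φ c d r ∈ D.cen X := by
  obtain ⟨b, hb, hb1, hb2⟩ := exists_scalar C
  have hm := hh_mon (F := F) h b
  have hb0 := b.ne_zero
  have hσ : C.σ (b : F) ≠ 0 := (map_ne_zero C.σ).2 hb0
  have hl : ∀ s : SI (k + 1 + 2), ix s = l → app C (lev Φ (hh (ix c) (ix d) b)) (Φ.v s) = Φ.v s := fun s hs => by
    rw [lev_diag_app hm]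
    rcases s with j | j <;> simp only [ix_inl, ix_inr] at hs <;> subst hs <;> simp [sc, hc, hd]
  rw [D.mem_cen]
  refine D.cm_of_scale (fun t => pEl Φ c d t) (fun s t => pEl_add (ne_of_ix h).2 s t)
    (fun t => (hX _ (app_pEl_ix h (e := .inl l) hc hd t) (app_pEl_ix h (e := .inr l) hc hd t) (pEl_x0 h t)).symm)
    (hX _ (hl _ rfl) (hl _ rfl) (lev_x0 _)) (l := C.σ (sc C (fun x => if x = ix c then (b : F)
      else if x = ix d then ((b⁻¹ : Fˣ) : F) else 1) c) * sc C (fun x => if x = ix c then (b : F)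
      else if x = ix d then ((b⁻¹ : Fˣ) : F) else 1) d) ?_
    (fun t => conj_pEl' (lev_diag_app hm c) (lev_diag_app hm d) h t) r
  rcases c with i | i <;> rcases d with j | j <;> simp only [ix_inl, ix_inr] at h ⊢ <;>
    simp only [sc, if_true, h.symm, if_false, Units.val_inv_eq_inv_val, map_inv₀, C.invol, inv_inv] <;> intro e
  · exact hb (by field_simp at e; exact e)
  · exact hb2 (by simpa [C.invol] using congrArg C.σ e)
  · exact hb2 (by field_simp at e; linear_combination -e)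
  · exact hb (by field_simp at e; exact e)

/-- Root groups at `+l` commute with what only needs the vector at `+l` fixed. -/
theorem pEl_mem_cen_share {l : Fin (k + 1 + 2)} {a γ : F} (hv : QV Φ a γ) {d : SI (k + 1 + 2)}
    (hd : l ≠ ix d) (r : F) : pEl Φ (.inl l) d r ∈ D.cen (qEl Φ (.inl l) a γ) := by
  obtain ⟨i, hi, hid⟩ := exists_other l (ix d)
  obtain ⟨b, -, hb1, -⟩ := exists_scalar C
  have h : ix (Sum.inl l : SI (k + 1 + 2)) ≠ ix d := hd
  have hm := hh_mon (F := F) (Ne.symm hid) b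
  have hfix : app C (lev Φ (hh (ix d) i b)) (Φ.v (.inl l)) = Φ.v (.inl l) := by
    rw [lev_diag_app hm]
    simp [sc, hd, hi.symm]
  rw [D.mem_cen]
  refine D.cm_of_scale (fun t => pEl Φ (.inl l) d t) (fun s t => pEl_add (ne_of_ix h).2 s t)
    (fun t => (commute_PQ h t hv).symm) (pEl_qEl_comm hfix (lev_x0 _) hv)
    (l := C.σ (sc C (fun x => if x = ix d then (b : F) else if x = i then ((b⁻¹ : Fˣ) : F) else 1) (.inl l)) *
      sc C (fun x => if x = ix d then (b : F) else if x = i then ((b⁻¹ : Fˣ) : F) else 1) d) ?_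
    (fun t => conj_pEl' (lev_diag_app hm (.inl l)) (lev_diag_app hm d) h t) r
  rcases d with j | j <;> simp only [ix_inl, ix_inr] at hd hid ⊢ <;>
    simp [sc, hd, hi.symm] <;> intro e <;> apply hb1
  · simp [e]
  · simpa [C.invol] using congrArg C.σ e

/-- The lift of the Levi subgroup. -/
structure Levi (Φ : PFrame C (k + 1 + 2) ι) (D : CExt E (suG C ι)) where
  ρ : Matrix.SpecialLinearGroup (Fin (k + 1 + 2)) F →* E
  hρ : ∀ M, D.π (ρ M) = lev Φ M

theorem lev_zero_eq {j : Fin (k + 1 + 2)} (hj : (0 : Fin (k + 1 + 2)) ≠ j) (r : F) :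
    pEl Φ (.inl 0) (.inr j) r = lev Φ (tv 0 j (-C.σ r)) := by
  rw [lev_tv hj, pEl_symm (c := .inr j) (by simp [hj])]
  simp [C.invol]

variable (L : Levi Φ D) {c : F} (hc : C.σ c = -c) (hc0 : c ≠ 0)

include L in
/-- Two root groups at `+0` with opposite indices of the first kind. -/
theorem cm_rr {j l : Fin (k + 1 + 2)} (hj : j ≠ 0) (hl : l ≠ 0) (r s : F) :
    D.cm (pEl Φ (.inl 0) (.inr j) r) (pEl Φ (.inl 0) (.inr l) s) = 1 := by
  rw [lev_zero_eq hj.symm, lev_zero_eq hl.symm, ← L.hρ, ← L.hρ, D.cm_hom]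
  have : Commute (tv 0 j (-C.σ r) : SLm) (tv 0 l (-C.σ s)) := by
    rw [CfsgLib.MultPSU.tv_eq_el, CfsgLib.MultPSU.tv_eq_el]
    exact MultPSL.stein_el.comm _ _ _ _ hj.symm hl.symm hl.symm hj _ _
  rw [commutatorElement_eq_one_iff_commute.2 this, map_one]

include hc hc0 in
/-- Flipping one slot. -/
theorem cm_flip {d d' : SI (k + 1 + 2)} (hd : ix d ≠ 0) (hd' : ix d' ≠ 0) (hdd : ix d ≠ ix d')
    (h : ∀ r s, D.cm (pEl Φ (.inl 0) d r) (pEl Φ (.inl 0) d' s) = 1) (r s : F) :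
    D.cm (pEl Φ (.inl 0) d.swap r) (pEl Φ (.inl 0) d' s) = 1 := by
  obtain ⟨f1, f2, f3, -⟩ := flipEl_spec (Φ := Φ) hc hc0 (ix d)
  obtain ⟨a, ha, ea⟩ : ∃ a : F, a ≠ 0 ∧ app C (flipEl Φ c (ix d)) (Φ.v d) = a • Φ.v d.swap := by
    rcases d with j | j
    · exact ⟨_, hc0, f1⟩
    · exact ⟨_, neg_ne_zero.2 (inv_ne_zero hc0), f2⟩
  have e0 : app C (flipEl Φ c (ix d)) (Φ.v (.inl 0)) = (1 : F) • Φ.v (.inl 0) := by
    rw [one_smul]; exact f3 _ (Ne.symm hd)
  have e' : app C (flipEl Φ c (ix d)) (Φ.v d') = (1 : F) • Φ.v d' := by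
    rw [one_smul]; exact f3 _ (Ne.symm hdd)
  have := D.cm_conj_one (flipEl Φ c (ix d)) (h (r / a) s)
  rw [conj_pEl' e0 ea (Ne.symm hd), conj_pEl' e0 e' (Ne.symm hd'), map_one, one_mul, one_mul, one_mul,
    mul_div_cancel₀ r ha] at this
  exact this

include L hc hc0 in
/-- Root groups at `+0` of different indices. -/
theorem cm_pp {d d' : SI (k + 1 + 2)} (hd : ix d ≠ 0) (hd' : ix d' ≠ 0) (hdd : ix d ≠ ix d') (r s : F) :
    D.cm (pEl Φ (.inl 0) d r) (pEl Φ (.inl 0) d' s) = 1 := by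
  have h1 : ∀ (e : SI (k + 1 + 2)) (l : Fin (k + 1 + 2)), ix e ≠ 0 → l ≠ 0 → ix e ≠ l → ∀ r s,
      D.cm (pEl Φ (.inl 0) e r) (pEl Φ (.inl 0) (.inr l) s) = 1 := by
    rintro (j | j) l he hl hel r s
    · exact cm_flip D hc hc0 (d := .inr j) (d' := .inr l) he hl hel (cm_rr D L he hl) r s
    · exact cm_rr D L he hl r s
  rcases d' with l | l
  · rw [← D.cm_swap, inv_eq_one]
    refine cm_flip D hc hc0 (d := .inr l) (d' := d) hd' hd (Ne.symm hdd) (fun r s => ?_) s r
    rw [← D.cm_swap, inv_eq_one]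
    exact h1 d l hd hd' hdd s r
  · exact h1 d l hd hd' hdd r s

theorem long_eq {j : Fin (k + 1 + 2)} (hj : (0 : Fin (k + 1 + 2)) ≠ j) {γ θ : F} (hγ : QV Φ 0 γ)
    (hθ : θ + C.σ θ = 1) :
    qEl Φ (.inl 0) 0 γ = ⁅pEl Φ (.inl 0) (.inr j) 1, pEl Φ (.inl 0) (.inl j) (-γ * θ)⁆ := by
  rw [commutator_pEl (k := k + 1) hj, map_one, map_mul, map_neg, qv_zero_iff.1 hγ]
  congr 1
  linear_combination -γ * hθ

include L hc hc0 in
/-- The long group at `+0` commutes with the root groups at `+0`. -/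
theorem long_mem_cen_p {d : SI (k + 1 + 2)} (hd : ix d ≠ 0) (r : F) {γ : F} (hγ : QV Φ 0 γ) :
    qEl Φ (.inl 0) 0 γ ∈ D.cen (pEl Φ (.inl 0) d r) := by
  obtain ⟨j, hj, hjd⟩ := exists_other 0 (ix d)
  obtain ⟨θ, hθ⟩ := C.exists_trace_one
  rw [long_eq hj.symm hγ hθ]
  refine D.commutator_mem_cen ?_ ?_ <;> rw [D.mem_cen]
  · exact cm_pp D L hc hc0 (d' := .inr j) hd hj (Ne.symm hjd) _ _
  · exact cm_pp D L hc hc0 (d' := .inl j) hd hj (Ne.symm hjd) _ _

include hc hc0 in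
/-- The long groups at `±0` commute with `Loc l`, `l ≠ 0`. -/
theorem long_mem_cen {l : Fin (k + 1 + 2)} (hl : l ≠ 0) {X : suG C ι} (hX : Loc Φ l X) {s : SI (k + 1 + 2)}
    (hs : ix s = 0) {γ : F} (hγ : QV Φ 0 γ) : qEl Φ s 0 γ ∈ D.cen X := by
  obtain ⟨j, hj, hjl⟩ := exists_other 0 l
  obtain ⟨θ, hθ⟩ := C.exists_trace_one
  rcases s with i | i <;> simp only [ix_inl, ix_inr] at hs <;> subst hs
  · rw [long_eq hj.symm hγ hθ]
    exact D.commutator_mem_cen (pEl_mem_cen D hX (c := .inl 0) (d := .inr j) hj.symm hl (Ne.symm hjl) _)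
      (pEl_mem_cen D hX (c := .inl 0) (d := .inl j) hj.symm hl (Ne.symm hjl) _)
  · obtain ⟨f1, -, f3, f4⟩ := flipEl_spec (Φ := Φ) hc hc0 0
    have hγ' : QV Φ 0 (γ / (c * C.σ c)) := by
      rw [qv_zero_iff, map_div₀, map_mul, C.invol, qv_zero_iff.1 hγ, mul_comm c, neg_div]
    have e := conj_qEl (c := Sum.inl (0 : Fin (k + 1 + 2))) f1 (f4.trans (one_smul F _).symm) hγ'
    rw [mul_zero, div_mul_cancel₀ γ (mul_ne_zero hc0 ((map_ne_zero C.σ).2 hc0))] at e
    have hf : ∀ d : SI (k + 1 + 2), ix d = j → app C (flipEl Φ c 0) (Φ.v d) = (1 : F) • Φ.v d := fun d hd => by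
      rw [one_smul]; exact f3 _ (by rw [hd]; exact hj)
    rw [← e, long_eq hj.symm hγ' hθ, show ∀ g a b : suG C ι, g * ⁅a, b⁆ * g⁻¹ = ⁅g * a * g⁻¹, g * b * g⁻¹⁆
      from fun g a b => by simp only [commutatorElement_def]; group,
      conj_pEl' (d := .inr j) f1 (hf _ rfl) hj.symm, conj_pEl' (d := .inl j) f1 (hf _ rfl) hj.symm]
    exact D.commutator_mem_cen (pEl_mem_cen D hX (c := .inr 0) (d := .inr j) hj.symm hl (Ne.symm hjl) _)
      (pEl_mem_cen D hX (c := .inr 0) (d := .inl j) hj.symm hl (Ne.symm hjl) _)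

include hc hc0 in
theorem flip_mem_cen {l : Fin (k + 1 + 2)} (hl : l ≠ 0) {X : suG C ι} (hX : Loc Φ l X) :
    flipEl Φ c 0 ∈ D.cen X := by
  have h1 := long_mem_cen D hc hc0 hl hX (s := .inr 0) rfl (γ := c) (qv_zero_iff.2 hc)
  have h2 := long_mem_cen D hc hc0 hl hX (s := .inl 0) rfl (γ := -c⁻¹)
    (qv_zero_iff.2 (by rw [map_neg, map_inv₀, hc, inv_neg]))
  exact mul_mem (mul_mem h1 h2) h1

theorem triv_mem_cen {X : suG C ι} (hX : Loc Φ 0 X) {M : SLm} (hM : Triv 0 M) : lev Φ M ∈ D.cen X := by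
  obtain ⟨M', rfl⟩ := exists_tail (k := k) M (by rw [hM 0 0 (Or.inl rfl)]; simp)
    (fun a ha => ⟨by rw [hM a 0 (Or.inr rfl)]; simp [ha], by rw [hM 0 a (Or.inl rfl)]; simp [ha.symm]⟩)
  induction M' using CfsgLib.Linear.sl_induction with
  | hone => rw [map_one, map_one]; exact one_mem _
  | hmul a b ha hb =>
    rw [map_mul, map_mul]
    exact mul_mem (ha (fun x y h => by
      rw [CfsgLib.SpnPres.coe_tailEmb]
      induction x using Fin.cases <;> induction y using Fin.cases <;>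
        simp_all [CfsgLib.SpnPres.tailMat, Matrix.one_apply, Fin.succ_ne_zero, (Fin.succ_ne_zero _).symm]))
      (hb (fun x y h => by
      rw [CfsgLib.SpnPres.coe_tailEmb]
      induction x using Fin.cases <;> induction y using Fin.cases <;>
        simp_all [CfsgLib.SpnPres.tailMat, Matrix.one_apply, Fin.succ_ne_zero, (Fin.succ_ne_zero _).symm]))
  | htransvec i j hij r =>
    have e : (tailEmb (Matrix.SpecialLinearGroup.transvection hij r) : SLm) = tv i.succ j.succ r := by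
      apply Subtype.ext
      rw [CfsgLib.SpnPres.coe_tailEmb, CfsgLib.SLnPres.coe_tv (by simpa using hij)]
      ext x y
      induction x using Fin.cases <;> induction y using Fin.cases <;>
        simp [CfsgLib.SpnPres.tailMat, Matrix.SpecialLinearGroup.transvection_coe, Matrix.transvection,
          Matrix.single, Matrix.one_apply, Fin.succ_ne_zero, (Fin.succ_ne_zero _).symm]
    rw [e, lev_tv (by simpa using hij)]
    exact pEl_mem_cen D hX (c := .inr j.succ) (d := .inl i.succ) (by simpa using hij.symm)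
      (Fin.succ_ne_zero _).symm (Fin.succ_ne_zero _).symm r

end CfsgLib.MultPSU
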