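import Cfsg.Agent.MultOrth.Lift

/-!
# Homomorphisms from `SL_n(q)`, `n ≥ 3`, lift to central extensions
-/

set_option autoImplicit false
set_option linter.unusedSectionVars false

namespace CfsgLib.MultPSU

open scoped commutatorElement
open Matrix
open CfsgLib.MultOrth (derived_of_central)

variable {F : Type*} [Field F] [Fintype F] {n : ℕ}

/-- Central extensions of `SL_n(q)`, `n ≥ 3`, outside `(3, 2)`, `(3, 4)`, `(4, 2)`, split. -/
theorem exists_sl_section3 (hn : 3 ≤ n) (h3 : n = 3 → Fintype.card F ≠ 2 ∧ Fintype.card F ≠ 4)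
    (h4 : n = 4 → Fintype.card F ≠ 2) {P : Type*} [Group P]
    [Finite P] (π : P →* Matrix.SpecialLinearGroup (Fin n) F) (hs : Function.Surjective π)
    (hc : π.ker ≤ Subgroup.center P) :
    ∃ s : Matrix.SpecialLinearGroup (Fin n) F →* P, π.comp s = MonoidHom.id _ := by
  classical
  have hn' : 3 ≤ Fintype.card (Fin n) := by rw [Fintype.card_fin]; omega
  obtain ⟨hsP, hP⟩ := derived_of_central π hs hc
    (Linear.commutator_SL_eq_top (F := F) hn')
  set π' := π.comp (commutator P).subtype with hπ'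
  let D : MultPSL.Setup ↥(commutator P) (Matrix.SpecialLinearGroup (Fin n) F) (Fin n) F :=
    { π := π'
      p := MultPSL.el
      surj := hsP
      central := fun x hx => Subgroup.mem_center_iff.2 fun y =>
        Subtype.ext (Subgroup.mem_center_iff.1 (hc (x := (x : P)) hx) y)
      stein := MultPSL.stein_el
      three := hn'
      torus := fun i j k l s t hij hkl hs ht => MultPSL.T_el_comm hij hkl hs ht
      small3 := fun h => h3 (by rwa [Fintype.card_fin] at h)
      small4 := fun h => h4 (by rwa [Fintype.card_fin] at h) }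
  obtain ⟨hf, hcard⟩ := MultPSL.card_le D.stein_X hn' (D.gen_X MultPSL.closure_el hP)
  haveI : Nonempty (Fin n) := ⟨⟨0, by omega⟩⟩
  have hle : Nat.card ↥(commutator P) ≤ Nat.card (Matrix.SpecialLinearGroup (Fin n) F) := by
    have hq := Fintype.one_lt_card (α := F)
    refine Nat.le_of_mul_le_mul_left (hcard.trans_eq ?_) (by omega : 0 < Fintype.card F - 1)
    rw [Linear.card_SL_mul, Linear.card_GL, Linear.prod_pow_sub_pow]
  have hb : Function.Bijective π' :=
    (Nat.bijective_iff_surjective_and_card π').2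
      ⟨hsP, le_antisymm hle (Nat.card_le_card_of_surjective _ hsP)⟩
  refine ⟨(commutator P).subtype.comp (MulEquiv.ofBijective π' hb).symm.toMonoidHom,
    MonoidHom.ext fun x => ?_⟩
  exact (MulEquiv.ofBijective π' hb).apply_symm_apply x

/-- A homomorphism from `SL_n(q)` lifts through a central extension whose image contains it. -/
theorem exists_sl_lift3 (hn : 3 ≤ n) (h3 : n = 3 → Fintype.card F ≠ 2 ∧ Fintype.card F ≠ 4)
    (h4 : n = 4 → Fintype.card F ≠ 2) {E G : Type*} [Group E]
    [Finite E] [Group G] (φ : E →* G) (hc : φ.ker ≤ Subgroup.center E)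
    (f : Matrix.SpecialLinearGroup (Fin n) F →* G) (hf : f.range ≤ φ.range) :
    ∃ ρ : Matrix.SpecialLinearGroup (Fin n) F →* E, ∀ A, φ (ρ A) = f A := by
  haveI : Finite (Matrix.SpecialLinearGroup (Fin n) F) := inferInstance
  let P : Subgroup (E × Matrix.SpecialLinearGroup (Fin n) F) :=
    (φ.comp (MonoidHom.fst E _)).eqLocus (f.comp (MonoidHom.snd E _))
  let π : P →* Matrix.SpecialLinearGroup (Fin n) F := (MonoidHom.snd E _).comp P.subtype
  have hs : Function.Surjective π := fun A => by
    obtain ⟨e, he⟩ := hf ⟨A, rfl⟩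
    exact ⟨⟨(e, A), he⟩, rfl⟩
  have hcP : π.ker ≤ Subgroup.center P := by
    intro x hx
    have hx2 : x.1.2 = 1 := hx
    have hx1 : x.1.1 ∈ Subgroup.center E := hc (by
      rw [MonoidHom.mem_ker, show φ x.1.1 = f x.1.2 from x.2, hx2, map_one])
    refine Subgroup.mem_center_iff.2 fun y => Subtype.ext (Prod.ext ?_ ?_)
    · exact Subgroup.mem_center_iff.1 hx1 y.1.1
    · show y.1.2 * x.1.2 = x.1.2 * y.1.2
      rw [hx2, mul_one, one_mul]
  obtain ⟨s, hs'⟩ := exists_sl_section3 hn h3 h4 π hs hcP
  refine ⟨(MonoidHom.fst E _).comp (P.subtype.comp s), fun A => ?_⟩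
  have h1 : φ (s A).1.1 = f (s A).1.2 := (s A).2
  have h2 : (s A).1.2 = A := DFunLike.congr_fun hs' A
  rw [h2] at h1
  exact h1

end CfsgLib.MultPSU
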