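import Cfsg.Agent.MultPSU.BigRels
import Cfsg.Agent.MultPSU.BigLift

/-!
# Perfect central extensions are trivial, hyperbolic rank at least three
-/

set_option autoImplicit false
set_option linter.unusedSectionVars false

namespace CfsgLib.MultPSU

open Matrix CfsgLib.RepBounds.Unit CfsgLib.SUThreeUnipotent CfsgLib.SUTwoGen CfsgLib.SUPres
open scoped commutatorElement

universe u

/-- In a perfect central extension a subgroup onto the quotient is everything. -/
theorem CExt.eq_top_of_map {E G : Type*} [Group E] [Group G] (D : CExt E G) (hE : commutator E = ⊤)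
    {S : Subgroup E} (h : S.map D.π = ⊤) : S = ⊤ := by
  have hlift : ∀ e : E, ∃ s ∈ S, s⁻¹ * e ∈ Subgroup.center E := fun e => by
    obtain ⟨s, hs, es⟩ : D.π e ∈ S.map D.π := h ▸ Subgroup.mem_top _
    exact ⟨s, hs, D.center_of_eq es.symm⟩
  rw [eq_top_iff, ← hE, commutator_def, Subgroup.commutator_le]
  intro a _ b _
  obtain ⟨a', ha', ca⟩ := hlift a
  obtain ⟨b', hb', cb⟩ := hlift b
  have e := SchurTheory.commutatorElement_mul_mem_center (x := a') (y := b') ca cb
  rw [mul_inv_cancel_left, mul_inv_cancel_left] at e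
  rw [e, commutatorElement_def]
  exact mul_mem (mul_mem (mul_mem ha' hb') (inv_mem ha')) (inv_mem hb')

/-- Perfect central extensions are trivial once the Levi factor lifts. -/
theorem injective_big_of_lift {F : Type u} [Field F] [Fintype F] {C : ConjField F} {ι : Type} [Fintype ι]
    [DecidableEq ι] {k : ℕ} (Φ : PFrame C (k + 1 + 2) ι) (hι : ¬ (Fintype.card ι = 3 ∧ C.q = 2))
    {E : Type u} [Group E] [Finite E] (π : E →* suG C ι) (hs : Function.Surjective π)
    (hc : π.ker ≤ Subgroup.center E) (hE : commutator E = ⊤)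
    (ρ : Matrix.SpecialLinearGroup (Fin (k + 1 + 2)) F →* E) (hρ : ∀ M, π (ρ M) = lev Φ M) :
    Function.Injective π := by
  obtain ⟨c, hc', hc0⟩ := exists_skew_ne C
  obtain ⟨θ, hθ⟩ := C.exists_trace_one
  let A : BData Φ E := ⟨⟨π, hs, hc⟩, ⟨ρ, hρ⟩, c, hc', hc0, θ, hθ⟩
  refine A.toRels3.injective (A.D.eq_top_of_map hE ?_)
  refine eq_top_gen hι hc' hc0 A.hv1 (fun M => ⟨ρ M, ?_, hρ M⟩) ⟨A.pe, ?_, A.π_pe⟩ ⟨A.ue, ?_, A.π_ue⟩
  · exact Subgroup.mem_sup_left (Subgroup.mem_sup_left ⟨M, rfl⟩)
  · exact Subgroup.mem_sup_left (Subgroup.mem_sup_right (Subgroup.mem_zpowers _))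
  · exact Subgroup.mem_sup_right (Subgroup.mem_zpowers _)

/-- Perfect central extensions of `SU_n(q)` of rank at least three are trivial, `(n, q)` other
than `(6, 2)` and `(7, 2)`. -/
theorem injective_big {F : Type u} [Field F] [Fintype F] {C : ConjField F} {ι : Type} [Fintype ι]
    [DecidableEq ι] {k : ℕ} (Φ : PFrame C (k + 1 + 2) ι) (hι : ¬ (Fintype.card ι = 3 ∧ C.q = 2))
    (hk : k = 0 → C.q ≠ 2) {E : Type u} [Group E]
    [Finite E] (π : E →* suG C ι) (hs : Function.Surjective π) (hc : π.ker ≤ Subgroup.center E)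
    (hE : commutator E = ⊤) : Function.Injective π := by
  have h2 := C.two_le
  obtain ⟨ρ, hρ⟩ := exists_sl_lift3 (F := F) (n := k + 1 + 2) (by omega)
    (fun h => ⟨fun e => by rw [C.card] at e; nlinarith, fun e => hk (by omega) (by
      rw [C.card] at e
      nlinarith)⟩)
    (fun _ e => by rw [C.card] at e; nlinarith) π hc (lev Φ)
    (by rw [MonoidHom.range_eq_top.2 hs]; exact le_top)
  exact injective_big_of_lift Φ hι π hs hc hE ρ hρ

end CfsgLib.MultPSU
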