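import Cfsg.Agent.MultPSU.BigCen
import Cfsg.Agent.Forms4.ExceptionalTools

/-!
# Central extensions satisfy the relations of rank at least three
-/

set_option autoImplicit false
set_option linter.unusedSectionVars false
set_option linter.unusedSimpArgs false
set_option maxHeartbeats 800000

namespace CfsgLib.MultPSU

open Matrix CfsgLib.RepBounds.Unit CfsgLib.SUThreeUnipotent CfsgLib.SUTwoGen CfsgLib.SUPres
open CfsgLib.SLnPres (tv)
open CfsgLib.SpnPres (IsMon)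
open CfsgLib.DnPres (eA)
open scoped commutatorElement

variable {F : Type*} [Field F] [Fintype F] {C : ConjField F} {ι : Type*} [Fintype ι] [DecidableEq ι] {k : ℕ}
  {Φ : PFrame C (k + 1 + 2) ι} {E : Type*} [Group E]

local notation "SLm" => Matrix.SpecialLinearGroup (Fin (k + 1 + 2)) F

theorem h01_split (a : Fˣ) :
    (h01 (k + 1) a : SLm) = hh 0 2 a * hh 1 2 a * hh 2 1 (a * a) := by
  have h02 : (0 : Fin (k + 1 + 2)) ≠ 2 := ne20.symm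
  have h12 : (1 : Fin (k + 1 + 2)) ≠ 2 := ne21.symm
  have h01' : (0 : Fin (k + 1 + 2)) ≠ 1 := SUPres.zero_ne_one'
  refine mon_ext (h01_mon a) (show IsMon (hh 0 2 a * hh 1 2 a * hh 2 1 (a * a) : SLm) 1 _ by
    simpa using ((hh_mon h02 a).mul (hh_mon h12 a)).mul (hh_mon ne21 (a * a))) fun x => ?_
  have := a.ne_zero
  by_cases e0 : x = 0
  · subst e0; simp [h02, h01']
  by_cases e1 : x = 1
  · subst e1; simp [h12, h01'.symm]
  by_cases e2 : x = 2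
  · subst e2; simp [h02.symm, h12.symm]; field_simp
  simp [e0, e1, e2]

/-- The data: a central extension, the lift of the Levi subgroup, constants. -/
structure BData (Φ : PFrame C (k + 1 + 2) ι) (E : Type*) [Group E] where
  D : CExt E (suG C ι)
  L : Levi Φ D
  c : F
  hc : C.σ c = -c
  hc0 : c ≠ 0
  θ : F
  hθ : θ + C.σ θ = 1

namespace BData

variable (A : BData Φ E)

theorem commute_ρ {M : SLm} {X : suG C ι} {y : E} (hy : A.D.π y = X) (h : lev Φ M ∈ A.D.cen X) :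
    Commute (A.L.ρ M) y :=
  (A.D.commute_of hy (A.L.hρ M) (A.D.mem_cen.1 h)).symm

/-- The pairing of the two root groups at `(0, 1)`. -/
noncomputable def cc1 (r s : F) : E :=
  A.D.cm (pEl Φ (.inl 0) (.inr 1) r) (pEl Φ (.inl 0) (.inl 1) s)

theorem π_cc1 (r s : F) : A.D.π (A.cc1 r s) = qEl Φ (.inl 0) 0 (r * C.σ s - s * C.σ r) := by
  rw [cc1, A.D.π_cm, commutator_pEl (k := k + 1) Rels3.one_ne.symm]

theorem qv_cc (r s : F) : QV Φ 0 (r * C.σ s - s * C.σ r) := qv_zero_iff.2 (by simp [C.invol]; ring)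

theorem cc1_commute_p {d : SI (k + 1 + 2)} (hd : ix d ≠ 0) (x r s : F) :
    Commute (A.D.sl (pEl Φ (.inl 0) d x)) (A.cc1 r s) :=
  A.D.commute_of (A.D.π_sl _) (A.π_cc1 r s)
    (A.D.mem_cen.1 (long_mem_cen_p A.D A.L A.hc A.hc0 hd x (qv_cc r s)))

theorem cc1_add (r s s' : F) : A.cc1 r (s + s') = A.cc1 r s * A.cc1 r s' := by
  rw [cc1, pEl_add (by simp), A.D.cm_mul_right]
  show _ * (_ * A.cc1 r s' * _) = _
  rw [(A.cc1_commute_p (d := .inl 1) Rels3.one_ne s r s').eq, mul_inv_cancel_right]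
  rfl

theorem cc1_zero (r : F) : A.cc1 r 0 = 1 := by rw [cc1, pEl_zero (by simp), A.D.cm_one_right]

theorem cc1_neg (r s : F) : A.cc1 r (-s) = (A.cc1 r s)⁻¹ :=
  eq_inv_of_mul_eq_one_left (by rw [← A.cc1_add, neg_add_cancel, A.cc1_zero])

theorem cc1_balance {r : F} (hr : r ≠ 0) (s : F) : A.cc1 r s = A.cc1 1 (C.σ r * s) := by
  set b := Units.mk0 (C.σ r) ((map_ne_zero C.σ).2 hr) with hb
  have h12 : (1 : Fin (k + 1 + 2)) ≠ 2 := ne21.symm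
  have hm := hh_mon (F := F) h12 b
  have e0 : app C (lev Φ (hh 1 2 b : SLm)) (Φ.v (.inl 0)) = (1 : F) • Φ.v (.inl 0) := by
    rw [lev_diag_app hm]; simp [sc, ne20.symm, (Rels3.one_ne (k := k)).symm]
  have e1 : app C (lev Φ (hh 1 2 b : SLm)) (Φ.v (.inr 1)) = r⁻¹ • Φ.v (.inr 1) := by
    rw [lev_diag_app hm]; simp [sc, hb, C.invol]
  have e2 : app C (lev Φ (hh 1 2 b : SLm)) (Φ.v (.inl 1)) = C.σ r • Φ.v (.inl 1) := by
    rw [lev_diag_app hm]; simp [sc, hb]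
  have hT : lev Φ (hh 1 2 b : SLm) ∈ A.D.cen (A.D.π (A.cc1 r s)) := by
    rw [A.π_cc1]
    exact triv_mem_cen A.D (loc_qEl (c := Sum.inl (0 : Fin (k + 1 + 2))) (qv_cc r s))
      (hh_triv h12 SUPres.zero_ne_one' ne20.symm b)
  have h := mul_inv_eq_iff_eq_mul.2 (A.commute_ρ (y := A.cc1 r s) rfl hT).eq
  rw [cc1, A.D.conj_cm, A.L.hρ, conj_pEl' e0 e1 (by simp), conj_pEl' e0 e2 (by simp)] at h
  simp only [map_one, one_mul, inv_mul_cancel₀ hr] at h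
  exact h.symm

theorem cc1_neg_left (r s : F) : A.cc1 (-r) s = (A.cc1 r s)⁻¹ := by
  by_cases hr : r = 0
  · subst hr
    rw [neg_zero, cc1, pEl_zero (by simp [Rels3.one_ne]), ← A.D.cm_swap _ 1, A.D.cm_one_right, inv_one, inv_one]
  rw [A.cc1_balance (neg_ne_zero.2 hr), A.cc1_balance hr, map_neg, neg_mul, A.cc1_neg]

theorem cc1_flip (v : F) : A.cc1 1 v = (A.cc1 1 (C.σ v))⁻¹ := by
  by_cases hv : v = 0
  · subst hv; rw [map_zero, A.cc1_zero, inv_one]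
  obtain ⟨f1, f2, f3, -⟩ := flipEl_spec (Φ := Φ) A.hc A.hc0 (1 : Fin (k + 1 + 2))
  have e0 : app C (flipEl Φ A.c 1) (Φ.v (.inl 0)) = (1 : F) • Φ.v (.inl 0) := by
    rw [one_smul]; exact f3 _ SUPres.zero_ne_one'
  have hL := long_mem_cen A.D A.hc A.hc0 Rels3.one_ne (loc_flipEl (Φ := Φ) A.hc 1) (s := .inl 0) rfl (qv_cc 1 v)
  have hcom := A.D.commute_of (A.D.π_sl _) (A.π_cc1 1 v) (A.D.mem_cen.1 hL)
  have h := mul_inv_eq_iff_eq_mul.2 hcom.eq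
  rw [cc1, A.D.conj_cm, A.D.π_sl, conj_pEl' e0 f2 (by simp), conj_pEl' e0 f1 (by simp), ← A.D.cm_swap] at h
  simp only [map_one, one_mul, mul_one] at h
  change (A.cc1 (A.c * v) (-A.c⁻¹))⁻¹ = A.cc1 1 v at h
  rw [A.cc1_balance (mul_ne_zero A.hc0 hv),
    show C.σ (A.c * v) * -A.c⁻¹ = C.σ v by rw [map_mul, A.hc]; field_simp [A.hc0]] at h
  exact h.symm

theorem cc1_one : A.cc1 1 1 = 1 := by
  have h : A.cc1 1 (A.θ + C.σ A.θ) = 1 := by rw [A.cc1_add, A.cc1_flip A.θ, inv_mul_cancel]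
  rwa [A.hθ] at h

/-- A lift of the long element at `+0`. -/
noncomputable def z : E := A.cc1 1 (A.θ / A.c)

theorem π_z : A.D.π A.z = qEl Φ (.inl 0) 0 (-A.c⁻¹) := by
  rw [z, A.π_cc1]
  congr 1
  rw [map_div₀, A.hc, map_one]
  have := A.hc0
  field_simp
  linear_combination -A.hθ

/-- The exchange as a product. -/
noncomputable def exch (w : E) : E :=
  A.D.sl (flipEl Φ A.c 0) * w * (A.D.sl (flipEl Φ A.c 0))⁻¹ * w *
    (A.D.sl (flipEl Φ A.c 0) * w * (A.D.sl (flipEl Φ A.c 0))⁻¹)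

/-- The exchange. -/
noncomputable def pe : E := A.exch A.z

theorem π_pe : A.D.π A.pe = flipEl Φ A.c 0 := by
  rw [pe, exch, map_mul, map_mul, map_mul, map_mul, map_inv, A.D.π_sl, A.π_z]
  exact (flip_eq A.hc A.hc0).symm

theorem conj_pe_z : A.pe * A.z * A.pe⁻¹ = A.D.sl (flipEl Φ A.c 0) * A.z * (A.D.sl (flipEl Φ A.c 0))⁻¹ := by
  rw [z, cc1, A.D.conj_cm, A.D.conj_cm, A.π_pe, A.D.π_sl]

theorem conj_dd (a : Fˣ) {N : F} (hN : (a : F) * C.σ a = N) (hN2 : N * N = 1) :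
    A.L.ρ (hh 0 2 a * hh 1 2 a) * A.pe * (A.L.ρ (hh 0 2 a * hh 1 2 a))⁻¹ =
      A.exch (A.cc1 1 (N * (A.θ / A.c))) := by
  have h02 : (0 : Fin (k + 1 + 2)) ≠ 2 := ne20.symm
  have h12 : (1 : Fin (k + 1 + 2)) ≠ 2 := ne21.symm
  have h10 := Rels3.one_ne (k := k)
  have hσ : C.σ (a : F) ≠ 0 := (map_ne_zero C.σ).2 a.ne_zero
  set M : SLm := hh 0 2 a * hh 1 2 a
  have key : ∀ (s : SI (k + 1 + 2)), ix s = 0 ∨ ix s = 1 → app C (lev Φ M) (Φ.v s) =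
      sc C (fun _ => (a : F)) s • Φ.v s := by
    intro s hs
    rw [map_mul, app_mul, lev_diag_app (hh_mon h12 a), app_smul, lev_diag_app (hh_mon h02 a), smul_smul]
    congr 1
    rcases s with j | j <;> rcases hs with e | e <;> simp only [ix_inl, ix_inr] at e <;> subst e <;>
      simp [sc, h02, h12, h10, h10.symm]
  obtain ⟨f1, -, f3, f4⟩ := flipEl_spec (Φ := Φ) A.hc A.hc0 0
  have hf : ∀ d : SI (k + 1 + 2), ix d = 1 → app C (flipEl Φ A.c 0) (Φ.v d) = (1 : F) • Φ.v d := fun d hd => by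
    rw [one_smul]; exact f3 _ (by rw [hd]; exact h10)
  have hz : A.L.ρ M * A.z * (A.L.ρ M)⁻¹ = A.cc1 1 (N * (A.θ / A.c)) := by
    rw [z, cc1, A.D.conj_cm, A.L.hρ, conj_pEl' (key _ (Or.inl rfl)) (key _ (Or.inr rfl)) (by simp),
      conj_pEl' (key _ (Or.inl rfl)) (key _ (Or.inr rfl)) (by simp), cc1]
    simp only [sc]
    rw [mul_inv_cancel₀ hσ, one_mul, show C.σ (a : F) * a = N by rw [← hN, mul_comm]]
  have hN0 : N ≠ 0 := left_ne_zero_of_mul (hN2 ▸ one_ne_zero : N * N ≠ 0)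
  have hbal : A.cc1 1 (N * (A.θ / A.c)) = A.cc1 N (A.θ / A.c) := by
    rw [A.cc1_balance hN0, ← hN, map_mul, C.invol, mul_comm (C.σ (a : F))]
  have hz' : A.L.ρ M * (A.D.sl (flipEl Φ A.c 0) * A.z * (A.D.sl (flipEl Φ A.c 0))⁻¹) * (A.L.ρ M)⁻¹ =
      A.D.sl (flipEl Φ A.c 0) * A.cc1 1 (N * (A.θ / A.c)) * (A.D.sl (flipEl Φ A.c 0))⁻¹ := by
    rw [hbal, z, cc1, cc1, A.D.conj_cm, A.D.conj_cm, A.D.conj_cm, A.D.π_sl, A.L.hρ]
    simp only [conj_pEl' (c := Sum.inl (0 : Fin (k + 1 + 2))) (d := Sum.inr (1 : Fin (k + 1 + 2))) f1 (hf _ rfl) (by simp),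
      conj_pEl' (c := Sum.inl (0 : Fin (k + 1 + 2))) (d := Sum.inl (1 : Fin (k + 1 + 2))) f1 (hf _ rfl) (by simp),
      conj_pEl' (c := Sum.inr (0 : Fin (k + 1 + 2))) (d := Sum.inr (1 : Fin (k + 1 + 2))) (key _ (Or.inl rfl))
        (key _ (Or.inr rfl)) (by simp),
      conj_pEl' (c := Sum.inr (0 : Fin (k + 1 + 2))) (d := Sum.inl (1 : Fin (k + 1 + 2))) (key _ (Or.inl rfl))
        (key _ (Or.inr rfl)) (by simp)]
    simp only [sc, map_inv₀, C.invol, inv_mul_cancel₀ a.ne_zero, one_mul, mul_one]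
    have hinv : (a : F)⁻¹ * (C.σ (a : F))⁻¹ = N := by
      rw [← mul_inv, hN]; exact inv_eq_of_mul_eq_one_right hN2
    rw [hinv, mul_comm N]
  rw [pe, exch, exch]
  conv_lhs => rw [show ∀ g x y : E, g * (x * y * x) * g⁻¹ = g * x * g⁻¹ * (g * y * g⁻¹) * (g * x * g⁻¹) from
    fun g x y => by group]
  rw [hz, hz']

theorem exch_neg : A.exch (A.cc1 1 (-1 * (A.θ / A.c))) = A.pe⁻¹ := by
  rw [neg_one_mul, A.cc1_neg, pe, exch, exch, show A.cc1 1 (A.θ / A.c) = A.z from rfl]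
  group

theorem norm1 (a : Fˣ) (ha : (a : F) * C.σ a = 1) : Commute A.pe (A.L.ρ (h01 (k + 1) a)) := by
  rw [h01_split, map_mul]
  refine Commute.mul_right ?_ ?_
  · have h := A.conj_dd a ha (one_mul 1)
    rw [one_mul] at h
    change _ = A.pe at h
    exact (mul_inv_eq_iff_eq_mul.1 h).symm
  · exact (A.commute_ρ A.π_pe (triv_mem_cen A.D (loc_flipEl A.hc 0)
      (hh_triv ne21 ne20.symm SUPres.zero_ne_one' _))).symm

theorem psq : A.pe * A.pe ∈ (Dg (Fin (k + 1 + 2)) F).map A.L.ρ ⊔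
    ((Dg (Fin (k + 1 + 2)) F).map A.L.ρ).map (MulAut.conj A.pe).toMonoidHom := by
  obtain ⟨u, hu⟩ := C.exists_norm_neg_one
  have hu0 : u ≠ 0 := by rintro rfl; simp at hu
  set M : SLm := hh 0 2 (Units.mk0 u hu0) * hh 1 2 (Units.mk0 u hu0)
  have e := A.conj_dd (Units.mk0 u hu0) hu (by ring)
  rw [A.exch_neg] at e
  set x := A.L.ρ M
  have hmem : x ∈ (Dg (Fin (k + 1 + 2)) F).map A.L.ρ :=
    Subgroup.mem_map_of_mem _ (mul_mem (hh_mem ne20.symm _) (hh_mem ne21.symm _))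
  have e2 : A.pe * A.pe = A.pe * x * A.pe⁻¹ * x⁻¹ := by
    have e3 : x * A.pe⁻¹ * x⁻¹ = A.pe := by simpa [mul_assoc] using congrArg (·⁻¹) e
    calc A.pe * A.pe = A.pe * (x * A.pe⁻¹ * x⁻¹) := by rw [e3]
      _ = _ := by group
  rw [e2]
  exact mul_mem (Subgroup.mem_sup_right (Subgroup.mem_map_of_mem _ hmem)) (Subgroup.mem_sup_left (inv_mem hmem))

theorem w_mv : Mv Φ (lev Φ (w01 (k + 1))) (.inl 0) (.inl 1) ∧ Mv Φ (lev Φ (w01 (k + 1))) (.inr 0) (.inr 1) := by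
  have h1 := mv_lev_inl (Φ := Φ) (w01_mon (F := F) (k := k + 1)) 0
  have h2 := mv_lev_inr (Φ := Φ) (w01_mon (F := F) (k := k + 1)) 0
  rw [Equiv.swap_apply_left] at h1 h2
  exact ⟨h1, h2⟩

theorem loc_w {X : suG C ι} (h : Loc Φ 0 X) :
    Loc Φ 1 (lev Φ (w01 (k + 1)) * X * (lev Φ (w01 (k + 1)))⁻¹) :=
  h.conj w_mv.1 w_mv.2 (lev_x0 _)

theorem loc_w_inv {X : suG C ι} (h : Loc Φ 0 X) :
    Loc Φ 1 ((lev Φ (w01 (k + 1)))⁻¹ * X * lev Φ (w01 (k + 1))) := by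
  have h1 := mv_lev_inl (Φ := Φ) (w01_mon (F := F) (k := k + 1)) 1
  have h2 := mv_lev_inr (Φ := Φ) (w01_mon (F := F) (k := k + 1)) 1
  rw [Equiv.swap_apply_right] at h1 h2
  have := h.conj h1.inv h2.inv (app_inv_eq C (lev_x0 _))
  rwa [inv_inv] at this

/-- The exchange at `1`. -/
noncomputable def pe1 : E := A.L.ρ (w01 (k + 1)) * A.pe * (A.L.ρ (w01 (k + 1)))⁻¹

theorem π_pe1 : A.D.π A.pe1 = qT Φ A.c := by
  rw [pe1, map_mul, map_mul, map_inv, A.L.hρ, A.π_pe, qT]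

theorem r5 : Commute A.pe A.pe1 :=
  (A.D.commute_of A.π_pe1 A.π_pe (A.D.mem_cen.1
    (flip_mem_cen A.D A.hc A.hc0 Rels3.one_ne (loc_w (loc_flipEl A.hc 0))))).symm

theorem tau (g : Matrix.SpecialLinearGroup (Fin 2) F) :
    ∃ g', A.pe * A.pe1 * A.L.ρ (eA 0 1 g) * (A.pe * A.pe1)⁻¹ = A.L.ρ (eA 0 1 g') := by
  let f : Matrix.SpecialLinearGroup (Fin 2) F →* E := A.L.ρ.comp (eA 0 1)
  set n := A.pe * A.pe1
  set S : Subgroup (Matrix.SpecialLinearGroup (Fin 2) F) :=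
    (f.range.comap (MulAut.conj n).toMonoidHom).comap f
  suffices hS : S = ⊤ by
    obtain ⟨g', hg⟩ := (hS ▸ Subgroup.mem_top g : g ∈ S)
    exact ⟨g', hg.symm⟩
  have h4 : 4 ≤ Fintype.card F := by
    rw [C.card]
    nlinarith [C.two_le]
  rw [eq_top_iff, ← Forms4.commutator_SL_two h4, commutator_def, Subgroup.commutator_le]
  intro a _ b _
  obtain ⟨a', ha⟩ := tau_target (Φ := Φ) A.hc A.hc0 a
  obtain ⟨b', hb⟩ := tau_target (Φ := Φ) A.hc A.hc0 b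
  refine ⟨⁅a', b'⁆, ?_⟩
  show f ⁅a', b'⁆ = n * f ⁅a, b⁆ * n⁻¹
  rw [← A.D.cm_hom f a' b', ← A.D.cm_hom f a b, A.D.conj_cm]
  have hn : A.D.π n = flipEl Φ A.c 0 * qT Φ A.c := by rw [map_mul, A.π_pe, A.π_pe1]
  congr 1
  · show A.D.π (A.L.ρ (eA 0 1 a')) = A.D.π n * A.D.π (A.L.ρ (eA 0 1 a)) * (A.D.π n)⁻¹
    rw [A.L.hρ, A.L.hρ, hn, ha]
  · show A.D.π (A.L.ρ (eA 0 1 b')) = A.D.π n * A.D.π (A.L.ρ (eA 0 1 b)) * (A.D.π n)⁻¹
    rw [A.L.hρ, A.L.hρ, hn, hb]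

/-- The parameter of the short element. -/
def γ1 (A : BData Φ E) : F := -(A.θ * eps Φ)

theorem hv1 : QV Φ (eps Φ) A.γ1 := by
  unfold QV γ1
  rw [map_neg, map_mul, σ_eps, eps_sq, eps_sq]
  linear_combination (-eps Φ) * A.hθ

open Classical in
/-- The short element. -/
noncomputable def ue : E :=
  if eps Φ = 0 then 1 else
    A.D.cm (lev Φ (tv 0 1 (-1))) (uT Φ A.γ1) *
      (A.pe1 * A.L.ρ (tv 0 1 (exists_plus (Φ := Φ) A.hc A.hc0 A.γ1).choose) * A.pe1⁻¹)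

theorem π_ue : A.D.π A.ue = qEl Φ (.inl 0) (eps Φ) A.γ1 := by
  rw [ue]
  split_ifs with he
  · rw [map_one, γ1, he, mul_zero, neg_zero, qEl_zero]
  · rw [map_mul, map_mul, map_mul, map_inv, A.D.π_cm, A.π_pe1, A.L.hρ,
      (exists_plus (Φ := Φ) A.hc A.hc0 A.γ1).choose_spec, ← commutator_x_u A.hv1, mul_inv_cancel_left]

theorem ue_zero (h : eps Φ = 0) : A.ue = 1 := by rw [ue, if_pos h]

theorem stab (M : SLm) (hM : Triv 0 M) : Commute (A.L.ρ M) A.pe ∧ Commute (A.L.ρ M) A.ue :=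
  ⟨A.commute_ρ A.π_pe (triv_mem_cen A.D (loc_flipEl A.hc 0) hM),
    A.commute_ρ A.π_ue (triv_mem_cen A.D (loc_qEl (c := Sum.inl (0 : Fin (k + 1 + 2))) A.hv1) hM)⟩

theorem r12 : Commute A.ue A.pe1 := by
  set W := lev Φ (w01 (F := F) (k + 1))
  have h0 := A.D.mem_cen.1 (flip_mem_cen A.D A.hc A.hc0 Rels3.one_ne
    (loc_w_inv (loc_qEl (c := Sum.inl (0 : Fin (k + 1 + 2))) A.hv1)))
  have h := A.D.cm_conj_one W h0
  rw [show W * (W⁻¹ * qEl Φ (.inl 0) (eps Φ) A.γ1 * W) * W⁻¹ = qEl Φ (.inl 0) (eps Φ) A.γ1 by group] at h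
  exact A.D.commute_of A.π_ue A.π_pe1 h

theorem r10 : Commute A.ue (A.L.ρ (tv 0 1 1)) := by
  refine A.D.commute_of A.π_ue (A.L.hρ _) (A.D.mem_cen.1 ?_)
  rw [lev_tv SUPres.zero_ne_one', pEl_symm (by simp)]
  exact pEl_mem_cen_share A.D A.hv1 (d := .inr 1) SUPres.zero_ne_one' _

/-- The relations, rank at least three. -/
noncomputable def toRels : Rels Φ E where
  ρ := A.L.ρ
  p := A.pe
  u := A.ue
  φ := A.D.π
  c := A.c
  hc := A.hc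
  hc0 := A.hc0
  γ1 := A.γ1
  hv1 := A.hv1
  hφρ := A.L.hρ
  hφp := A.π_pe
  hφu := A.π_ue
  hu0 := A.ue_zero
  stab := A.stab
  r5 := A.r5
  tau := A.tau
  norm1 := A.norm1
  psq := A.psq

theorem cc_eq_cc1 (r s : F) : A.toRels.toBase.cc 1 r s = A.cc1 r s := by
  rw [Base.cc, A.D.cm_eq, cc1]
  congr 1
  · exact A.toRels.toBase.el_img (d := .inr 1) Rels3.one_ne r
  · exact A.toRels.toBase.el_img (d := .inl 1) Rels3.one_ne s

theorem π_u1 : A.D.π A.toRels.u1 = uT Φ A.γ1 := by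
  show A.D.π (A.L.ρ (w01 (k + 1)) * A.ue * (A.L.ρ (w01 (k + 1)))⁻¹) = _
  rw [map_mul, map_mul, map_inv, A.L.hρ, A.π_ue, uT]

theorem plus_mem (t : F) :
    A.pe1 * A.L.ρ (tv 0 1 t) * A.pe1⁻¹ ∈ A.toRels.toBase.XP (.inl 0) (.inl 1) := by
  set B := A.toRels.toBase
  have h1 : Mv Φ (B.φ B.p1) (.inl 0) (.inl 0) := by
    have := B.mv_p1 (.inl 0)
    rwa [ix_inl, if_neg SUPres.zero_ne_one'] at this
  have h2 : Mv Φ (B.φ B.p1) (.inr 1) (.inl 1) := by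
    have := B.mv_p1 (.inr 1)
    rwa [ix_inr, if_pos rfl, Sum.swap_inr] at this
  exact (B.cnj_XP B.p1_mem_N h1 h2).le (conj_mem_cnj (B.tv_mem_XP SUPres.zero_ne_one' t))

theorem r9 : ∃ r : F, r ≠ 0 ∧
    ⁅A.L.ρ (tv 0 1 r), A.toRels.u1⁆⁻¹ * A.ue ∈ A.toRels.toBase.XP (.inl 0) (.inl 1) := by
  refine ⟨-1, neg_ne_zero.2 one_ne_zero, ?_⟩
  by_cases he : eps Φ = 0
  · have h1 : A.toRels.u1 = 1 := by
      show A.L.ρ (w01 (k + 1)) * A.ue * (A.L.ρ (w01 (k + 1)))⁻¹ = 1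
      rw [A.ue_zero he]; group
    rw [h1, A.ue_zero he, commutatorElement_one_right, inv_one, one_mul]
    exact one_mem _
  · rw [A.D.cm_eq, A.L.hρ, A.π_u1, ue, if_neg he, inv_mul_cancel_left]
    exact A.plus_mem _

theorem r13 : ⁅A.ue, A.toRels.u1⁆ ∈ A.toRels.toBase.XP (.inl 0) (.inl 1) := by
  rcases eps_cases Φ with he | he
  · rw [A.ue_zero he, commutatorElement_one_left]; exact one_mem _
  set B := A.toRels.toBase with hB
  obtain ⟨b, -, hb1, -⟩ := exists_scalar C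
  have hb : C.σ (b : F) - 1 ≠ 0 := sub_ne_zero.2 fun e => hb1 (by simpa [C.invol] using congrArg C.σ e)
  have h02 : (0 : Fin (k + 1 + 2)) ≠ 2 := ne20.symm
  have h10 := Rels3.one_ne (k := k)
  set M : SLm := hh 0 2 b
  have hm : IsMon M 1 _ := hh_mon h02 b
  have h0 : app C (lev Φ M) (Φ.v (.inl 0)) = (b : F) • Φ.v (.inl 0) := by rw [lev_diag_app hm]; simp [sc]
  have h1 : app C (lev Φ M) (Φ.v (.inl 1)) = (1 : F) • Φ.v (.inl 1) := by
    rw [lev_diag_app hm]; simp [sc, h10, ne21.symm]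
  set a' := (C.σ (b : F) - 1)⁻¹ with ha'
  obtain ⟨γ', hv'⟩ : ∃ γ', QV Φ a' γ' := ⟨-(A.θ * (a' * C.σ a' * eps Φ)), by
    unfold QV
    rw [map_neg, map_mul, map_mul, map_mul, C.invol, σ_eps]
    linear_combination -(a' * C.σ a' * eps Φ) * A.hθ⟩
  set X := qEl Φ (.inl 0) a' γ' with hX
  set U1 := uT Φ A.γ1
  have eU1 := uT_eq (Φ := Φ) A.hv1
  set h := lev Φ M
  obtain ⟨γA, hvA, eA'⟩ : ∃ γA, QV Φ (C.σ b * a') γA ∧ h * X * h⁻¹ = qEl Φ (.inl 0) (C.σ b * a') γA :=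
    ⟨_, hv'.scale1 _, conj_qEl' (isMono_lev hm) h0 hv'⟩
  -- the short element is a ratio times a long one
  obtain ⟨γL, hvL, eL⟩ : ∃ γL, QV Φ 0 γL ∧
      qEl Φ (.inl 0) (eps Φ) A.γ1 = h * X * h⁻¹ * X⁻¹ * qEl Φ (.inl 0) 0 γL := by
    have hr := (hvA.mul hv'.inv)
    obtain ⟨δ, hδ⟩ : ∃ δ, δ = -a' * C.σ (C.σ b * a') * eps Φ := ⟨_, rfl⟩
    have ea : C.σ (b : F) * a' + -a' = eps Φ := by
      rw [he, show C.σ (b : F) * a' + -a' = (C.σ (b : F) - 1) * a' by ring, ha', mul_inv_cancel₀ hb]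
    rw [eA', qEl_inv hv', qEl_mul hvA hv'.inv]
    have hr' := hr
    rw [ea] at hr' ⊢
    refine ⟨_, hr'.split A.hv1, ?_⟩
    rw [qEl_mul hr' (hr'.split A.hv1)]
    congr 1
    · ring
    · ring
  -- the commutator with the short element at `1`
  obtain ⟨r, er⟩ : ∃ r, ⁅X, U1⁆ = pEl Φ (.inl 0) (.inl 1) r := by
    refine ⟨a' * C.σ (-eps Φ) * eps Φ, ?_⟩
    rw [hX, show U1 = _ from eU1.1, commutatorElement_def, qq_swap (k := k + 1) hv' eU1.2, mul_inv_cancel_right, mul_inv_cancel_right]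
  have hP : ∀ {a γ : F}, QV Φ a γ → ∀ t, pEl Φ (.inl 0) (.inl 1) t ∈ A.D.cen (qEl Φ (.inl 0) a γ) := fun hv t =>
    pEl_mem_cen_share A.D hv (d := .inl 1) SUPres.zero_ne_one' t
  set K := A.D.cm X U1 with hK
  have hπK : A.D.π K = pEl Φ (.inl 0) (.inl 1) r := by rw [hK, A.D.π_cm, er]
  have cK : ∀ {a γ : F}, QV Φ a γ → Commute (A.D.sl (qEl Φ (.inl 0) a γ)) K := fun hv =>
    A.D.commute_of (A.D.π_sl _) hπK (A.D.mem_cen.1 (hP hv r))
  -- invariance of the short element at `1`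
  have hhU : h * U1 * h⁻¹ = U1 := by
    rw [show U1 = _ from eU1.1, mul_inv_eq_iff_eq_mul]
    exact pEl_qEl_comm (by rw [h1, one_smul]) (lev_x0 _) eU1.2
  have eK : A.D.cm (h * X * h⁻¹) U1 = A.L.ρ M * K * (A.L.ρ M)⁻¹ := by
    rw [hK, A.D.conj_cm, A.L.hρ, hhU]
  have hL : A.D.cm (qEl Φ (.inl 0) 0 γL) U1 = 1 := by
    rw [← A.D.cm_swap, inv_eq_one, ← A.D.mem_cen]
    exact long_mem_cen A.D A.hc A.hc0 h10 (loc_w (loc_qEl (c := Sum.inl (0 : Fin (k + 1 + 2))) A.hv1))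
      (s := .inl 0) rfl hvL
  have hinv : A.D.cm X⁻¹ U1 = K⁻¹ := by
    have e := A.D.cm_mul_left X X⁻¹ U1
    rw [mul_inv_cancel, ← A.D.cm_swap U1 1, A.D.cm_one_right, inv_one] at e
    have hc : Commute (A.D.sl X) (A.D.cm X⁻¹ U1) := by
      refine A.D.commute_of (A.D.π_sl _) rfl (A.D.mem_cen.1 ?_)
      rw [A.D.π_cm, hX, qEl_inv hv', show U1 = _ from eU1.1, commutatorElement_def, qq_swap (k := k + 1) hv'.inv eU1.2,
        mul_inv_cancel_right, mul_inv_cancel_right]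
      exact hP hv' _
    rw [hc.eq, mul_inv_cancel_right] at e
    exact eq_inv_of_mul_eq_one_left e.symm
  have e : ⁅A.ue, A.toRels.u1⁆ = K⁻¹ * (A.L.ρ M * K * (A.L.ρ M)⁻¹) := by
    rw [A.D.cm_eq, A.π_ue, A.π_u1, eL, A.D.cm_mul_left, hL, mul_one, mul_inv_cancel, one_mul, A.D.cm_mul_left,
      hinv, eK]
    congr 1
    rw [mul_inv_eq_iff_eq_mul]
    exact (eA' ▸ cK hvA).inv_right.eq
  rw [e]
  have hel := B.el_img (d := .inl 1) h10 r
  obtain ⟨z, hz, ez⟩ : ∃ z ∈ Subgroup.center E, K = B.el (.inl 1) r * z :=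
    ⟨_, A.D.center_of_eq (a := K) (a' := B.el (.inl 1) r) (by rw [hπK]; exact hel.symm), by
      rw [mul_inv_cancel_left]⟩
  have hzc := Subgroup.mem_center_iff.1 hz
  have e2 : K⁻¹ * (A.L.ρ M * K * (A.L.ρ M)⁻¹) =
      (B.el (.inl 1) r)⁻¹ * (A.L.ρ M * B.el (.inl 1) r * (A.L.ρ M)⁻¹) := by
    rw [ez, _root_.mul_inv_rev, show A.L.ρ M * (B.el (.inl 1) r * z) * (A.L.ρ M)⁻¹ =
      A.L.ρ M * B.el (.inl 1) r * (z * (A.L.ρ M)⁻¹) by group, ← hzc (A.L.ρ M)⁻¹]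
    rw [show z⁻¹ * (B.el (.inl 1) r)⁻¹ * (A.L.ρ M * B.el (.inl 1) r * ((A.L.ρ M)⁻¹ * z)) =
      z⁻¹ * ((B.el (.inl 1) r)⁻¹ * (A.L.ρ M * B.el (.inl 1) r * (A.L.ρ M)⁻¹) * z) by group,
      hzc, inv_mul_cancel_left]
  rw [e2]
  refine mul_mem (inv_mem (B.el_mem (d := .inl 1) h10 r)) ?_
  have hN : A.L.ρ M ∈ B.N := B.ρ_mem_N (Dg_le_Mn (hh_mem h02 b))
  exact (B.cnj_XP hN (Mv.intro (by rw [show B.φ (A.L.ρ M) = h from A.L.hρ M]; exact h0))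
    (Mv.intro (by rw [show B.φ (A.L.ρ M) = h from A.L.hρ M]; exact h1))).le (conj_mem_cnj (B.el_mem (d := .inl 1) h10 r))

/-- The relations of rank at least three. -/
noncomputable def toRels3 : Rels3 Φ E where
  toRels := A.toRels
  r7 := by rw [A.cc_eq_cc1, A.cc1_one]
  r8 := ⟨A.z, by
      rw [z, ← A.cc_eq_cc1]
      exact A.toRels.toBase.cc_mem Rels3.one_ne _ _, by
      show A.pe = _
      show A.pe = A.pe * A.z * A.pe⁻¹ * A.z * (A.pe * A.z * A.pe⁻¹)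
      rw [A.conj_pe_z]
      rfl⟩
  r9 := A.r9
  r10 := A.r10
  r12 := A.r12
  r13 := A.r13

end BData

end CfsgLib.MultPSU
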