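import Cfsg.Agent.MultPSU.Lift
import Cfsg.Agent.MultPSL.Main
import Cfsg.Agent.SchurBN.SL2Lift

/-!
# Homomorphisms from `SL_m(F)`, `m ≥ 2`, lift through kernels of order prime to the characteristic

For `m ≥ 3` the `p`-power lifts of the elementary matrices satisfy the Steinberg relations.
-/

set_option autoImplicit false
set_option linter.style.haveILetI false
set_option linter.unusedSectionVars false

namespace CfsgLib.MultPSU

open scoped commutatorElement
open CfsgLib.MultPSL (el el_eq stein_el closure_el Stein)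

universe u

theorem PEl.map {G H : Type*} [Group G] [Group H] {p : ℕ} {x : G} (h : PEl p x) (f : G →* H) :
    PEl p (f x) := by
  obtain ⟨a, ha⟩ := h
  exact ⟨a, by rw [← map_pow, ha, map_one]⟩

theorem PEl.mul {G : Type*} [Group G] {p : ℕ} {x y : G} (hx : PEl p x) (hy : PEl p y)
    (h : Commute x y) : PEl p (x * y) := by
  obtain ⟨a, ha⟩ := hx
  obtain ⟨b, hb⟩ := hy
  exact ⟨a + b, by rw [h.mul_pow, pow_add, pow_mul, ha, one_pow, mul_comm (p ^ a), pow_mul, hb, one_pow,
    mul_one]⟩

theorem pEl_of_pow {G : Type*} [Group G] {p : ℕ} {x : G} (h : x ^ p = 1) : PEl p x :=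
  ⟨1, by rwa [pow_one]⟩

namespace PExt

variable {E G : Type*} [Group E] [Group G] [Finite E] {p : ℕ} (D : PExt E G p)

theorem lf_mul_commute {x y : G} (hx : PEl p x) (hy : PEl p y) (h : Commute x y) :
    D.lf (x * y) = D.lf x * D.lf y :=
  (D.eq_lf ((D.pEl_lf x).mul (D.pEl_lf y) (D.commute_lf_lf hx hy h))
    (by rw [map_mul, D.π_lf hx, D.π_lf hy])).symm

theorem primeToP : SchurBN.PrimeToP D.π p :=
  ⟨D.central, (Nat.Prime.coprime_iff_not_dvd D.prime).2 D.coprime⟩

variable {ι : Type*} [DecidableEq ι] {F : Type*} [Field F]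

/-- The `p`-power lifts of root elements satisfy the Steinberg relations. -/
theorem stein_lf {x : ι → ι → F → G} (R : Stein x)
    (hx : ∀ i j, i ≠ j → ∀ a, PEl p (x i j a)) : Stein fun i j a => D.lf (x i j a) where
  add i j h s t := by
    show D.lf (x i j (s + t)) = _
    rw [R.add i j h]
    refine D.lf_mul_commute (hx i j h s) (hx i j h t) ?_
    rw [commute_iff_eq, ← R.add i j h, ← R.add i j h, add_comm]
  comm i j k l h1 h2 h3 h4 a b :=
    D.commute_lf_lf (hx i j h1 a) (hx k l h2 b) (R.comm i j k l h1 h2 h3 h4 a b)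
  rel i j k h1 h2 h3 a b := by
    show ⁅D.lf (x i j a), D.lf (x j k b)⁆ = D.lf (x i k (a * b))
    rw [commutatorElement_def, D.conj_lf (hx j k h2 b), D.π_lf (hx i j h1 a)]
    have e := R.rel i j k h1 h2 h3 a b
    rw [commutatorElement_def, mul_inv_eq_iff_eq_mul] at e
    have hc : Commute (x i k (a * b)) (x j k b) := R.comm i k j k h3 h2 h3 (Ne.symm h2) _ _
    rw [e, D.lf_mul_commute (hx i k h3 _) (hx j k h2 b) hc, mul_inv_cancel_right]

end PExt

section Transvections

variable {n : ℕ} {F : Type*} [Field F] {p : ℕ} [CharP F p]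

theorem pEl_el (i j : Fin n) (a : F) : PEl p (el i j a : Matrix.SpecialLinearGroup (Fin n) F) := by
  refine pEl_of_pow ?_
  by_cases h : i ≠ j
  · have key : ∀ m : ℕ, (el i j a : Matrix.SpecialLinearGroup (Fin n) F) ^ m = el i j ((m : F) * a) := by
      intro m
      induction m with
      | zero => rw [pow_zero, Nat.cast_zero, zero_mul, MultPSL.x_zero stein_el h]
      | succ m ih =>
        rw [pow_succ, ih, ← stein_el.add i j h]
        push_cast
        rw [add_mul, one_mul]
    rw [key, CharP.cast_eq_zero, zero_mul, MultPSL.x_zero stein_el h]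
  · rw [el, dif_neg h, one_pow]

end Transvections

variable {F : Type u} [Field F] [Fintype F]

/-- Homomorphisms from `SL_m(F)`, `m ≥ 2`, lift. -/
theorem exists_lift_SL {p : ℕ} [Fact p.Prime] [CharP F p] {m : ℕ} (hm : 2 ≤ m) {E G : Type u}
    [Group E] [Finite E] [Group G] (D : PExt E G p)
    (f : Matrix.SpecialLinearGroup (Fin m) F →* G) :
    ∃ ρ : Matrix.SpecialLinearGroup (Fin m) F →* E, ∀ A, D.π (ρ A) = f A := by
  classical
  obtain rfl | hm3 : m = 2 ∨ 3 ≤ m := by omega
  · obtain ⟨ψ, hψ⟩ := SchurBN.exists_lift_sl2 D.primeToP f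
      (by rw [MonoidHom.range_eq_top.2 D.surj]; exact le_top)
    exact ⟨ψ, fun A => DFunLike.congr_fun hψ A⟩
  have hx : ∀ i j : Fin m, i ≠ j → ∀ a : F, PEl p (f (el i j a)) :=
    fun i j _ a => (pEl_el i j a).map f
  have R : Stein fun i j a => ((D.lf (f (el i j a)), el i j a) : E × Matrix.SpecialLinearGroup (Fin m) F) := by
    have R1 := D.stein_lf (stein_el.map f) hx
    exact
      { add := fun i j h s t => Prod.ext (R1.add i j h s t) (stein_el.add i j h s t)
        comm := fun i j k l h1 h2 h3 h4 a b => Prod.ext (R1.comm i j k l h1 h2 h3 h4 a b).eq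
          (stein_el.comm i j k l h1 h2 h3 h4 a b).eq
        rel := fun i j k h1 h2 h3 a b =>
          Prod.ext (R1.rel i j k h1 h2 h3 a b) (stein_el.rel i j k h1 h2 h3 a b) }
  set S := {g : E × Matrix.SpecialLinearGroup (Fin m) F |
    ∃ i j, i ≠ j ∧ ∃ a, g = (D.lf (f (el i j a)), el i j a)} with hS
  set L := Subgroup.closure S with hL
  let x : Fin m → Fin m → F → L := fun i j a => if h : i ≠ j then
    ⟨_, Subgroup.subset_closure ⟨i, j, h, a, rfl⟩⟩ else 1
  have hxv : ∀ {i j : Fin m}, i ≠ j → ∀ a,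
      (x i j a : E × Matrix.SpecialLinearGroup (Fin m) F) = (D.lf (f (el i j a)), el i j a) :=
    fun h a => by simp only [x, dif_pos h]
  have RL : Stein x :=
    { add := fun i j h s t => Subtype.ext (by
        rw [Subgroup.coe_mul, hxv h, hxv h, hxv h]; exact R.add i j h s t)
      comm := fun i j k l h1 h2 h3 h4 a b => Subtype.ext (by
        rw [Subgroup.coe_mul, Subgroup.coe_mul, hxv h1, hxv h2]
        exact R.comm i j k l h1 h2 h3 h4 a b)
      rel := fun i j k h1 h2 h3 a b => Subtype.ext (by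
        show ⁅(x i j a).1, (x j k b).1⁆ = (x i k (a * b)).1
        rw [hxv h1, hxv h2, hxv h3]
        exact R.rel i j k h1 h2 h3 a b) }
  have hgen : Subgroup.closure {g | ∃ i j, i ≠ j ∧ ∃ a, g = x i j a} = ⊤ := by
    rw [eq_top_iff, ← Subgroup.closure_closure_coe_preimage (k := S)]
    refine Subgroup.closure_mono ?_
    rintro g ⟨i, j, h, a, e⟩
    exact ⟨i, j, h, a, Subtype.ext (by rw [hxv h]; exact e)⟩
  have hm' : 3 ≤ Fintype.card (Fin m) := by rw [Fintype.card_fin]; exact hm3
  obtain ⟨hf, hc⟩ := MultPSL.card_le RL hm' hgen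
  let pr : L →* Matrix.SpecialLinearGroup (Fin m) F := (MonoidHom.snd _ _).comp L.subtype
  have hs : Function.Surjective pr := by
    rw [← MonoidHom.range_eq_top, eq_top_iff, ← closure_el, Subgroup.closure_le]
    rintro _ ⟨i, j, h, a, rfl⟩
    exact ⟨⟨_, Subgroup.subset_closure ⟨i, j, h, a, rfl⟩⟩, rfl⟩
  have hle : Nat.card L ≤ Nat.card (Matrix.SpecialLinearGroup (Fin m) F) := by
    haveI : Nonempty (Fin m) := ⟨⟨0, by omega⟩⟩
    have hq := Fintype.one_lt_card (α := F)
    refine Nat.le_of_mul_le_mul_left (hc.trans_eq ?_) (by omega : 0 < Fintype.card F - 1)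
    rw [Linear.card_SL_mul, Linear.card_GL, Linear.prod_pow_sub_pow]
  have hb : Function.Bijective pr := (Nat.bijective_iff_surjective_and_card pr).2
    ⟨hs, le_antisymm hle (Nat.card_le_card_of_surjective _ hs)⟩
  let e := MulEquiv.ofBijective pr hb
  refine ⟨((MonoidHom.fst _ _).comp L.subtype).comp e.symm.toMonoidHom, fun A => ?_⟩
  have h2 : ((e.symm A : L) : E × Matrix.SpecialLinearGroup (Fin m) F).2 = A := e.apply_symm_apply A
  have key : ∀ z ∈ L, D.π z.1 = f z.2 := by
    have : L ≤ (D.π.comp (MonoidHom.fst _ _)).eqLocus (f.comp (MonoidHom.snd _ _)) := by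
      rw [hL, Subgroup.closure_le]
      rintro _ ⟨i, j, h, a, rfl⟩
      exact D.π_lf (hx i j h a)
    exact fun z hz => this hz
  exact (key _ (e.symm A).2).trans (congrArg f h2)

end CfsgLib.MultPSU
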