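import Cfsg.Agent.MultOrth.Lift
import Cfsg.Agent.MultPSL.LiftsTwo
import Cfsg.Agent.Forms4.ExceptionalTools

/-!
# Homomorphisms from `SL_2(q)` lift to central extensions
-/

set_option autoImplicit false
set_option linter.unusedSectionVars false

namespace CfsgLib.MultPSU

open Matrix
open CfsgLib.MultPSL (el el_eq)

variable {F : Type*} [Field F] [Fintype F]

theorem rel_el : SL2Steinberg.Rel (G := Matrix.SpecialLinearGroup (Fin 2) F) (el 0 1) (el 1 0) := by
  refine ⟨?_, fun s t => MultPSL.stein_el.add 0 1 (by decide) s t,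
    fun s t => MultPSL.stein_el.add 1 0 (by decide) s t, fun t v ht => ?_⟩
  · rw [eq_top_iff, ← MultPSL.closure_el, Subgroup.closure_le]
    rintro _ ⟨i, j, h, a, rfl⟩
    fin_cases i <;> fin_cases j <;>
      first
        | exact absurd rfl h
        | exact Subgroup.subset_closure (Or.inl ⟨a, rfl⟩)
        | exact Subgroup.subset_closure (Or.inr ⟨a, rfl⟩)
  · rw [mul_inv_eq_iff_eq_mul, el_eq (show (0 : Fin 2) ≠ 1 by decide),
      el_eq (show (1 : Fin 2) ≠ 0 by decide), el_eq (show (0 : Fin 2) ≠ 1 by decide),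
      el_eq (show (1 : Fin 2) ≠ 0 by decide)]
    apply Linear.sl_ext_mulVec
    intro w l
    simp only [Matrix.SpecialLinearGroup.coe_mul, ← Matrix.mulVec_mulVec,
      Linear.transvection_smul_apply]
    fin_cases l <;> simp <;> field_simp <;> ring

/-- A homomorphism from `SL_2(q)`, `q ≥ 5`, `q ≠ 9`, lifts through every central extension. -/
theorem exists_sl2_lift_any (h5 : 5 ≤ Fintype.card F) (h9 : Fintype.card F ≠ 9) {E G : Type*} [Group E]
    [Finite E] [Group G] (φ : E →* G) (hc : φ.ker ≤ Subgroup.center E)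
    (f : Matrix.SpecialLinearGroup (Fin 2) F →* G) (hf : f.range ≤ φ.range) :
    ∃ ρ : Matrix.SpecialLinearGroup (Fin 2) F →* E, ∀ A, φ (ρ A) = f A := by
  let P : Subgroup (E × Matrix.SpecialLinearGroup (Fin 2) F) :=
    (φ.comp (MonoidHom.fst E _)).eqLocus (f.comp (MonoidHom.snd E _))
  let π : P →* Matrix.SpecialLinearGroup (Fin 2) F := (MonoidHom.snd E _).comp P.subtype
  have hs : Function.Surjective π := fun A => by
    obtain ⟨e, he⟩ := hf ⟨A, rfl⟩
    exact ⟨⟨(e, A), he⟩, rfl⟩
  have hcP : π.ker ≤ Subgroup.center P := by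
    intro x hx
    have hx2 : x.1.2 = 1 := hx
    have hx1 : x.1.1 ∈ Subgroup.center E := hc (by
      rw [MonoidHom.mem_ker, show φ x.1.1 = f x.1.2 from x.2, hx2, map_one])
    refine Subgroup.mem_center_iff.2 fun y => Subtype.ext (Prod.ext ?_ ?_)
    · exact Subgroup.mem_center_iff.1 hx1 y.1.1
    · show y.1.2 * x.1.2 = x.1.2 * y.1.2
      rw [hx2, mul_one, one_mul]
  obtain ⟨hsP, hP⟩ := MultOrth.derived_of_central π hs hcP (Forms4.commutator_SL_two (by omega))
  set π' := π.comp (commutator P).subtype with hπ'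
  obtain ⟨-, hcard⟩ := MultPSL.card_le_two π' hsP (fun x hx => Subgroup.mem_center_iff.2 fun y =>
    Subtype.ext (Subgroup.mem_center_iff.1 (hcP (x := (x : P)) hx) y)) hP rel_el h5 h9
  have hb : Function.Bijective π' := by
    refine (Nat.bijective_iff_surjective_and_card π').2
      ⟨hsP, le_antisymm (hcard.trans_eq ?_) (Nat.card_le_card_of_surjective _ hsP)⟩
    rw [Linear.card_SL_two, mul_assoc, mul_comm (Fintype.card F - 1), ← Nat.sq_sub_sq, one_pow]
  let s := (commutator P).subtype.comp (MulEquiv.ofBijective π' hb).symm.toMonoidHom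
  refine ⟨(MonoidHom.fst E _).comp (P.subtype.comp s), fun A => ?_⟩
  have h1 : φ (s A).1.1 = f (s A).1.2 := (s A).2
  have h2 : (s A).1.2 = A := (MulEquiv.ofBijective π' hb).apply_symm_apply A
  rw [h2] at h1
  exact h1

end CfsgLib.MultPSU
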