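import Cfsg.Agent.MultPSU.FiveSplit
import Cfsg.Agent.MultPSU.SLLift
import Cfsg.Agent.MultPSU.SmallLift

/-!
# Lifting the Levi factor in dimension five, `q` a prime

The lifts of the root group of the Levi factor form a group by the torus, so the pullback of the extension
over `SL_2` has kernel of order prime to `p` inside its derived group, hence splits.
-/

set_option autoImplicit false
set_option linter.unusedSectionVars false
set_option linter.style.haveILetI false

namespace CfsgLib.MultPSU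

open Matrix CfsgLib.RepBounds.Unit CfsgLib.SUThreeUnipotent CfsgLib.SUTwoGen CfsgLib.SUPres
open CfsgLib.SLnPres (tv)
open scoped commutatorElement

universe u

variable {F : Type u} [Field F] [Fintype F] {C : ConjField F} {ι : Type} [Fintype ι] [DecidableEq ι]
  {Φ : PFrame C (0 + 2) ι} {E : Type u} [Group E]

local notation "SL2" => Matrix.SpecialLinearGroup (Fin (0 + 2)) F

namespace FData

variable (A : FData Φ E)
include A

theorem m_cen_m (a b : F) :
    A.D.cm (pEl Φ (.inl 0) (.inr 1) a) (pEl Φ (.inl 0) (.inr 1) b) = 1 := by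
  obtain ⟨c, hc, hc0⟩ := exists_skew_ne C
  obtain ⟨f1, -, f3, -⟩ := flipEl_spec (Φ := Φ) hc hc0 1
  have e : ∀ r, flipEl Φ c 1 * pEl Φ (.inl 0) (.inl 1) r * (flipEl Φ c 1)⁻¹ =
      pEl Φ (.inl 0) (.inr 1) (c * r) := fun r => by
    have h0 : app C (flipEl Φ c 1) (Φ.v (.inl 0)) = (1 : F) • Φ.v (.inl 0) := by
      rw [one_smul]; exact f3 _ SUPres.zero_ne_one'
    rw [conj_pEl' h0 f1 ix01 r, map_one, one_mul]
  have h := A.D.cm_conj_one (flipEl Φ c 1) (A.D.mem_cen.1 (A.p_cen_p (a / c) (b / c)))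
  rwa [e, e, mul_div_cancel₀ _ hc0, mul_div_cancel₀ _ hc0] at h

/-- The lift of a root element of the Levi factor. -/
noncomputable def mt (r : F) : E :=
  A.D.cm A.gR (pEl Φ (.inl 0) (.inr 1) (r / (C.σ A.r0 * (C.σ A.r1)⁻¹ - 1)))

theorem π_mt (r : F) : A.D.π (A.mt r) = pEl Φ (.inl 0) (.inr 1) r := by
  have h := (ne_of_ix (ix01' (k := 0))).2
  rw [mt, A.D.π_cm, commutatorElement_def, A.hgR.conj_m, mul_inv_eq_iff_eq_mul, ← pEl_add h]
  congr 1
  have hne := sub_ne_zero.2 A.hlm
  generalize C.σ A.r0 * (C.σ A.r1)⁻¹ = l at hne ⊢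
  field_simp
  ring

theorem mt_add (r s : F) : A.mt (r + s) = A.mt r * A.mt s := by
  set l := C.σ A.r0 * (C.σ A.r1)⁻¹
  have h := A.π_mt s
  rw [mt] at h
  rw [mt, mt, mt, add_div, pEl_add (ne_of_ix (ix01' (k := 0))).2, A.D.cm_mul_right,
    (A.D.commute_of (A.D.π_sl _) h (A.m_cen_m _ _)).eq, mul_inv_cancel_right]

theorem mt_zero : A.mt 0 = 1 := by
  have := A.mt_add 0 0
  rw [add_zero] at this
  exact left_eq_mul.1 this

/-- The lifts of the Levi root group. -/
noncomputable def mHom : Multiplicative F →* E where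
  toFun x := A.mt (-C.σ x.toAdd)
  map_one' := by simp [A.mt_zero]
  map_mul' x y := by rw [toAdd_mul, map_add, neg_add, A.mt_add]

/-- The root group of `SL_2`. -/
noncomputable def tvHom (_A : FData Φ E) : Multiplicative F →* SL2 where
  toFun x := tv 0 1 x.toAdd
  map_one' := by rw [toAdd_one, SLnPres.tv_zero]
  map_mul' x y := by rw [toAdd_mul, tv_add' SUPres.zero_ne_one']

theorem exists_levi_lift [Finite E] {p : ℕ} [Fact p.Prime] [CharP F p] (h4 : 4 ≤ Fintype.card F) :
    ∃ ρ : SL2 →* E, ∀ M, A.D.π (ρ M) = lev Φ M := by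
  classical
  let P : Subgroup (E × SL2) :=
    (A.D.π.comp (MonoidHom.fst E _)).eqLocus ((lev Φ).comp (MonoidHom.snd E _))
  let π : P →* SL2 := (MonoidHom.snd E _).comp P.subtype
  have hs : Function.Surjective π := fun M => ⟨⟨(A.D.sl (lev Φ M), M), A.D.π_sl _⟩, rfl⟩
  have hcP : π.ker ≤ Subgroup.center P := by
    intro x hx
    have hx2 : x.1.2 = 1 := hx
    have hx1 : x.1.1 ∈ Subgroup.center E := A.D.central (by
      rw [MonoidHom.mem_ker, show A.D.π x.1.1 = lev Φ x.1.2 from x.2, hx2, map_one])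
    refine Subgroup.mem_center_iff.2 fun y => Subtype.ext (Prod.ext ?_ ?_)
    · exact Subgroup.mem_center_iff.1 hx1 y.1.1
    · show y.1.2 * x.1.2 = x.1.2 * y.1.2
      rw [hx2, mul_one, one_mul]
  obtain ⟨hsP, hP⟩ := MultOrth.derived_of_central π hs hcP (Forms4.commutator_SL_two h4)
  set π' := π.comp (commutator P).subtype with hπ'
  let H' : Subgroup P := (A.mHom.prod A.tvHom).range.comap P.subtype
  have hm : ∀ x, A.D.π (A.mHom x) = lev Φ (A.tvHom x) := fun x => by
    show A.D.π (A.mt _) = lev Φ (tv 0 1 _)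
    rw [A.π_mt, lev_tv01]
  have hinj : ∀ x ∈ H', π x = 1 → x = 1 := by
    rintro ⟨⟨e, M⟩, hx⟩ ⟨r, hr⟩ (h1 : M = 1)
    have h2 : A.tvHom r = 1 := (congrArg Prod.snd hr).trans h1
    have hr0 : r = 1 := by
      have := congrArg (fun N : SL2 => N.1 0 1) h2
      simp only [tvHom, MonoidHom.coe_mk, OneHom.coe_mk, SLnPres.coe_tv SUPres.zero_ne_one',
        Matrix.transvection] at this
      simpa using this
    subst hr0
    rw [map_one] at hr
    exact Subtype.ext hr.symm
  have hH : A.tvHom.range ≤ H'.map π := by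
    rintro _ ⟨r, rfl⟩
    exact ⟨⟨(A.mHom r, A.tvHom r), hm r⟩, ⟨r, rfl⟩, rfl⟩
  have hidx : ¬ p ∣ (H'.map π).index := by
    have hcard : Fintype.card F ∣ Nat.card (H'.map π) := by
      refine dvd_trans (dvd_of_eq ?_) (Subgroup.card_dvd_of_le hH)
      rw [Nat.card_congr (MonoidHom.ofInjective (f := A.tvHom) ?_).toEquiv.symm,
        Nat.card_congr Multiplicative.toAdd, Nat.card_eq_fintype_card]
      intro x y e
      have := congrArg (fun N : SL2 => N.1 0 1) e
      simp only [tvHom, MonoidHom.coe_mk, OneHom.coe_mk, SLnPres.coe_tv SUPres.zero_ne_one',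
        Matrix.transvection] at this
      simpa using this
    obtain ⟨n, hn, hn'⟩ := FiniteField.card F p
    obtain ⟨t, ht⟩ := hcard
    have h1 := (H'.map π).index_mul_card
    rw [Linear.card_SL_two, ht] at h1
    intro hd
    have hd2 : p ∣ (Fintype.card F - 1) * (Fintype.card F + 1) := by
      have h2 : (H'.map π).index * t = (Fintype.card F - 1) * (Fintype.card F + 1) := by
        refine Nat.eq_of_mul_eq_mul_left (by omega : 0 < Fintype.card F) ?_
        rw [mul_comm (Fintype.card F - 1), ← Nat.sq_sub_sq, one_pow]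
        linear_combination h1
      exact h2 ▸ dvd_mul_of_dvd_left hd t
    have hpF : p ∣ Fintype.card F := hn' ▸ dvd_pow_self p n.pos.ne'
    rcases (Nat.Prime.dvd_mul hn).1 hd2 with h | h
    · have := Nat.dvd_sub hpF h
      rw [Nat.sub_sub_self (by omega)] at this
      exact hn.one_lt.ne' (Nat.dvd_one.1 this)
    · exact hn.one_lt.ne' (Nat.dvd_one.1 ((Nat.dvd_add_right hpF).1 h))
  have key : ∀ z : ↥(commutator P), π' z = 1 → z ^ p = 1 → z = 1 := fun z hz hzp =>
    Subtype.ext (eq_one_of_lift π hs hcP H' hinj hz z.2 (Nat.Coprime.of_dvd_left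
      (orderOf_dvd_of_pow_eq_one (by simpa using congrArg Subtype.val hzp))
      ((Nat.Prime.coprime_iff_not_dvd Fact.out).2 hidx)))
  have hcop : ¬ p ∣ Nat.card π'.ker := by
    intro h
    obtain ⟨y, hy⟩ := exists_prime_orderOf_dvd_card' (G := π'.ker) p h
    have : y = 1 := Subtype.ext (key y y.2 (by
      rw [← Subgroup.coe_pow, ← hy, pow_orderOf_eq_one]; rfl))
    exact (Fact.out : p.Prime).ne_one (by rw [← hy, this, orderOf_one])
  obtain ⟨s, hs'⟩ := exists_lift_SL (p := p) (m := 0 + 2) le_rfl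
    (⟨π', hsP, fun x hx => Subgroup.mem_center_iff.2 fun y =>
      Subtype.ext (Subgroup.mem_center_iff.1 (hcP (x := (x : P)) hx) y), Fact.out, hcop⟩ :
      PExt (commutator P) SL2 p) (MonoidHom.id SL2)
  refine ⟨(MonoidHom.fst E _).comp (P.subtype.comp ((commutator P).subtype.comp s)), fun M => ?_⟩
  have h1 : A.D.π (s M).1.1.1 = lev Φ (s M).1.1.2 := (s M).1.2
  have h2 : (s M).1.1.2 = M := hs' M
  rw [h2] at h1
  exact h1

end FData

end CfsgLib.MultPSU
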