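import Cfsg.Agent.MultPSU.High
import Cfsg.Agent.SUTwoGen.Close
import Cfsg.Agent.SUTwoGen.Main

/-!
# The kernel prime to `p` vanishes, four dimensions and more
-/

set_option autoImplicit false
set_option linter.unusedSectionVars false
set_option linter.unusedSimpArgs false

namespace CfsgLib.MultPSU

open Matrix CfsgLib.RepBounds.Unit CfsgLib.SUThreeUnipotent CfsgLib.SUTwoGen CfsgLib.SUPres
open CfsgLib.SLnPres (tv)
open CfsgLib.SpnPres (IsMon monOf isMon_monOf)
open CfsgLib.OrthGen (negCycle all_of_closed)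
open scoped commutatorElement

universe u

variable {F : Type*} [Field F] [Fintype F] {C : ConjField F} {ι : Type*} [Fintype ι] [DecidableEq ι] {k : ℕ}

/-- The Levi subgroup, the exchange and one root group generate. -/
theorem eq_top_of_levi (Φ : PFrame C (k + 2) ι) (hι : ¬ (Fintype.card ι = 3 ∧ C.q = 2)) {c : F}
    (hc : C.σ c = -c) (hc0 : c ≠ 0) {S : Subgroup (suG C ι)} (hL : ∀ M, lev Φ M ∈ S)
    (hp : flipEl Φ c 0 ∈ S) (hY : ∀ a γ, QV Φ a γ → qEl Φ (.inl 0) a γ ∈ S) : S = ⊤ := by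
  set R := monOf (F := F) (finRotate (k + 2)) 0 with hR
  have hRm := isMon_monOf (F := F) (finRotate (k + 2)) 0
  set g := flipEl Φ c 0 * lev Φ R with hg
  have hgS : g ∈ S := mul_mem hp (hL R)
  obtain ⟨f1, f2, f3, f4⟩ := flipEl_spec (Φ := Φ) hc hc0 (0 : Fin (k + 2))
  have hflip : Φ.Mon (flipEl Φ c 0) (Equiv.swap (.inl 0) (.inr 0)) := by
    refine ⟨fun d => ?_, f4⟩
    rcases eq_or_ne d (.inl 0) with rfl | h1
    · exact ⟨c, hc0, by rw [Equiv.swap_apply_left, f1]⟩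
    rcases eq_or_ne d (.inr 0) with rfl | h2
    · exact ⟨-c⁻¹, neg_ne_zero.2 (inv_ne_zero hc0), by rw [Equiv.swap_apply_right, f2]⟩
    refine ⟨1, one_ne_zero, ?_⟩
    rw [Equiv.swap_apply_of_ne_of_ne h1 h2, one_smul, f3 d]
    rcases d with j | j <;> simp only [ix_inl, ix_inr]
    · exact fun e => h1 (by rw [e])
    · exact fun e => h2 (by rw [e])
  have hlev : Φ.Mon (lev Φ R) (Equiv.sumCongr (finRotate (k + 2)) (finRotate (k + 2))) := by
    refine ⟨?_, lev_x0 R⟩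
    rintro (j | j)
    · exact ⟨_, hRm.ne j, lev_mon_inl hRm j⟩
    · exact ⟨_, inv_ne_zero ((map_ne_zero C.σ).2 (hRm.ne j)), lev_mon_inr hRm j⟩
  have hm : Φ.Mon g (negCycle k) := Φ.mon_mul hflip hlev
  have h01 : (0 : Fin (k + 2)) ≠ 1 := SUPres.zero_ne_one'
  have hedge : Rel Φ S (.inl 0) (.inr 1) := by
    refine ⟨by simp, by simp [h01.symm], fun r => ⟨pEl Φ (.inl 0) (.inr 1) r, ?_, isE_pEl (by simp [h01.symm]) r⟩⟩
    rw [pEl_symm (by simp [h01.symm]), ← lev_tv h01]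
    exact hL _
  have hcent : ∀ d, Centre S (Φ.v d) := by
    refine all_of_closed (S := {d | Centre S (Φ.v d)}) (fun d hd => centre_move hgS hm hd) (c := .inl 0) ?_
    intro z hz
    have hv : QV Φ 0 z := qv_zero_iff.2 (C.skew_eq hz)
    exact ⟨_, hY 0 z hv, by have := isE_qEl (c := Sum.inl (0 : Fin (k + 2))) hv; rwa [zero_smul] at this⟩
  refine eq_top_of_edge hι hgS hm hedge ?_
  obtain ⟨t, ht⟩ := C.exists_trace_one
  have hv : QV Φ (1 : F) (-(t * eps Φ)) := by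
    unfold QV
    rw [map_neg, map_mul, σ_eps, map_one]
    linear_combination -(eps Φ) * ht
  set q := qEl Φ (.inl 0) 1 (-(t * eps Φ))
  have e : app C q (Φ.v (.inr 0)) = Φ.v (.inr 0) + Φ.x0 + (-(t * eps Φ)) • Φ.v (.inl 0) := by
    rw [app_qEl hv]
    simp [Φ.vx, show herm C (Φ.v (Sum.inr 0)) (Φ.v (Sum.inl (0 : Fin (k + 2)))) = 1 from
      herm_v1 Φ (.inr 0)]
  have hmem : ∀ d, Φ.v d ∈ Submodule.span F {v | herm C v v = 0 ∧ Centre S v} := fun d =>
    Submodule.subset_span ⟨Φ.self d, hcent d⟩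
  have h1 : app C q (Φ.v (.inr 0)) ∈ Submodule.span F {v | herm C v v = 0 ∧ Centre S v} :=
    Submodule.subset_span ⟨by rw [herm_app, Φ.self], (hcent _).map (hY _ _ hv)⟩
  rw [e] at h1
  have := sub_mem (sub_mem h1 (hmem (.inr 0))) (Submodule.smul_mem _ (-(t * eps Φ)) (hmem (.inl 0)))
  convert this using 1
  abel

/-- Perfect central extensions of `SU_n(q)`, `n ≥ 4`, with kernel prime to `p` are trivial. -/
theorem injective_high {F : Type u} [Field F] [Fintype F] {C : ConjField F} {ι : Type} [Fintype ι]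
    [DecidableEq ι] {p : ℕ} [Fact p.Prime] [CharP F p] {E : Type u} [Group E] [Finite E]
    (D : PExt E (suG C ι) p) (hE : commutator E = ⊤) (Φ : PFrame C (k + 2) ι)
    (hι : ¬ (Fintype.card ι = 3 ∧ C.q = 2)) : Function.Injective D.π := by
  obtain ⟨ρ, hρ⟩ := exists_lift_SL (by omega) D (lev Φ)
  obtain ⟨c, hc, hc0⟩ := C.exists_skew_ne
  let A : HData Φ E p := ⟨D, ρ, hρ, c, C.skew_eq hc, hc0⟩
  refine A.toQData.injective ?_
  set S := A.toQData.ρ.range ⊔ Subgroup.zpowers A.toQData.p ⊔ A.toQData.Y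
  have htop : S.map D.π = ⊤ := by
    refine eq_top_of_levi Φ hι (C.skew_eq hc) hc0 (fun M => ?_) ?_ fun a γ h => ?_
    · exact ⟨ρ M, Subgroup.mem_sup_left (Subgroup.mem_sup_left ⟨M, rfl⟩), hρ M⟩
    · exact ⟨A.p0, Subgroup.mem_sup_left (Subgroup.mem_sup_right (Subgroup.mem_zpowers _)), A.π_p0⟩
    · exact ⟨_, Subgroup.mem_sup_right (A.lf_mem_Y h), D.π_lf (pEl_qEl h)⟩
  have hSK : S ⊔ D.π.ker = ⊤ := by
    rw [← Subgroup.comap_map_eq, htop, Subgroup.comap_top]
  have h2 : ⁅S ⊔ D.π.ker, S ⊔ D.π.ker⁆ ≤ S := by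
    rw [Subgroup.commutator_le]
    intro a ha b hb
    rw [← Subgroup.comap_map_eq] at ha hb
    obtain ⟨a', ha', ea⟩ := ha
    obtain ⟨b', hb', eb⟩ := hb
    have ca : a'⁻¹ * a ∈ Subgroup.center E :=
      D.central (by rw [MonoidHom.mem_ker, map_mul, map_inv, ea, inv_mul_cancel])
    have cb : b'⁻¹ * b ∈ Subgroup.center E :=
      D.central (by rw [MonoidHom.mem_ker, map_mul, map_inv, eb, inv_mul_cancel])
    have e := SchurTheory.commutatorElement_mul_mem_center (x := a') (y := b') ca cb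
    rw [mul_inv_cancel_left, mul_inv_cancel_left] at e
    rw [e, commutatorElement_def]
    exact mul_mem (mul_mem (mul_mem ha' hb') (inv_mem ha')) (inv_mem hb')
  rw [hSK, ← commutator_def, hE] at h2
  exact top_le_iff.1 h2

end CfsgLib.MultPSU
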