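import Cfsg.Agent.MultPSU.SmallSplit
import Cfsg.Agent.MultPSU.SmallLift
import Cfsg.Agent.MultPSU.HighMain
import Cfsg.Agent.MultPSU.BigMain
import Cfsg.Agent.S0278
import Cfsg.Agent.Forms.UnitaryTransvections

/-!
# Perfect central extensions are trivial, dimensions four and five, `q ≥ 4`
-/

set_option autoImplicit false
set_option linter.unusedSectionVars false
set_option linter.style.haveILetI false

namespace CfsgLib.MultPSU

open Matrix CfsgLib.RepBounds.Unit CfsgLib.SUThreeUnipotent CfsgLib.SUTwoGen CfsgLib.SUPres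
open CfsgLib.SLnPres (tv)
open scoped commutatorElement

universe u

variable {F : Type u} [Field F] [Fintype F] {C : ConjField F} {N : ℕ} {Φ : PFrame C (0 + 2) (Fin N)}

/-- A subgroup containing the unipotent group of both indices has index prime to `p`. -/
theorem index_coprime {p : ℕ} [Fact p.Prime] [CharP F p] (hN : N = 4 ∨ N = 5) (he : N = 5 → eps Φ = 1)
    {S : Subgroup (suG C (Fin N))} (hS : WW Φ ≤ S) : ¬ p ∣ S.index := by
  intro hp
  have hp2 := (Fact.out : p.Prime)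
  obtain ⟨b, hb⟩ := IsPGroup.iff_card.1 (isPGroup_WW (Φ := Φ) (p := p))
  have hpq : p ∣ C.q := by
    obtain ⟨n, -, hn⟩ := FiniteField.card F p
    have : p ∣ C.q ^ 2 := by rw [← C.card, hn]; exact dvd_pow_self p n.pos.ne'
    exact hp2.dvd_of_dvd_pow this
  obtain ⟨j, -, hj⟩ : ∃ j ≤ b + 10 * C.q, C.q = p ^ j := by
    obtain ⟨n, -, hn⟩ := FiniteField.card F p
    obtain ⟨i, -, hi⟩ := (Nat.dvd_prime_pow hp2).1 (show C.q ∣ p ^ (n : ℕ) from hn ▸ C.card ▸ dvd_pow_self _ two_ne_zero)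
    refine ⟨i, ?_, hi⟩
    have : i < p ^ i := Nat.lt_pow_self hp2.one_lt
    rw [← hi] at this
    omega
  set P : ℕ := ∏ i ∈ Finset.range N, (if Even i then C.q ^ (i + 1) + 1 else C.q ^ (i + 1) - 1) with hP
  have hcard : (C.q + 1) * Nat.card (suG C (Fin N)) = C.q ^ (N * (N - 1) / 2) * P := by
    rw [suG_fin_eq, hP]
    exact Cfsg.Agent.S0278.result C.card N (by omega)
  have hPp : ¬ p ∣ P := by
    rw [hP, Prime.dvd_finsetProd_iff hp2.prime]
    rintro ⟨i, -, hi⟩
    have hq : p ∣ C.q ^ (i + 1) := dvd_pow hpq (by omega)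
    split_ifs at hi
    · exact hp2.one_lt.ne' (Nat.dvd_one.1 ((Nat.dvd_add_right hq).1 hi))
    · have h1 : 1 ≤ C.q ^ (i + 1) := Nat.one_le_pow _ _ (by have := C.two_le; omega)
      have := Nat.dvd_sub hq hi
      rw [Nat.sub_sub_self h1] at this
      exact hp2.one_lt.ne' (Nat.dvd_one.1 this)
  have hge : C.q ^ (N * (N - 1) / 2) ∣ Nat.card (WW Φ) := by
    rw [hb, hj, ← pow_mul]
    refine pow_dvd_pow p ((Nat.pow_le_pow_iff_right hp2.one_lt).1 ?_)
    rw [← hb, pow_mul, ← hj]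
    rcases hN with rfl | rfl
    · refine le_trans (le_of_eq ?_) (card_WW_ge ⟨card_QS _, card_QS _⟩)
      ring
    · refine le_trans (le_of_eq ?_) (card_WW_ge ⟨card_QS_odd (he rfl) _, card_QS_odd (he rfl) _⟩)
      ring
  have h1 := S.index_mul_card
  obtain ⟨e, he'⟩ := hge.trans (Subgroup.card_dvd_of_le hS)
  rw [he'] at h1
  rw [← h1] at hcard
  have h2 : (C.q + 1) * (S.index * e) = P := by
    have hq0 : 0 < C.q ^ (N * (N - 1) / 2) := pow_pos (by have := C.two_le; omega) _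
    refine Nat.eq_of_mul_eq_mul_left hq0 ?_
    rw [← hcard]; ring
  exact hPp (h2 ▸ dvd_mul_of_dvd_right (dvd_mul_of_dvd_left hp e) _)

/-- Perfect central extensions of `SU_4(q)` and `SU_5(q)`, `q ≥ 4`, are trivial. -/
theorem injective_small (Φ : PFrame C (0 + 2) (Fin N)) (hN : N = 4 ∨ N = 5) (he : N = 5 → eps Φ = 1)
    (hq : 4 ≤ C.q) {E : Type u} [Group E] [Finite E] (π : E →* suG C (Fin N)) (hs : Function.Surjective π)
    (hc : π.ker ≤ Subgroup.center E) (hE : commutator E = ⊤) : Function.Injective π := by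
  classical
  obtain ⟨p, hchar⟩ := CharP.exists F
  haveI : Fact p.Prime := ⟨CharP.char_is_prime F p⟩
  have key : ∀ z ∈ π.ker, z ^ p = 1 → z = 1 := by
    intro z hz hzp
    have h16 : 16 ≤ Fintype.card F := by rw [C.card]; nlinarith
    obtain ⟨ρ, hρ⟩ := exists_sl2_lift_any (F := F) (by omega) (by omega) π hc (lev Φ)
      (by rw [MonoidHom.range_eq_top.2 hs]; exact le_top)
    obtain ⟨t, ht, ht0, ht1, ht2⟩ := exists_fixed (C := C) hq
    obtain ⟨hh, hhh⟩ := exists_tor_scalar (Φ := Φ) ht ht0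
    obtain ⟨hr, hhr⟩ := exists_tor_right (Φ := Φ) ht ht0
    obtain ⟨hl, hhl⟩ := exists_tor_left (Φ := Φ) ht ht0
    let A : SData Φ E := ⟨⟨π, hs, hc⟩, t, ht, ht0, ht1, ht2, hh, hhh, hr, hhr, hl, hhl⟩
    obtain ⟨K, hK, hinj, honto, hnorm⟩ := A.exists_complement ρ hρ
    have hn : ρ.range ≤ Subgroup.normalizer (K : Set E) :=
      le_normalizer_of_conj fun y hy x hx => by
        obtain ⟨M, rfl⟩ := hy
        exact hnorm M x hx
    have hWW : WW Φ ≤ (ρ.range ⊔ K).map π := by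
      refine sup_le ?_ ?_
      · rintro _ ⟨r, rfl⟩
        refine ⟨ρ (tv 0 1 (-C.σ r)), Subgroup.mem_sup_left ⟨_, rfl⟩, ?_⟩
        rw [hρ, lev_tv01, map_neg, C.invol, neg_neg]
      · exact honto.trans (Subgroup.map_mono le_sup_right)
    refine eq_one_of_lift π hs hc (ρ.range ⊔ K) ?_ hz (hE ▸ Subgroup.mem_top z) ?_
    · intro x hx h1
      obtain ⟨_, ⟨M, rfl⟩, k, hk, rfl⟩ := exists_mul_of_sup hn hx
      rw [map_mul, hρ] at h1
      have hM : M = 1 := lev_inter_WB (by rw [eq_inv_of_mul_eq_one_left h1]; exact inv_mem (hK k hk))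
      subst hM
      rw [map_one, one_mul] at h1 ⊢
      exact hinj k hk h1
    · exact Nat.Coprime.of_dvd_left (orderOf_dvd_of_pow_eq_one hzp)
        ((Nat.Prime.coprime_iff_not_dvd Fact.out).2 (index_coprime hN he hWW))
  have hcop : ¬ p ∣ Nat.card π.ker := by
    intro h
    obtain ⟨y, hy⟩ := exists_prime_orderOf_dvd_card' (G := π.ker) p h
    have : y = 1 := Subtype.ext (key y y.2 (by
      rw [← Subgroup.coe_pow, ← hy, pow_orderOf_eq_one]; rfl))
    exact (Fact.out : p.Prime).ne_one (by rw [← hy, this, orderOf_one])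
  exact injective_high ⟨π, hs, hc, Fact.out, hcop⟩ hE Φ (by
    rw [Fintype.card_fin]; omega)

end CfsgLib.MultPSU
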