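import Cfsg.Agent.MultPSU.FiveLift
import Cfsg.Agent.MultPSU.SmallMain

/-!
# Perfect central extensions are trivial, dimension five over the fields with four and nine elements
-/

set_option autoImplicit false
set_option linter.unusedSectionVars false
set_option linter.style.haveILetI false

namespace CfsgLib.MultPSU

open Matrix CfsgLib.RepBounds.Unit CfsgLib.SUThreeUnipotent CfsgLib.SUTwoGen CfsgLib.SUPres
open CfsgLib.SLnPres (tv)
open scoped commutatorElement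

universe u

variable {F : Type u} [Field F] [Fintype F] {C : ConjField F} {ι : Type} [Fintype ι] [DecidableEq ι]

theorem exists_tor5 (Φ : PFrame C (0 + 2) ι) (he : eps Φ = 1) (h5 : Fintype.card ι = 5) {a0 a1 : F}
    (h0 : a0 ≠ 0) (h1 : a1 ≠ 0) : ∃ g, Tor5 Φ g a0 a1 (a0 * a1 * (C.σ (a0 * a1))⁻¹)⁻¹ ∧
      (a0 * a1 * (C.σ (a0 * a1))⁻¹)⁻¹ * C.σ ((a0 * a1 * (C.σ (a0 * a1))⁻¹)⁻¹) = 1 := by
  obtain ⟨g, g1, g2, g3⟩ := exists_frame_diag Φ he (by rw [h5]) (a := ![a0, a1])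
    (fun i => by fin_cases i <;> simpa)
  have hx : xiOf C ![a0, a1] = (a0 * a1 * (C.σ (a0 * a1))⁻¹)⁻¹ := by
    simp [xiOf, Fin.prod_univ_two, map_mul]; ring
  refine ⟨g, ⟨fun d => ?_, hx ▸ g3⟩, ?_⟩
  · rcases d with j | j <;> rcases cases01 j with rfl | rfl <;> simp [g1, g2, sc2, sc]
  · have := mul_ne_zero h0 h1
    have := (map_ne_zero C.σ).2 this
    simp only [map_inv₀, map_mul, C.invol] at *
    field_simp
    exact div_self this

theorem exists_gen {n : ℕ} (hn : Fintype.card F = n + 1) :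
    ∃ w : F, w ≠ 0 ∧ w ^ n = 1 ∧ ∀ k, ¬ n ∣ k → w ^ k ≠ 1 := by
  obtain ⟨u, hu⟩ := IsCyclic.exists_ofOrder_eq_natCard (α := Fˣ)
  have hcard : Nat.card Fˣ = n := by
    rw [Nat.card_units, Nat.card_eq_fintype_card, hn, Nat.add_sub_cancel]
  rw [hcard] at hu
  refine ⟨u, u.ne_zero, ?_, fun k hk h => hk (hu ▸ orderOf_dvd_of_pow_eq_one (Units.ext (by simpa using h)))⟩
  rw [← Units.val_pow_eq_pow_val, ← hu, pow_orderOf_eq_one, Units.val_one]

/-- The torus data when `q = 2, 3`. -/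
theorem exists_fdata (Φ : PFrame C (0 + 2) ι) (he : eps Φ = 1) (h5 : Fintype.card ι = 5)
    (hq : C.q = 2 ∨ C.q = 3) {E : Type u} [Group E] (D : CExt E (suG C ι)) : Nonempty (FData Φ E) := by
  rcases hq with hq | hq
  · -- the field with four elements
    have hF : Fintype.card F = 3 + 1 := by rw [C.card, hq]; rfl
    obtain ⟨w, hw0, hw, hne⟩ := exists_gen hF
    have hs : ∀ x : F, C.σ x = x ^ 2 := fun x => by rw [C.pow, hq]
    have h3 : ∀ x : F, x ≠ 0 → x ^ 3 = 1 := fun x hx => by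
      have := FiniteField.pow_card_sub_one_eq_one x hx; rwa [hF] at this
    have hxi : ∀ y : F, y ≠ 0 → (y * (C.σ y)⁻¹)⁻¹ = y := fun y hy => by rw [hs]; field_simp
    obtain ⟨gR, hgR, hξr⟩ := exists_tor5 Φ he h5 hw0 one_ne_zero
    obtain ⟨hh, hhh, hξh⟩ := exists_tor5 Φ he h5 hw0 hw0
    rw [hxi _ (mul_ne_zero hw0 one_ne_zero)] at hgR hξr
    rw [hxi _ (mul_ne_zero hw0 hw0)] at hhh hξh
    have hinv : (C.σ (1 : F))⁻¹ = 1 := by simp
    refine ⟨⟨D, he, gR, w, 1, _, hgR, hξr, ?_, ?_, ?_, ?_, ?_, hh, w, _, hhh, hξh, ?_, fun x hx => ?_⟩⟩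
    · rw [hs, mul_one, ← pow_succ, hw]
    · rw [hs, ← pow_succ', hw]
    · rw [hs, mul_one]; exact hne 2 (by decide)
    · rw [hinv, hs, mul_one]; exact hne 2 (by decide)
    · rw [map_one, one_mul, mul_one, ← pow_one w]; exact hne 1 (by decide)
    · rw [hs, show w ^ 2 * (w * w) = w ^ 4 by ring]; exact hne 4 (by decide)
    · have hσ : C.σ x ≠ 0 := (map_ne_zero C.σ).2 hx
      obtain ⟨g, hg, hξ⟩ := exists_tor5 Φ he h5 hx (inv_ne_zero hσ)
      rw [hxi _ (mul_ne_zero hx (inv_ne_zero hσ))] at hg hξ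
      refine ⟨g, x, _, _, hg, hξ, ?_, ?_, ?_⟩
      · rw [mul_comm x, ← mul_assoc, mul_inv_cancel₀ hσ, one_mul]
      · rw [map_inv₀, C.invol, ← mul_assoc, inv_mul_cancel₀ hx, one_mul]
      · exact mul_inv_cancel₀ hσ
  · -- the field with nine elements
    have hF : Fintype.card F = 8 + 1 := by rw [C.card, hq]; rfl
    obtain ⟨w, hw0, hw, hne⟩ := exists_gen hF
    have hs : ∀ x : F, C.σ x = x ^ 3 := fun x => by rw [C.pow, hq]
    have h8 : ∀ x : F, x ≠ 0 → x ^ 8 = 1 := fun x hx => by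
      have := FiniteField.pow_card_sub_one_eq_one x hx; rwa [hF] at this
    have hxi : ∀ y : F, y ≠ 0 → (y * (C.σ y)⁻¹)⁻¹ = y ^ 2 := fun y hy => by rw [hs]; field_simp
    have hinv : ∀ x : F, x ≠ 0 → x⁻¹ = x ^ 7 := fun x hx =>
      inv_eq_of_mul_eq_one_right (by rw [← pow_succ', h8 x hx])
    have hw6 : w ^ 6 ≠ 0 := pow_ne_zero _ hw0
    obtain ⟨gR, hgR, hξr⟩ := exists_tor5 Φ he h5 hw6 hw0
    obtain ⟨hh, hhh, hξh⟩ := exists_tor5 Φ he h5 hw0 hw0
    rw [hxi _ (mul_ne_zero hw6 hw0)] at hgR hξr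
    rw [hxi _ (mul_ne_zero hw0 hw0)] at hhh hξh
    have red : ∀ a b : ℕ, w ^ (8 * a + b) = w ^ b := fun a b => by rw [pow_add, pow_mul, hw, one_pow, one_mul]
    refine ⟨⟨D, he, gR, w ^ 6, w, _, hgR, hξr, ?_, ?_, ?_, ?_, ?_, hh, w, _, hhh, hξh, ?_, fun x hx => ?_⟩⟩
    · rw [hs, show (w ^ 6) ^ 3 * (w ^ 6 * w) ^ 2 = w ^ (8 * 4 + 0) by ring, red, pow_zero]
    · rw [hs, show w ^ 6 * (w ^ 6) ^ 3 = w ^ (8 * 3 + 0) by ring, red, pow_zero]
    · rw [hs, show (w ^ 6) ^ 3 * w = w ^ 19 by ring]; exact hne 19 (by decide)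
    · rw [hs, hs, hinv _ (pow_ne_zero _ hw0), show (w ^ 6) ^ 3 * (w ^ 3) ^ 7 = w ^ 39 by ring]
      exact hne 39 (by decide)
    · rw [hs, show w ^ 3 * (w ^ 6 * w) ^ 2 = w ^ 17 by ring]; exact hne 17 (by decide)
    · rw [hs, show w ^ 3 * (w * w) ^ 2 = w ^ 7 by ring]; exact hne 7 (by decide)
    · have hσ : C.σ x⁻¹ ≠ 0 := (map_ne_zero C.σ).2 (inv_ne_zero hx)
      obtain ⟨g, hg, hξ⟩ := exists_tor5 Φ he h5 (inv_ne_zero hx) (inv_ne_zero hσ)
      rw [hxi _ (mul_ne_zero (inv_ne_zero hx) (inv_ne_zero hσ))] at hg hξ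
      refine ⟨g, x⁻¹, _, _, hg, hξ, ?_, ?_, mul_inv_cancel₀ hσ⟩
      · rw [hs]; field_simp
        first | exact (h8 x hx).symm | exact h8 x hx | skip
      · rw [map_inv₀, C.invol, inv_inv, map_inv₀, hs, inv_inv, hinv _ hx, hinv _ (pow_ne_zero _ hx)]
        ring

/-- Perfect central extensions of `SU_5(2)` and `SU_5(3)` are trivial. -/
theorem injective_five (Φ : PFrame C (0 + 2) (Fin 5)) (he : eps Φ = 1) (hq : C.q = 2 ∨ C.q = 3) {E : Type u}
    [Group E] [Finite E] (π : E →* suG C (Fin 5)) (hs : Function.Surjective π)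
    (hc : π.ker ≤ Subgroup.center E) (hE : commutator E = ⊤) : Function.Injective π := by
  classical
  obtain ⟨p, hchar⟩ := CharP.exists F
  haveI : Fact p.Prime := ⟨CharP.char_is_prime F p⟩
  have hqp : C.q = p := by
    obtain ⟨n, hp, hn⟩ := FiniteField.card F p
    rw [C.card] at hn
    have hd : p ∣ C.q := hp.dvd_of_dvd_pow (hn ▸ dvd_pow_self p n.pos.ne')
    rcases hq with h | h <;> rw [h] at hd ⊢
    · exact ((Nat.prime_dvd_prime_iff_eq hp Nat.prime_two).1 hd).symm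
    · exact ((Nat.prime_dvd_prime_iff_eq hp Nat.prime_three).1 hd).symm
  have key : ∀ z ∈ π.ker, z ^ p = 1 → z = 1 := by
    intro z hz hzp
    obtain ⟨A⟩ : Nonempty {A : FData Φ E // A.D.π = π} := by
      obtain ⟨A⟩ := exists_fdata Φ he (Fintype.card_fin 5) hq (⟨π, hs, hc⟩ : CExt E (suG C (Fin 5)))
      exact ⟨⟨{ A with D := ⟨π, hs, hc⟩ }, rfl⟩⟩
    obtain ⟨A, rfl⟩ := A
    obtain ⟨ρ, hρ⟩ := A.exists_levi_lift (p := p) (by rw [C.card]; have := C.two_le; nlinarith)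
    obtain ⟨K, hK, hinj, honto, hnorm⟩ := A.exists_complement hqp ρ hρ
    have hn : ρ.range ≤ Subgroup.normalizer (K : Set E) :=
      le_normalizer_of_conj fun y hy x hx => by
        obtain ⟨M, rfl⟩ := hy
        exact hnorm M x hx
    have hWW : WW Φ ≤ (ρ.range ⊔ K).map A.D.π := by
      refine sup_le ?_ ?_
      · rintro _ ⟨r, rfl⟩
        refine ⟨ρ (tv 0 1 (-C.σ r)), Subgroup.mem_sup_left ⟨_, rfl⟩, ?_⟩
        rw [hρ, lev_tv01, map_neg, C.invol, neg_neg]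
      · exact honto.trans (Subgroup.map_mono le_sup_right)
    refine eq_one_of_lift A.D.π A.D.surj A.D.central (ρ.range ⊔ K) ?_ hz (hE ▸ Subgroup.mem_top z) ?_
    · intro x hx h1
      obtain ⟨_, ⟨M, rfl⟩, k, hk, rfl⟩ := exists_mul_of_sup hn hx
      rw [map_mul, hρ] at h1
      have hM : M = 1 := lev_inter_WB (by rw [eq_inv_of_mul_eq_one_left h1]; exact inv_mem (hK k hk))
      subst hM
      rw [map_one, one_mul] at h1 ⊢
      exact hinj k hk h1
    · exact Nat.Coprime.of_dvd_left (orderOf_dvd_of_pow_eq_one hzp)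
        ((Nat.Prime.coprime_iff_not_dvd Fact.out).2 (index_coprime (Or.inr rfl) (fun _ => he) hWW))
  have hcop : ¬ p ∣ Nat.card π.ker := by
    intro h
    obtain ⟨y, hy⟩ := exists_prime_orderOf_dvd_card' (G := π.ker) p h
    have : y = 1 := Subtype.ext (key y y.2 (by
      rw [← Subgroup.coe_pow, ← hy, pow_orderOf_eq_one]; rfl))
    exact (Fact.out : p.Prime).ne_one (by rw [← hy, this, orderOf_one])
  exact injective_high ⟨π, hs, hc, Fact.out, hcop⟩ hE Φ (by simp)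

end CfsgLib.MultPSU
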