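import Cfsg.Agent.MultPSU.SmallSplit
import Cfsg.Agent.MultPSU.FrameDiag

/-!
# A complement over the Siegel parabolic, dimension five, `q` a prime

The torus elements of determinant one which move the last vector kill the pairings; the commutators of
the lifts of the radical then form a complement over its centre.
-/

set_option autoImplicit false
set_option linter.unusedSectionVars false
set_option linter.unusedSimpArgs false

namespace CfsgLib.MultPSU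

open Matrix CfsgLib.RepBounds.Unit CfsgLib.SUThreeUnipotent CfsgLib.SUTwoGen CfsgLib.SUPres
open CfsgLib.SLnPres (tv)
open CfsgLib.SpnPres (IsMon)
open scoped commutatorElement

namespace CExt

variable {E G : Type*} [Group E] [Group G] (D : CExt E G)

theorem cm_self (X : G) : D.cm X X = 1 := commutatorElement_self _

theorem cm_of_central {X A B : G} (hA : Commute X A) (hB : Commute X B) : D.cm X ⁅A, B⁆ = 1 := by
  have cA := Subgroup.mem_center_iff.1 (D.cm_central hA)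
  have cB := Subgroup.mem_center_iff.1 (D.cm_central hB)
  have e := D.cm_eq (D.sl X) ⁅D.sl A, D.sl B⁆
  rw [map_commutatorElement, D.π_sl, D.π_sl, D.π_sl] at e
  rw [← e, commutatorElement_eq_one_iff_commute, commute_iff_eq, ← mul_inv_eq_iff_eq_mul]
  have h1 : D.sl X * D.sl A * (D.sl X)⁻¹ = D.cm X A * D.sl A := by simp only [cm, commutatorElement_def]; group
  have h2 : D.sl X * D.sl B * (D.sl X)⁻¹ = D.cm X B * D.sl B := by simp only [cm, commutatorElement_def]; group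
  generalize D.cm X A = K at cA h1
  generalize D.cm X B = L at cB h2
  generalize D.sl X = x at h1 h2 ⊢
  generalize D.sl A = a at h1 ⊢
  generalize D.sl B = b at h2 ⊢
  calc x * ⁅a, b⁆ * x⁻¹ = ⁅x * a * x⁻¹, x * b * x⁻¹⁆ := by simp only [commutatorElement_def]; group
    _ = ⁅K * a, L * b⁆ := by rw [h1, h2]
    _ = ⁅a * K, b * L⁆ := by rw [← cA a, ← cB b]
    _ = ⁅a, b⁆ := SchurTheory.commutatorElement_mul_mem_center (Subgroup.mem_center_iff.2 cA)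
        (Subgroup.mem_center_iff.2 cB)

end CExt

variable {F : Type*} [Field F] [Fintype F] {C : ConjField F} {ι : Type*} [Fintype ι] [DecidableEq ι]
  {Φ : PFrame C (0 + 2) ι} {E : Type*} [Group E]

local notation "SL2" => Matrix.SpecialLinearGroup (Fin (0 + 2)) F

/-- An isometry which is diagonal on the frame and multiplies the last vector by `ξ`. -/
def Tor5 (Φ : PFrame C (0 + 2) ι) (g : suG C ι) (a0 a1 ξ : F) : Prop :=
  (∀ d, app C g (Φ.v d) = sc2 C a0 a1 d • Φ.v d) ∧ app C g Φ.x0 = ξ • Φ.x0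

namespace Tor5

variable {g : suG C ι} {a0 a1 ξ : F} (h : Tor5 Φ g a0 a1 ξ)
include h

theorem app_inl : app C g (Φ.v (.inl 0)) = a0 • Φ.v (.inl 0) ∧ app C g (Φ.v (.inl 1)) = a1 • Φ.v (.inl 1) ∧
    app C g (Φ.v (.inr 1)) = (C.σ a1)⁻¹ • Φ.v (.inr 1) := by
  refine ⟨?_, ?_, ?_⟩ <;> rw [h.1] <;> simp [sc2, sc]

theorem conj_q0 {a γ : F} (hv : QV Φ a γ) :
    g * qEl Φ (.inl 0) a γ * g⁻¹ = qEl Φ (.inl 0) (C.σ a0 * ξ * a) (γ * (a0 * C.σ a0)) :=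
  conj_qEl h.app_inl.1 h.2 hv

theorem conj_q1 {a γ : F} (hv : QV Φ a γ) :
    g * qEl Φ (.inl 1) a γ * g⁻¹ = qEl Φ (.inl 1) (C.σ a1 * ξ * a) (γ * (a1 * C.σ a1)) :=
  conj_qEl h.app_inl.2.1 h.2 hv

theorem conj_p (r : F) :
    g * pEl Φ (.inl 0) (.inl 1) r * g⁻¹ = pEl Φ (.inl 0) (.inl 1) (C.σ a0 * a1 * r) :=
  conj_pEl' h.app_inl.1 h.app_inl.2.1 ix01 r

theorem conj_m (r : F) :
    g * pEl Φ (.inl 0) (.inr 1) r * g⁻¹ = pEl Φ (.inl 0) (.inr 1) (C.σ a0 * (C.σ a1)⁻¹ * r) :=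
  conj_pEl' h.app_inl.1 h.app_inl.2.2 ix01' r

theorem qv0 (he : eps Φ = 1) (hξ : ξ * C.σ ξ = 1) {a γ : F} (hv : QV Φ a γ) :
    QV Φ (C.σ a0 * ξ * a) (γ * (a0 * C.σ a0)) ∧ QV Φ (C.σ a1 * ξ * a) (γ * (a1 * C.σ a1)) :=
  ⟨hv.scale (by rw [hξ, one_mul]), hv.scale (by rw [hξ, one_mul])⟩

theorem norm_WB (hξ : ξ * C.σ ξ = 1) {x : suG C ι} (hx : x ∈ WB Φ) : g * x * g⁻¹ ∈ WB Φ := by
  obtain ⟨b, δ, a, γ, r, hb, ha, rfl⟩ := WB_cases hx
  rw [show ∀ w u v s : suG C ι, w * (u * (v * s)) * w⁻¹ = (w * u * w⁻¹) * ((w * v * w⁻¹) * (w * s * w⁻¹)) from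
    fun w u v s => by group, h.conj_q1 hb, h.conj_q0 ha, h.conj_p]
  exact mul_mem (mem_WB_q1 (hb.scale (by rw [hξ, one_mul])))
    (mul_mem (mem_WB_q0 (ha.scale (by rw [hξ, one_mul]))) (mem_WB_p _))

theorem commute {g' : suG C ι} {b0 b1 η : F} (h' : Tor5 Φ g' b0 b1 η) : Commute g g' := by
  refine Φ.ext_app (fun c => ?_) ?_
  · rw [app_mul, app_mul, h.1, h'.1, app_smul, app_smul, h.1, h'.1, smul_smul, smul_smul, mul_comm]
  · rw [app_mul, app_mul, h.2, h'.2, app_smul, app_smul, h.2, h'.2, smul_smul, smul_smul, mul_comm]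

theorem conj_w : Tor5 Φ (lev Φ (w01 0) * g * (lev Φ (w01 0))⁻¹) a1 a0 ξ := by
  have hw := w01_mon (F := F) (k := 0)
  refine ⟨fun d => ?_, ?_⟩
  · obtain ⟨a, ha, ea⟩ : Mv Φ (lev Φ (w01 0)) (Sum.map (Equiv.swap 0 1) (Equiv.swap 0 1) d) d := by
      rcases d with j | j
      · simpa using mv_lev_inl (Φ := Φ) hw (Equiv.swap 0 1 j)
      · simpa using mv_lev_inr (Φ := Φ) hw (Equiv.swap 0 1 j)
    have ei : app C (lev Φ (w01 0))⁻¹ (Φ.v d) = a⁻¹ • Φ.v (Sum.map (Equiv.swap 0 1) (Equiv.swap 0 1) d) :=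
      app_inv_eq C (by rw [app_smul, ea, smul_smul, inv_mul_cancel₀ ha, one_smul])
    rw [app_mul, app_mul, ei, app_smul, h.1, app_smul, app_smul, ea, smul_smul, smul_smul]
    congr 1
    rcases d with j | j <;> rcases cases01 j with rfl | rfl <;> simp [sc2, sc] <;> field_simp
  · rw [app_mul, app_mul, app_inv_eq C (lev_x0 _), h.2, app_smul, lev_x0]

end Tor5

variable (Φ) in
/-- The data in dimension five. -/
structure FData (E : Type*) [Group E] where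
  D : CExt E (suG C ι)
  he : eps Φ = 1
  gR : suG C ι
  r0 : F
  r1 : F
  ξr : F
  hgR : Tor5 Φ gR r0 r1 ξr
  hξr : ξr * C.σ ξr = 1
  hR0 : C.σ r0 * ξr = 1
  hRN : r0 * C.σ r0 = 1
  hlp : C.σ r0 * r1 ≠ 1
  hlm : C.σ r0 * (C.σ r1)⁻¹ ≠ 1
  hb1 : C.σ r1 * ξr ≠ 1
  hh : suG C ι
  ha : F
  ξh : F
  hhh : Tor5 Φ hh ha ha ξh
  hξh : ξh * C.σ ξh = 1
  hbh : C.σ ha * ξh ≠ 1
  gx : ∀ x : F, x ≠ 0 → ∃ g a0 a1 ξ, Tor5 Φ g a0 a1 ξ ∧ ξ * C.σ ξ = 1 ∧ C.σ a0 * ξ = x ∧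
    C.σ a1 * ξ = (C.σ x)⁻¹ ∧ C.σ a0 * a1 = 1

namespace FData

variable (A : FData Φ E)
include A

theorem gR_q0 {a γ : F} (hv : QV Φ a γ) : Commute A.gR (qEl Φ (.inl 0) a γ) := by
  have := A.hgR.conj_q0 hv
  rw [A.hR0, one_mul, A.hRN, mul_one, mul_inv_eq_iff_eq_mul] at this
  exact this

/-- The torus element fixing the root group at `+1`. -/
noncomputable def gL : suG C ι := lev Φ (w01 0) * A.gR * (lev Φ (w01 0))⁻¹

theorem hgL : Tor5 Φ A.gL A.r1 A.r0 A.ξr := A.hgR.conj_w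

theorem gL_q1 {a γ : F} (hv : QV Φ a γ) : Commute A.gL (qEl Φ (.inl 1) a γ) := by
  have := A.hgL.conj_q1 hv
  rw [A.hR0, one_mul, A.hRN, mul_one, mul_inv_eq_iff_eq_mul] at this
  exact this

theorem m_cen_q0 {a γ : F} (hv : QV Φ a γ) (r : F) :
    pEl Φ (.inl 0) (.inr 1) r ∈ A.D.cen (qEl Φ (.inl 0) a γ) := by
  rw [A.D.mem_cen]
  exact A.D.cm_of_scale (fun s => pEl Φ (.inl 0) (.inr 1) s)
    (fun s s' => pEl_add (ne_of_ix (ix01' (k := 0))).2 s s') (fun s => (commute_PQ ix01' s hv).symm)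
    (A.gR_q0 hv) A.hlm (fun s => A.hgR.conj_m s) r

theorem p_cen_q0 {a γ : F} (hv : QV Φ a γ) (r : F) :
    pEl Φ (.inl 0) (.inl 1) r ∈ A.D.cen (qEl Φ (.inl 0) a γ) := by
  rw [A.D.mem_cen]
  exact A.D.cm_of_scale (fun s => pEl Φ (.inl 0) (.inl 1) s)
    (fun s s' => pEl_add (ne_of_ix (ix01 (k := 0))).2 s s') (fun s => (commute_PQ ix01 s hv).symm)
    (A.gR_q0 hv) A.hlp (fun s => A.hgR.conj_p s) r

theorem p_cen_q1 {a γ : F} (hv : QV Φ a γ) (r : F) :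
    pEl Φ (.inl 0) (.inl 1) r ∈ A.D.cen (qEl Φ (.inl 1) a γ) := by
  rw [A.D.mem_cen]
  refine A.D.cm_of_scale (fun s => pEl Φ (.inl 0) (.inl 1) s)
    (fun s s' => pEl_add (ne_of_ix (ix01 (k := 0))).2 s s') (fun s => (commute_PQ_right ix01 s hv).symm)
    (A.gL_q1 hv) (l := C.σ A.r1 * A.r0) (fun e => A.hlp ?_) (fun s => A.hgL.conj_p s) r
  simpa [C.invol, mul_comm] using congrArg C.σ e

theorem long0_cen_q0 {a γ δ : F} (hv : QV Φ a γ) (hd : QV Φ 0 δ) :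
    qEl Φ (.inl 0) 0 δ ∈ A.D.cen (qEl Φ (.inl 0) a γ) := by
  obtain ⟨θ, hθ⟩ := C.exists_trace_one
  have e : qEl Φ (.inl 0) 0 δ =
      ⁅pEl Φ (.inl 0) (.inr 1) 1, pEl Φ (.inl 0) (.inl 1) (-δ * θ)⁆ := by
    rw [commutator_pEl (k := 0) SUPres.zero_ne_one', map_one, map_mul, map_neg, qv_zero_iff.1 hd]
    congr 1
    linear_combination -δ * hθ
  rw [e]
  exact A.D.commutator_mem_cen (A.m_cen_q0 hv _) (A.p_cen_q0 hv _)

theorem long1_cen_q1 {a γ δ : F} (hv : QV Φ a γ) (hd : QV Φ 0 δ) :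
    qEl Φ (.inl 1) 0 δ ∈ A.D.cen (qEl Φ (.inl 1) a γ) := by
  have h := A.D.cm_conj_one (lev Φ (w01 0)) (A.D.mem_cen.1 (A.long0_cen_q0 (SData.neg_qv hv) hd))
  rw [SData.w_q (SData.neg_qv hv), SData.w_q hd, neg_neg, neg_zero] at h
  exact A.D.mem_cen.2 h

/-- The short element with parameter `a` for a trace one element `θ`. -/
noncomputable def th (_A : FData Φ E) : F := C.exists_trace_one.choose

theorem hth : A.th + C.σ A.th = 1 := C.exists_trace_one.choose_spec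

/-- The second parameter. -/
noncomputable def gm (A : FData Φ E) (a : F) : F := -(A.th * (a * C.σ a))

theorem qv_gm (a : F) : QV Φ a (A.gm a) := by
  unfold QV gm
  rw [A.he, map_neg, map_mul, map_mul, C.invol]
  linear_combination -(a * C.σ a) * A.hth

/-- A short element. -/
noncomputable def ql (c : SI (0 + 2)) (a : F) : suG C ι := qEl Φ c a (A.gm a)

theorem exists_ql {c : SI (0 + 2)} {a γ : F} (h : QV Φ a γ) :
    ∃ δ, QV Φ 0 δ ∧ qEl Φ c a γ = A.ql c a * qEl Φ c 0 δ := by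
  refine ⟨γ - A.gm a, (A.qv_gm a).split h, ?_⟩
  rw [ql, qEl_mul (A.qv_gm a) ((A.qv_gm a).split h)]
  congr 1 <;> ring

theorem commutator_qEl {c : SI (0 + 2)} {a γ a' γ' : F} (h : QV Φ a γ) (h' : QV Φ a' γ') :
    ⁅qEl Φ c a γ, qEl Φ c a' γ'⁆ = qEl Φ c 0 (a * C.σ a' - a' * C.σ a) := by
  have hd : QV Φ 0 (a * C.σ a' - a' * C.σ a) := qv_zero_iff.2 (by simp [C.invol]; ring)
  rw [show ⁅qEl Φ c a γ, qEl Φ c a' γ'⁆ = qEl Φ c a γ * qEl Φ c a' γ' * (qEl Φ c a' γ' * qEl Φ c a γ)⁻¹ by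
    rw [commutatorElement_def]; group, mul_inv_eq_iff_eq_mul, qEl_mul h h', qEl_mul h' h,
    qEl_mul hd (h'.mul h), A.he]
  congr 1
  · ring
  · simp only [map_zero]; ring

theorem long_comm (c : SI (0 + 2)) {γ : F} (hg : QV Φ 0 γ) :
    ⁅A.ql c 1, A.ql c (-A.th * γ)⁆ = qEl Φ c 0 γ := by
  rw [ql, ql, A.commutator_qEl (A.qv_gm _) (A.qv_gm _)]
  congr 1
  rw [map_one, map_mul, map_neg, qv_zero_iff.1 hg]
  linear_combination γ * A.hth

theorem long1_commute {a γ δ : F} (hv : QV Φ a γ) (hd : QV Φ 0 δ) :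
    Commute (qEl Φ (.inl 1) 0 δ) (qEl Φ (.inl 0) a γ) := by
  refine pEl_qEl_comm ?_ ?_ hv <;> rw [app_qEl hd] <;> simp [herm_vv, Φ.xv, SUPres.zero_ne_one']

theorem long1_long0 {γ δ : F} (hg : QV Φ 0 γ) (hd : QV Φ 0 δ) :
    A.D.cm (qEl Φ (.inl 1) 0 δ) (qEl Φ (.inl 0) 0 γ) = 1 := by
  rw [← A.long_comm (.inl 0) hg]
  exact A.D.cm_of_central (A.long1_commute (A.qv_gm _) hd) (A.long1_commute (A.qv_gm _) hd)

theorem long1_cen_q0 {a γ δ : F} (hv : QV Φ a γ) (hd : QV Φ 0 δ) :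
    qEl Φ (.inl 1) 0 δ ∈ A.D.cen (qEl Φ (.inl 0) a γ) := by
  refine A.D.mem_cen_comm.1 (A.D.mem_cen.2 ?_)
  set X := qEl Φ (.inl 1) 0 δ with hX
  have hc : ∀ {b ε}, QV Φ b ε → ∀ g : E, g * A.D.cm X (qEl Φ (.inl 0) b ε) * g⁻¹ = A.D.cm X (qEl Φ (.inl 0) b ε) :=
    fun h g => mul_inv_eq_iff_eq_mul.2 (Subgroup.mem_center_iff.1 (A.D.cm_central (A.long1_commute h hd)) g)
  have hadd : ∀ {b ε b' ε'}, QV Φ b ε → QV Φ b' ε' → A.D.cm X (qEl Φ (.inl 0) b ε * qEl Φ (.inl 0) b' ε') =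
      A.D.cm X (qEl Φ (.inl 0) b ε) * A.D.cm X (qEl Φ (.inl 0) b' ε') := fun h h' => by
    rw [A.D.cm_mul_right, hc h']
  set b := C.σ A.r1 * A.ξr
  have hb : b - 1 ≠ 0 := sub_ne_zero.2 A.hb1
  set a' := a / (b - 1)
  have h' := A.qv_gm a'
  have h1 : QV Φ (b * a') (A.gm a' * (A.r1 * C.σ A.r1)) := h'.scale (by rw [A.hξr, one_mul])
  have ha : b * a' + -a' = a := by simp only [a']; field_simp; ring
  have h2 := h1.mul h'.inv
  rw [ha] at h2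
  obtain ⟨ε, hε, e⟩ : ∃ ε, QV Φ 0 ε ∧ qEl Φ (.inl 0) a γ =
      qEl Φ (.inl 0) (b * a') (A.gm a' * (A.r1 * C.σ A.r1)) * (qEl Φ (.inl 0) a' (A.gm a'))⁻¹ *
        qEl Φ (.inl 0) 0 ε := by
    refine ⟨_, h2.split hv, ?_⟩
    rw [qEl_inv h', qEl_mul h1 h'.inv, ha, qEl_mul h2 (h2.split hv)]
    congr 1 <;> ring
  have inv' : A.D.cm X (qEl Φ (.inl 0) (b * a') (A.gm a' * (A.r1 * C.σ A.r1))) =
      A.D.cm X (qEl Φ (.inl 0) a' (A.gm a')) := by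
    have e := A.D.conj_cm (A.D.sl A.gL) X (qEl Φ (.inl 0) a' (A.gm a'))
    rw [A.D.π_sl, hc h', (A.gL_q1 hd).eq, mul_inv_cancel_right, A.hgL.conj_q0 h'] at e
    exact e.symm
  set Q1 := qEl Φ (.inl 0) (b * a') (A.gm a' * (A.r1 * C.σ A.r1))
  set Q2 := qEl Φ (.inl 0) a' (A.gm a')
  obtain ⟨γ2, h2', e2⟩ : ∃ γ2, QV Φ a γ2 ∧ Q1 * Q2⁻¹ = qEl Φ (.inl 0) a γ2 :=
    ⟨_, h2, by simp only [Q1, Q2]; rw [qEl_inv h', qEl_mul h1 h'.inv, ha]⟩
  rw [e, e2, hadd h2' hε, A.long1_long0 hε hd, mul_one]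
  have i2 := hadd h2' h'
  rw [← e2, inv_mul_cancel_right] at i2
  rw [← e2]
  exact (mul_eq_right.1 (i2.symm.trans inv'))

theorem long0_cen_q1 {a γ δ : F} (hv : QV Φ a γ) (hd : QV Φ 0 δ) :
    qEl Φ (.inl 0) 0 δ ∈ A.D.cen (qEl Φ (.inl 1) a γ) := by
  have h := A.D.cm_conj_one (lev Φ (w01 0)) (A.D.mem_cen.1 (A.long1_cen_q0 (SData.neg_qv hv) hd))
  have e : lev Φ (w01 0) * qEl Φ (.inl 1) 0 δ * (lev Φ (w01 0))⁻¹ = qEl Φ (.inl 0) 0 δ := by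
    rw [conj_qEl' (isMono_lev (w01_mon (F := F) (k := 0))) (lev_mon_inl (w01_mon (F := F) (k := 0)) 1) hd]
    simp
  rw [SData.w_q (SData.neg_qv hv), e, neg_neg] at h
  exact A.D.mem_cen.2 h

theorem p_cen_p (s r : F) : pEl Φ (.inl 0) (.inl 1) r ∈ A.D.cen (pEl Φ (.inl 0) (.inl 1) s) := by
  obtain ⟨δ, hd, hd0⟩ : ∃ δ, QV Φ 0 δ ∧ δ ≠ 0 := by
    obtain ⟨c, hc, hc0⟩ := exists_skew_ne C
    exact ⟨c, qv_zero_iff.2 hc, hc0⟩
  set X := pEl Φ (.inl 0) (.inl 1) s with hX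
  set m := pEl Φ (.inl 0) (.inr 1) (-r / δ) with hm
  have hL1 : qEl Φ (.inl 1) 0 δ ∈ A.D.cen X := A.D.mem_cen_comm.1 (A.p_cen_q1 hd s)
  have hcen : ∀ δ', QV Φ 0 δ' → qEl Φ (.inl 0) 0 δ' ∈ A.D.cen X := fun δ' h =>
    A.D.mem_cen_comm.1 (A.p_cen_q0 h s)
  have ev : ⁅m, qEl Φ (.inl 1) 0 δ⁆ = qEl Φ (.inl 0) 0 (-r / δ * C.σ (-r / δ) * δ) * pEl Φ (.inl 0) (.inl 1) r := by
    rw [hm, commutatorElement_def, conj_pq (k := 0) hd, mul_inv_cancel_right, mul_inv_cancel_right, mul_zero]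
    congr 2
    field_simp
  have hq : QV Φ 0 (-r / δ * C.σ (-r / δ) * δ) := qv_zero_iff.2 (by
    rw [map_mul, map_mul, C.invol, qv_zero_iff.1 hd]; ring)
  -- the commutator with `m` is a long element at `+0`
  have hLimg : A.D.π (A.D.cm X m) = qEl Φ (.inl 0) 0 (-(-r / δ * C.σ s - s * C.σ (-r / δ))) := by
    rw [A.D.π_cm, ← commutatorElement_inv, hm, hX, commutator_pEl (k := 0) SUPres.zero_ne_one',
      qEl_inv (qv_zero_iff.2 (by simp [C.invol]; ring))]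
    congr 1
    · simp
    · simp [C.invol]; ring
  have hqL : QV Φ 0 (-(-r / δ * C.σ s - s * C.σ (-r / δ))) := qv_zero_iff.2 (by simp [C.invol]; ring)
  have hlong : ∀ {Y : suG C ι}, qEl Φ (.inl 0) 0 (-(-r / δ * C.σ s - s * C.σ (-r / δ))) ∈ A.D.cen Y →
      Commute (A.D.cm X m) (A.D.sl Y) := fun h =>
    (A.D.commute_of (A.D.π_sl _) hLimg (A.D.mem_cen.1 h)).symm
  have hc1 : Commute (A.D.cm X m) (A.D.sl (qEl Φ (.inl 1) 0 δ)) := hlong (A.long0_cen_q1 hd hqL)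
  have hc2 : Commute (A.D.cm X m) (A.D.sl m) :=
    hlong (A.D.mem_cen_comm.1 (A.m_cen_q0 hqL _))
  have hmem : ⁅qEl Φ (.inl 1) 0 δ, m⁆ ∈ A.D.cen X := by
    rw [A.D.mem_cen, A.D.cm_commutator (A.D.mem_cen.1 hL1) (by
      rw [commutatorElement_def]
      exact ((hc1.mul_right hc2).mul_right hc1.inv_right).mul_right hc2.inv_right),
      commutatorElement_eq_one_iff_commute]
    exact hc1.symm
  have := inv_mem hmem
  rw [commutatorElement_inv, ev] at this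
  have h2 := mul_mem (inv_mem (hcen _ hq)) this
  rwa [inv_mul_cancel_left] at h2

theorem R0_central {X Y : suG C ι} (hY : Y ∈ R0 Φ) (hX : X ∈ WB Φ) : A.D.cm X Y = 1 := by
  have hgen : ∀ Z : suG C ι, (∀ b δ, QV Φ b δ → qEl Φ (.inl 1) b δ ∈ A.D.cen Z) →
      (∀ a γ, QV Φ a γ → qEl Φ (.inl 0) a γ ∈ A.D.cen Z) →
      (∀ r, pEl Φ (.inl 0) (.inl 1) r ∈ A.D.cen Z) → Z ∈ A.D.cen X := by
    intro Z h1 h0 hp
    refine A.D.mem_cen_comm.1 ?_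
    obtain ⟨b, δ, a, γ, r, hb, ha, rfl⟩ := WB_cases hX
    exact mul_mem (h1 _ _ hb) (mul_mem (h0 _ _ ha) (hp r))
  obtain ⟨δ, γ, r, hd, hg, rfl⟩ := WB_fix_x0 hY.1 hY.2
  rw [← A.D.mem_cen]
  refine mul_mem ?_ (mul_mem ?_ ?_)
  · exact hgen _ (fun _ _ h => A.D.mem_cen_comm.1 (A.long1_cen_q1 h hd))
      (fun _ _ h => A.D.mem_cen_comm.1 (A.long1_cen_q0 h hd)) (fun r => A.p_cen_q1 hd r)
  · exact hgen _ (fun _ _ h => A.D.mem_cen_comm.1 (A.long0_cen_q1 h hg))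
      (fun _ _ h => A.D.mem_cen_comm.1 (A.long0_cen_q0 h hg)) (fun r => A.p_cen_q0 hg r)
  · exact hgen _ (fun _ _ h => A.D.mem_cen_comm.1 (A.p_cen_q1 h r))
      (fun _ _ h => A.D.mem_cen_comm.1 (A.p_cen_q0 h r)) (fun r' => A.p_cen_p r r')

/-- Lifts of `R0` commute with lifts of the radical. -/
theorem comm0 {x y : E} (hx : A.D.π x ∈ R0 Φ) (hy : A.D.π y ∈ WB Φ) : Commute x y :=
  (A.D.commute_of (rfl : A.D.π y = A.D.π y) rfl (A.R0_central hx hy)).symm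

/-- The lift of the scalar torus element. -/
noncomputable def hl' : E := A.D.sl A.hh

theorem cm_R0 {X Y : suG C ι} (hX : X ∈ WB Φ) (hY : Y ∈ WB Φ) : A.D.π (A.D.cm X Y) ∈ R0 Φ := by
  rw [A.D.π_cm]; exact commutator_mem_R0 hX hY

theorem cm_add {X Y Y' : suG C ι} (hX : X ∈ WB Φ) (hY : Y ∈ WB Φ) (hY' : Y' ∈ WB Φ) :
    A.D.cm X (Y * Y') = A.D.cm X Y * A.D.cm X Y' := by
  rw [A.D.cm_mul_right, ← (A.comm0 (A.cm_R0 hX hY') (y := A.D.sl Y) (by rw [A.D.π_sl]; exact hY)).eq,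
    mul_inv_cancel_right]

theorem long_R0_0 {δ : F} (h : QV Φ 0 δ) : qEl Φ (.inl 0) 0 δ ∈ R0 Φ :=
  ⟨mem_WB_q0 h, by rw [app_qEl h]; simp [Φ.xv]⟩

theorem long_R0_1 {δ : F} (h : QV Φ 0 δ) : qEl Φ (.inl 1) 0 δ ∈ R0 Φ :=
  ⟨mem_WB_q1 h, by rw [app_qEl h]; simp [Φ.xv]⟩

theorem mem_ql (i : Fin (0 + 2)) (a : F) : A.ql (.inl i) a ∈ WB Φ := by
  rcases cases01 i with rfl | rfl
  · exact mem_WB_q0 (A.qv_gm a)
  · exact mem_WB_q1 (A.qv_gm a)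

/-- The pairing of two short elements. -/
noncomputable def bb (i j : Fin (0 + 2)) (x y : F) : E := A.D.cm (A.ql (.inl i) x) (A.ql (.inl j) y)

theorem cm_eq_bb {i : Fin (0 + 2)} {X : suG C ι} (hX : X ∈ WB Φ) {b δ : F} (hb : QV Φ b δ) :
    A.D.cm X (qEl Φ (.inl i) b δ) = A.D.cm X (A.ql (.inl i) b) := by
  obtain ⟨ε, hε, e⟩ := A.exists_ql (c := Sum.inl i) hb
  have hR : qEl Φ (.inl i) 0 ε ∈ R0 Φ := by
    rcases cases01 i with rfl | rfl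
    · exact A.long_R0_0 hε
    · exact A.long_R0_1 hε
  rw [e, A.cm_add hX (A.mem_ql i b) hR.1, A.R0_central hR hX, mul_one]

theorem bb_add (i j : Fin (0 + 2)) (x y y' : F) : A.bb i j x (y + y') = A.bb i j x y * A.bb i j x y' := by
  rw [bb, bb, bb, ← A.cm_add (A.mem_ql i x) (A.mem_ql j y) (A.mem_ql j y')]
  have e : A.ql (.inl j) y * A.ql (.inl j) y' = qEl Φ (.inl j) (y + y') _ := qEl_mul (A.qv_gm y) (A.qv_gm y')
  rw [e, A.cm_eq_bb (A.mem_ql i x) ((A.qv_gm y).mul (A.qv_gm y'))]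

theorem bb_swap (i j : Fin (0 + 2)) (x y : F) : (A.bb i j x y)⁻¹ = A.bb j i y x := A.D.cm_swap _ _

theorem bb_zero (i j : Fin (0 + 2)) (x : F) : A.bb i j x 0 = 1 := by
  have := A.bb_add i j x 0 0
  rw [add_zero] at this
  exact left_eq_mul.1 this

theorem bb_comm (i j i' j' : Fin (0 + 2)) (x y x' y' : F) : Commute (A.bb i j x y) (A.bb i' j' x' y') :=
  A.comm0 (A.cm_R0 (A.mem_ql i x) (A.mem_ql j y)) (A.cm_R0 (A.mem_ql i' x') (A.mem_ql j' y')).1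

theorem bb_add_left (i j : Fin (0 + 2)) (x x' y : F) : A.bb i j (x + x') y = A.bb i j x y * A.bb i j x' y := by
  rw [← A.bb_swap j i y (x + x'), A.bb_add, _root_.mul_inv_rev, A.bb_swap, A.bb_swap, (A.bb_comm _ _ _ _ _ _ _ _).eq]

theorem bb_nat (i j : Fin (0 + 2)) (x y : F) (n : ℕ) : A.bb i j x ((n : F) * y) = A.bb i j x y ^ n := by
  induction n with
  | zero => rw [Nat.cast_zero, zero_mul, A.bb_zero, pow_zero]
  | succ n ih => rw [Nat.cast_succ, add_mul, one_mul, A.bb_add, ih, pow_succ]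

theorem bb_nat_left (i j : Fin (0 + 2)) (x y : F) (n : ℕ) : A.bb i j ((n : F) * x) y = A.bb i j x y ^ n := by
  rw [← A.bb_swap j i y, A.bb_nat, ← inv_pow, A.bb_swap]

theorem bb_self (i : Fin (0 + 2)) (x : F) : A.bb i i x x = 1 := A.D.cm_self _

theorem commutator_q01 {a γ b δ : F} (ha : QV Φ a γ) (hb : QV Φ b δ) :
    ⁅qEl Φ (.inl 0) a γ, qEl Φ (.inl 1) b δ⁆ = pEl Φ (.inl 0) (.inl 1) (a * C.σ b) := by
  rw [commutatorElement_def, qq_swap (k := 0) ha hb, mul_inv_cancel_right, mul_inv_cancel_right, A.he, mul_one]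

theorem π_bb01 (x y : F) : A.D.π (A.bb 0 1 x y) = pEl Φ (.inl 0) (.inl 1) (x * C.σ y) := by
  rw [bb, A.D.π_cm, ql, ql, A.commutator_q01 (A.qv_gm x) (A.qv_gm y)]

theorem π_bb_same (i : Fin (0 + 2)) (x y : F) :
    A.D.π (A.bb i i x y) = qEl Φ (.inl i) 0 (x * C.σ y - y * C.σ x) := by
  rw [bb, A.D.π_cm, ql, ql, A.commutator_qEl (A.qv_gm x) (A.qv_gm y)]

theorem bb01_balance (x y : F) : A.bb 0 1 x y = A.bb 0 1 1 (C.σ x * y) := by
  by_cases hx : x = 0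
  · subst hx
    rw [map_zero, zero_mul, A.bb_zero]
    have := A.bb_nat_left 0 1 1 y 0
    rwa [Nat.cast_zero, zero_mul, pow_zero] at this
  obtain ⟨g, a0, a1, ξ, hg, hξ, e0, e1, el⟩ := A.gx x hx
  have hfix : ∀ r, Commute g (pEl Φ (.inl 0) (.inl 1) r) := fun r => by
    have := hg.conj_p r
    rw [el, one_mul, mul_inv_eq_iff_eq_mul] at this
    exact this
  have hgp : ∀ r, A.D.cm g (pEl Φ (.inl 0) (.inl 1) r) = 1 := fun r =>
    A.D.cm_of_scale (fun s => pEl Φ (.inl 0) (.inl 1) s)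
      (fun s s' => pEl_add (ne_of_ix (ix01 (k := 0))).2 s s') hfix (A.hgR.commute hg) A.hlp
      (fun s => A.hgR.conj_p s) r
  have hcom := A.D.commute_of (A.D.π_sl g) (A.π_bb01 1 (C.σ x * y)) (hgp _)
  have h := mul_inv_eq_iff_eq_mul.2 hcom.eq
  have hσx : C.σ x ≠ 0 := (map_ne_zero C.σ).2 hx
  have v0 : QV Φ x (A.gm 1 * (a0 * C.σ a0)) := by
    have := (A.qv_gm 1).scale (s := a0) (ξ := ξ) (by rw [hξ, one_mul])
    rwa [e0, mul_one] at this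
  have v1 : QV Φ y (A.gm (C.σ x * y) * (a1 * C.σ a1)) := by
    have := (A.qv_gm (C.σ x * y)).scale (s := a1) (ξ := ξ) (by rw [hξ, one_mul])
    rwa [e1, inv_mul_cancel_left₀ hσx] at this
  rw [bb, A.D.conj_cm, A.D.π_sl, ql, ql, hg.conj_q0 (A.qv_gm _), hg.conj_q1 (A.qv_gm _), e0, e1, mul_one,
    inv_mul_cancel_left₀ hσx, A.cm_eq_bb (mem_WB_q0 v0) v1, ← A.D.cm_swap, A.cm_eq_bb (A.mem_ql 1 y) v0,
    A.D.cm_swap] at h
  exact h

variable {p : ℕ} [Fact p.Prime] [CharP F p] (hqp : C.q = p)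
include hqp

theorem exists_span {w : F} (hw : C.σ w ≠ w) (x : F) : ∃ i j : ℕ, x = (i : F) + (j : F) * w := by
  haveI : NeZero p := ⟨(Fact.out : p.Prime).ne_zero⟩
  let f : ZMod p × ZMod p → F := fun z => ((z.1.val : ℕ) : F) + ((z.2.val : ℕ) : F) * w
  have hinj : Function.Injective f := by
    rintro ⟨i, j⟩ ⟨i', j'⟩ e
    simp only [f] at e
    have hj : ((j.val : ℕ) : F) = ((j'.val : ℕ) : F) := by
      by_contra hne
      apply hw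
      have hd : ((j.val : ℕ) : F) - j'.val ≠ 0 := sub_ne_zero.2 hne
      have ew : w = (((i'.val : ℕ) : F) - i.val) / (((j.val : ℕ) : F) - j'.val) := by
        rw [eq_div_iff hd]; linear_combination e
      rw [ew, map_div₀, map_sub, map_sub, map_natCast, map_natCast, map_natCast, map_natCast]
    rw [hj, add_left_inj] at e
    exact Prod.ext (ZMod.val_injective p (CharP.natCast_injOn_Iio F p (ZMod.val_lt i) (ZMod.val_lt i') e))
      (ZMod.val_injective p (CharP.natCast_injOn_Iio F p (ZMod.val_lt j) (ZMod.val_lt j') hj))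
  have hb : Function.Bijective f := by
    refine (Fintype.bijective_iff_injective_and_card f).2 ⟨hinj, ?_⟩
    rw [Fintype.card_prod, ZMod.card, C.card, hqp, sq]
  obtain ⟨⟨i, j⟩, e⟩ := hb.2 x
  exact ⟨i.val, j.val, e.symm⟩

omit hqp in
/-- A scalar outside the fixed field. -/
noncomputable def om (_A : FData Φ E) : F := (exists_scalar C).choose

omit hqp in
theorem hom' : C.σ A.om ≠ A.om := (exists_scalar C).choose_spec.1

omit hqp in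
/-- The long generator. -/
noncomputable def LL (i : Fin (0 + 2)) : E := A.bb i i 1 A.om

omit hqp in
theorem bb_same_mem {i : Fin (0 + 2)} {H : Subgroup E} (h : A.LL i ∈ H) (a b c d : ℕ) :
    A.bb i i ((a : F) + (b : F) * A.om) ((c : F) + (d : F) * A.om) ∈ H := by
  have h1 : A.bb i i 1 1 = 1 := A.bb_self i 1
  have h2 : A.bb i i A.om A.om = 1 := A.bb_self i A.om
  have h3 : A.bb i i A.om 1 = (A.LL i)⁻¹ := (A.bb_swap i i 1 A.om).symm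
  have key : ∀ y, A.bb i i 1 y ∈ H → A.bb i i A.om y ∈ H → A.bb i i ((a : F) + (b : F) * A.om) y ∈ H := by
    intro y u v
    rw [A.bb_add_left, A.bb_nat_left i i A.om y b, show (a : F) = (a : F) * 1 by rw [mul_one],
      A.bb_nat_left i i 1 y a]
    exact mul_mem (pow_mem u _) (pow_mem v _)
  have key2 : ∀ x, A.bb i i x 1 ∈ H → A.bb i i x A.om ∈ H → A.bb i i x ((c : F) + (d : F) * A.om) ∈ H := by
    intro x u v
    rw [A.bb_add, A.bb_nat i i x A.om d, show (c : F) = (c : F) * 1 by rw [mul_one], A.bb_nat i i x 1 c]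
    exact mul_mem (pow_mem u _) (pow_mem v _)
  refine key _ (key2 _ ?_ h) (key2 _ ?_ ?_)
  · rw [h1]; exact one_mem _
  · rw [h3]; exact inv_mem h
  · rw [h2]; exact one_mem _

omit hqp in
/-- The commutators of lifts of the radical. -/
def K0 : Subgroup E where
  carrier := {k | ∃ z : F, ∃ i j : ℤ, k = A.bb 0 1 1 z * A.LL 0 ^ i * A.LL 1 ^ j}
  one_mem' := ⟨0, 0, 0, by rw [A.bb_zero]; simp⟩
  mul_mem' := by
    rintro _ _ ⟨z, i, j, rfl⟩ ⟨z', i', j', rfl⟩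
    refine ⟨z + z', i + i', j + j', ?_⟩
    rw [A.bb_add, _root_.zpow_add, _root_.zpow_add]
    have c1 : Commute (A.LL 0 ^ i * A.LL 1 ^ j) (A.bb 0 1 1 z') :=
      ((A.bb_comm 0 0 0 1 1 A.om 1 z').zpow_left i).mul_left ((A.bb_comm 1 1 0 1 1 A.om 1 z').zpow_left j)
    have c2 : Commute (A.LL 1 ^ j) (A.LL 0 ^ i') := ((A.bb_comm 1 1 0 0 1 A.om 1 A.om).zpow_left j).zpow_right i'
    calc A.bb 0 1 1 z * A.LL 0 ^ i * A.LL 1 ^ j * (A.bb 0 1 1 z' * A.LL 0 ^ i' * A.LL 1 ^ j')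
        = A.bb 0 1 1 z * ((A.LL 0 ^ i * A.LL 1 ^ j) * A.bb 0 1 1 z') * (A.LL 0 ^ i' * A.LL 1 ^ j') := by group
      _ = A.bb 0 1 1 z * A.bb 0 1 1 z' * A.LL 0 ^ i * (A.LL 1 ^ j * A.LL 0 ^ i') * A.LL 1 ^ j' := by
          rw [c1.eq]; group
      _ = _ := by rw [c2.eq]; group
  inv_mem' := by
    rintro _ ⟨z, i, j, rfl⟩
    refine ⟨-z, -i, -j, ?_⟩
    have hneg : A.bb 0 1 1 (-z) = (A.bb 0 1 1 z)⁻¹ :=
      eq_inv_of_mul_eq_one_left (by rw [← A.bb_add, neg_add_cancel, A.bb_zero])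
    have c1 : Commute (A.LL 0 ^ i * A.LL 1 ^ j) (A.bb 0 1 1 z) :=
      ((A.bb_comm 0 0 0 1 1 A.om 1 z).zpow_left i).mul_left ((A.bb_comm 1 1 0 1 1 A.om 1 z).zpow_left j)
    have c2 : Commute (A.LL 1 ^ j) (A.LL 0 ^ i) := ((A.bb_comm 1 1 0 0 1 A.om 1 A.om).zpow_left j).zpow_right i
    rw [hneg, mul_assoc (A.bb 0 1 1 z), ← c1.eq, ← c2.eq, _root_.zpow_neg, _root_.zpow_neg]
    group

omit hqp in
theorem bb01_mem (x y : F) : A.bb 0 1 x y ∈ A.K0 :=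
  ⟨C.σ x * y, 0, 0, by rw [A.bb01_balance]; simp⟩

omit hqp in
theorem LL_mem (i : Fin (0 + 2)) : A.LL i ∈ A.K0 := by
  rcases cases01 i with rfl | rfl
  · exact ⟨0, 1, 0, by rw [A.bb_zero]; simp⟩
  · exact ⟨0, 0, 1, by rw [A.bb_zero]; simp⟩

theorem bb_mem (i j : Fin (0 + 2)) (x y : F) : A.bb i j x y ∈ A.K0 := by
  have hs : ∀ i, A.bb i i x y ∈ A.K0 := fun i => by
    obtain ⟨a, b, rfl⟩ := A.exists_span hqp A.hom' x
    obtain ⟨c, d, rfl⟩ := A.exists_span hqp A.hom' y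
    exact A.bb_same_mem (A.LL_mem i) a b c d
  rcases cases01 i with rfl | rfl <;> rcases cases01 j with rfl | rfl
  · exact hs 0
  · exact A.bb01_mem x y
  · rw [← A.bb_swap]; exact inv_mem (A.bb01_mem y x)
  · exact hs 1

omit hqp in
theorem K0_img {k : E} (hk : k ∈ A.K0) : A.D.π k ∈ R0 Φ := by
  obtain ⟨z, i, j, rfl⟩ := hk
  rw [map_mul, map_mul, map_zpow, map_zpow]
  exact mul_mem (mul_mem (A.cm_R0 (A.mem_ql 0 1) (A.mem_ql 1 z)) (zpow_mem (A.cm_R0 (A.mem_ql 0 1) (A.mem_ql 0 _)) i))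
    (zpow_mem (A.cm_R0 (A.mem_ql 1 1) (A.mem_ql 1 _)) j)

omit hqp in
theorem delta_ne : (1 : F) * C.σ A.om - A.om * C.σ 1 ≠ 0 := by
  rw [map_one, one_mul, mul_one]
  exact sub_ne_zero.2 A.hom'

theorem LL_zpow (i : Fin (0 + 2)) (n : ℤ) : ∃ m : ℕ, A.LL i ^ n = A.LL i ^ m := by
  have hp : A.LL i ^ p = 1 := by rw [LL, ← A.bb_nat, CharP.cast_eq_zero, zero_mul, A.bb_zero]
  refine ⟨(n % (p : ℤ)).toNat, ?_⟩
  have hnn : (0 : ℤ) ≤ n % (p : ℤ) := Int.emod_nonneg _ (by exact_mod_cast (Fact.out : p.Prime).ne_zero)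
  rw [← zpow_natCast (A.LL i) (n % (p : ℤ)).toNat, Int.toNat_of_nonneg hnn]
  conv_lhs => rw [← Int.emod_add_mul_ediv n p, _root_.zpow_add, _root_.zpow_mul, zpow_natCast, hp, _root_.one_zpow, mul_one]

theorem K0_inj {k : E} (hk : k ∈ A.K0) (h : A.D.π k = 1) : k = 1 := by
  obtain ⟨z, i, j, rfl⟩ := hk
  obtain ⟨m, em⟩ := A.LL_zpow hqp 0 i
  obtain ⟨n, en⟩ := A.LL_zpow hqp 1 j
  rw [em, en] at h ⊢
  set δ := (1 : F) * C.σ A.om - A.om * C.σ 1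
  have hδ : QV Φ 0 δ := qv_zero_iff.2 (by simp [δ, C.invol])
  have hm := (qEl_long_pow (c := Sum.inl (0 : Fin (0 + 2))) hδ m)
  have hn := (qEl_long_pow (c := Sum.inl (1 : Fin (0 + 2))) hδ n)
  rw [map_mul, map_mul, map_pow, map_pow, LL, LL, A.π_bb01, A.π_bb_same, A.π_bb_same, hm.2, hn.2, one_mul] at h
  have hc : ∀ s : suG C ι, s ∈ WB Φ → Commute (qEl Φ (.inl 1) 0 ((n : F) * δ)) s := fun s hs => by
    have h1 := A.comm0 (x := A.D.sl (qEl Φ (.inl 1) 0 ((n : F) * δ))) (y := A.D.sl s)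
      (by rw [A.D.π_sl]; exact A.long_R0_1 hn.1) (by rw [A.D.π_sl]; exact hs)
    have := h1.map A.D.π
    rwa [A.D.π_sl, A.D.π_sl] at this
  have h' : qEl Φ (.inl 1) 0 ((n : F) * δ) * (qEl Φ (.inl 0) 0 ((m : F) * δ) * pEl Φ (.inl 0) (.inl 1) (C.σ z)) =
      qEl Φ (.inl 1) 0 0 * (qEl Φ (.inl 0) 0 0 * pEl Φ (.inl 0) (.inl 1) 0) := by
    rw [qEl_zero, qEl_zero, pEl_zero (ne_of_ix (ix01 (k := 0))).2, one_mul, one_mul,
      (hc _ (mul_mem (mem_WB_q0 hm.1) (mem_WB_p _))).eq]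
    rw [← (commute_PQ (Φ := Φ) ix01 (C.σ z) hm.1).eq]
    exact h
  obtain ⟨e1, e2, e3⟩ := long_inj hn.1 hm.1 QV.zero QV.zero h'
  have hz : z = 0 := (map_eq_zero C.σ).1 e3
  have key : ∀ (i : Fin (0 + 2)) (n : ℕ), (n : F) * δ = 0 → A.LL i ^ n = 1 := fun i n e => by
    rw [LL, ← A.bb_nat, (mul_eq_zero.1 e).resolve_right A.delta_ne, zero_mul, A.bb_zero]
  rw [hz, A.bb_zero, key 0 m e2, key 1 n e1, mul_one, mul_one]

theorem K0_onto {y : suG C ι} (hy : y ∈ R0 Φ) : ∃ k ∈ A.K0, A.D.π k = y := by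
  obtain ⟨δ, γ, r, hd, hg, rfl⟩ := WB_fix_x0 hy.1 hy.2
  set d := (1 : F) * C.σ A.om - A.om * C.σ 1
  have hd0 : QV Φ 0 d := qv_zero_iff.2 (by simp [d, C.invol])
  have key : ∀ (i : Fin (0 + 2)) {γ : F}, QV Φ 0 γ → qEl Φ (.inl i) 0 γ ∈ A.K0.map A.D.π := by
    intro i γ hγ
    obtain ⟨a, b, e⟩ := A.exists_span hqp A.hom' (γ / d)
    have hfix : C.σ (γ / d) = γ / d := by rw [map_div₀, qv_zero_iff.1 hγ, qv_zero_iff.1 hd0, neg_div_neg_eq]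
    rw [e, map_add, map_mul, map_natCast, map_natCast, add_right_inj] at hfix
    have hb : (b : F) = 0 := by
      by_contra hb
      exact A.hom' (mul_left_cancel₀ hb hfix)
    rw [hb, zero_mul, add_zero, div_eq_iff A.delta_ne] at e
    refine ⟨A.LL i ^ a, pow_mem (A.LL_mem i) a, ?_⟩
    rw [map_pow, LL, A.π_bb_same, (qEl_long_pow hd0 a).2, e]
  refine mul_mem (key 1 hd) (mul_mem (key 0 hg) ⟨_, A.bb01_mem r 1, ?_⟩)
  rw [A.π_bb01, map_one, mul_one]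

theorem pair_all {X Y : suG C ι} (hX : X ∈ WB Φ) (hY : Y ∈ WB Φ) : A.D.cm X Y ∈ A.K0 := by
  have step : ∀ {U : suG C ι}, U ∈ WB Φ → (∀ i b, A.D.cm U (A.ql (.inl i) b) ∈ A.K0) → ∀ {V}, V ∈ WB Φ →
      A.D.cm U V ∈ A.K0 := by
    intro U hU h V hV
    obtain ⟨b, δ, a, γ, r, hb, ha, rfl⟩ := WB_cases hV
    rw [A.cm_add hU (mem_WB_q1 hb) (mul_mem (mem_WB_q0 ha) (mem_WB_p r)), A.cm_add hU (mem_WB_q0 ha) (mem_WB_p r),
      A.cm_eq_bb hU hb, A.cm_eq_bb hU ha, A.R0_central ⟨mem_WB_p r, pEl_x0 ix01 r⟩ hU, mul_one]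
    exact mul_mem (h 1 b) (h 0 a)
  refine step hX (fun i b => ?_) hY
  rw [← A.D.cm_swap]
  exact inv_mem (step (A.mem_ql i b) (fun j a => A.bb_mem hqp i j b a) hX)

/-- Elements normalising the radical normalise the complement. -/
theorem norm_K0 {g : E} (hn : ∀ x ∈ WB Φ, A.D.π g * x * (A.D.π g)⁻¹ ∈ WB Φ) {k : E} (hk : k ∈ A.K0) :
    g * k * g⁻¹ ∈ A.K0 := by
  have hb : ∀ i j x y, g * A.bb i j x y * g⁻¹ ∈ A.K0 := fun i j x y => by
    rw [bb, A.D.conj_cm]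
    exact A.pair_all hqp (hn _ (A.mem_ql i x)) (hn _ (A.mem_ql j y))
  obtain ⟨z, i, j, rfl⟩ := hk
  rw [show g * (A.bb 0 1 1 z * A.LL 0 ^ i * A.LL 1 ^ j) * g⁻¹ =
    g * A.bb 0 1 1 z * g⁻¹ * (g * A.LL 0 ^ i * g⁻¹) * (g * A.LL 1 ^ j * g⁻¹) by group, ← conj_zpow, ← conj_zpow]
  exact mul_mem (mul_mem (hb 0 1 1 z) (zpow_mem (hb 0 0 1 A.om) i)) (zpow_mem (hb 1 1 1 A.om) j)

theorem decompose0 {x : E} (hx : A.D.π x ∈ R0 Φ) : ∃ k ∈ A.K0, ∃ z ∈ Subgroup.center E, x = k * z := by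
  obtain ⟨k, hk, e⟩ := A.K0_onto hqp hx
  exact ⟨k, hk, k⁻¹ * x, A.D.center_of_eq e.symm, (mul_inv_cancel_left k x).symm⟩

theorem comm_mem_K0 {g L : E} (hn : ∀ x ∈ WB Φ, A.D.π g * x * (A.D.π g)⁻¹ ∈ WB Φ) (hL : A.D.π L ∈ R0 Φ) :
    ⁅g, L⁆ ∈ A.K0 := by
  obtain ⟨k, hk, z, hz, rfl⟩ := A.decompose0 hqp hL
  have hzg : Commute g z := Subgroup.mem_center_iff.1 hz g
  rw [show ⁅g, k * z⁆ = g * k * (z * g⁻¹) * z⁻¹ * k⁻¹ by simp only [commutatorElement_def]; group,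
    ← hzg.inv_left.eq, show g * k * (g⁻¹ * z) * z⁻¹ * k⁻¹ = g * k * g⁻¹ * k⁻¹ by group]
  exact mul_mem (A.norm_K0 hqp hn hk) (inv_mem hk)

omit hqp in
theorem comm_h_WB {x : E} (hx : A.D.π x ∈ WB Φ) : A.D.π ⁅A.hl', x⁆ ∈ WB Φ := by
  rw [map_commutatorElement, hl', A.D.π_sl, commutatorElement_def]
  exact mul_mem (A.hhh.norm_WB A.hξh hx) (inv_mem hx)

theorem comm_h_mul {x y : E} (hx : A.D.π x ∈ WB Φ) (hy : A.D.π y ∈ WB Φ) :
    ∃ k ∈ A.K0, ⁅A.hl', x * y⁆ = ⁅A.hl', x⁆ * ⁅A.hl', y⁆ * k := by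
  have h2 := A.comm_h_WB hy
  refine ⟨⁅x, ⁅A.hl', y⁆⁆, by rw [A.D.cm_eq]; exact A.pair_all hqp hx h2, ?_⟩
  have hk : A.D.π ⁅x, ⁅A.hl', y⁆⁆ ∈ R0 Φ := by rw [map_commutatorElement]; exact commutator_mem_R0 hx h2
  rw [show ⁅A.hl', x * y⁆ = ⁅A.hl', x⁆ * (⁅x, ⁅A.hl', y⁆⁆ * ⁅A.hl', y⁆) by
    simp only [commutatorElement_def]; group, (A.comm0 hk h2).eq, mul_assoc]

omit hqp in
theorem lev_comm_hh (M : SL2) : Commute (lev Φ M) A.hh := by
  have h : lev Φ M ∈ Subgroup.centralizer {A.hh} := by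
    refine lev_induction (fun r => ?_) ?_ M
    · rw [Subgroup.mem_centralizer_singleton_iff, lev_tv01]
      have e := A.hhh.conj_m (-C.σ r)
      have hσ : C.σ A.ha ≠ 0 := fun e0 => by
        have := A.hhh.app_inl.1
        rw [(map_eq_zero C.σ).1 e0, zero_smul] at this
        exact Φ.ne_zero _ (app_eq_zero this)
      rw [mul_inv_cancel₀ hσ, one_mul, mul_inv_eq_iff_eq_mul] at e
      exact e.symm
    · rw [Subgroup.mem_centralizer_singleton_iff]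
      refine Φ.ext_app (fun c => ?_) (by rw [app_mul, app_mul, A.hhh.2, lev_x0, app_smul, lev_x0, A.hhh.2])
      have hw := w01_mon (F := F) (k := 0)
      rw [app_mul, app_mul, A.hhh.1, app_smul]
      rcases c with j | j
      · rw [lev_mon_inl hw, app_smul, A.hhh.1, smul_smul, smul_smul, mul_comm]
        congr 1
        simp [sc2, sc]
      · rw [lev_mon_inr hw, app_smul, A.hhh.1, smul_smul, smul_smul, mul_comm]
        congr 1
        simp [sc2, sc]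
  exact Subgroup.mem_centralizer_singleton_iff.1 h

variable (ρ : Matrix.SpecialLinearGroup (Fin (0 + 2)) F →* E) (hρ : ∀ M, A.D.π (ρ M) = lev Φ M)

include ρ hρ in
/-- The complement over the radical. -/
theorem exists_complement : ∃ K : Subgroup E, (∀ x ∈ K, A.D.π x ∈ WB Φ) ∧ (∀ x ∈ K, A.D.π x = 1 → x = 1) ∧
    (WB Φ ≤ K.map A.D.π) ∧ ∀ M, ∀ x ∈ K, ρ M * x * (ρ M)⁻¹ ∈ K := by
  have hcl : ∀ {x y : E}, (∃ u, A.D.π u ∈ WB Φ ∧ ⁅A.hl', u⁆⁻¹ * x ∈ A.K0) →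
      (∃ u, A.D.π u ∈ WB Φ ∧ ⁅A.hl', u⁆⁻¹ * y ∈ A.K0) → ∃ u, A.D.π u ∈ WB Φ ∧ ⁅A.hl', u⁆⁻¹ * (x * y) ∈ A.K0 := by
    rintro x y ⟨u, hu, hx⟩ ⟨v, hv, hy⟩
    refine ⟨u * v, by rw [map_mul]; exact mul_mem hu hv, ?_⟩
    obtain ⟨k, hk, e⟩ := A.comm_h_mul hqp hu hv
    have hyW : A.D.π y ∈ WB Φ := by
      have := mul_mem (A.comm_h_WB hv) (A.K0_img hy).1
      rwa [← map_mul, mul_inv_cancel_left] at this
    rw [e, show (⁅A.hl', u⁆ * ⁅A.hl', v⁆ * k)⁻¹ * (x * y) =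
      k⁻¹ * (⁅A.hl', v⁆⁻¹ * ((⁅A.hl', u⁆⁻¹ * x) * y)) by group, (A.comm0 (A.K0_img hx) hyW).eq,
      ← mul_assoc ⁅A.hl', v⁆⁻¹]
    exact mul_mem (inv_mem hk) (mul_mem hy hx)
  let K : Subgroup E :=
    { carrier := {x | ∃ u, A.D.π u ∈ WB Φ ∧ ⁅A.hl', u⁆⁻¹ * x ∈ A.K0}
      one_mem' := ⟨1, by rw [map_one]; exact one_mem _, by simp⟩
      mul_mem' := hcl
      inv_mem' := by
        rintro x ⟨u, hu, hx⟩
        refine ⟨u⁻¹, by rw [map_inv]; exact inv_mem hu, ?_⟩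
        obtain ⟨k, hk, e⟩ := A.comm_h_mul hqp hu (y := u⁻¹) (by rw [map_inv]; exact inv_mem hu)
        rw [mul_inv_cancel, commutatorElement_one_right] at e
        have hxW : A.D.π x ∈ WB Φ := by
          have := mul_mem (A.comm_h_WB hu) (A.K0_img hx).1
          rwa [← map_mul, mul_inv_cancel_left] at this
        have hcx := A.comm0 (A.K0_img hx) (y := x⁻¹) (by rw [map_inv]; exact inv_mem hxW)
        rw [show ⁅A.hl', u⁻¹⁆⁻¹ = k * ⁅A.hl', u⁆ by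
          rw [← mul_right_inj (⁅A.hl', u⁻¹⁆), mul_inv_cancel]
          have e' : ⁅A.hl', u⁻¹⁆ * k = ⁅A.hl', u⁆⁻¹ := by
            rw [eq_inv_iff_mul_eq_one]
            have := congrArg (fun z => ⁅A.hl', u⁆⁻¹ * z * ⁅A.hl', u⁆) e
            simpa [mul_assoc] using this.symm
          rw [← mul_assoc, e', inv_mul_cancel]]
        have e3 : ⁅A.hl', u⁆ * x⁻¹ = (⁅A.hl', u⁆⁻¹ * x)⁻¹ := by
          rw [eq_inv_iff_mul_eq_one, mul_assoc _ x⁻¹, ← hcx.eq, mul_inv_cancel_right, mul_inv_cancel]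
        rw [mul_assoc, e3]
        exact mul_mem hk (inv_mem hx) }
  refine ⟨K, ?_, ?_, ?_, ?_⟩
  · rintro x ⟨u, hu, hx⟩
    have := mul_mem (A.comm_h_WB hu) (A.K0_img hx).1
    rwa [← map_mul, mul_inv_cancel_left] at this
  · rintro x ⟨u, hu, hx⟩ h1
    have hR : A.D.π ⁅A.hl', u⁆ ∈ R0 Φ := by
      have := inv_mem (A.K0_img hx)
      rwa [map_mul, h1, mul_one, map_inv, inv_inv] at this
    have hu0 : A.D.π u ∈ R0 Φ := by
      refine ⟨hu, ?_⟩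
      obtain ⟨a, b, e⟩ := WB_x0 hu
      have h := hR.2
      rw [map_commutatorElement, hl', A.D.π_sl, commutatorElement_def, app_mul, app_mul, app_mul] at h
      obtain ⟨u0, u1⟩ := WB_fix hu
      have ei : app C (A.D.π u)⁻¹ Φ.x0 = Φ.x0 - a • Φ.v (.inl 0) - b • Φ.v (.inl 1) := app_inv_eq C (by
        rw [sub_eq_add_neg, sub_eq_add_neg, ← neg_smul, ← neg_smul, app_add, app_add, app_smul, app_smul, e, u0, u1]
        module)
      have hξ0 : A.ξh ≠ 0 := left_ne_zero_of_mul_eq_one A.hξh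
      have hi0 : app C A.hh⁻¹ Φ.x0 = A.ξh⁻¹ • Φ.x0 := app_inv_eq C (by
        rw [app_smul, A.hhh.2, smul_smul, inv_mul_cancel₀ hξ0, one_smul])
      have hha0 : A.ha ≠ 0 := fun e0 => Φ.ne_zero _ (app_eq_zero (g := A.hh) (x := Φ.v (.inl 0)) (by
        rw [A.hhh.app_inl.1, e0, zero_smul]))
      have it0 : app C A.hh⁻¹ (Φ.v (.inl 0)) = A.ha⁻¹ • Φ.v (.inl 0) := app_inv_eq C (by
        rw [app_smul, A.hhh.app_inl.1, smul_smul, inv_mul_cancel₀ hha0, one_smul])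
      have it1 : app C A.hh⁻¹ (Φ.v (.inl 1)) = A.ha⁻¹ • Φ.v (.inl 1) := app_inv_eq C (by
        rw [app_smul, A.hhh.app_inl.2.1, smul_smul, inv_mul_cancel₀ hha0, one_smul])
      simp only [ei, sub_eq_add_neg, ← neg_smul, app_add, app_smul, hi0, it0, it1, e, u0, u1, A.hhh.2,
        A.hhh.app_inl.1, A.hhh.app_inl.2.1, smul_smul, smul_add] at h
      have e0 := congrArg (fun z => herm C z (Φ.v (.inr 0))) h
      have e1 := congrArg (fun z => herm C z (Φ.v (.inr 1))) h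
      have hneg : ∀ x y : ι → F, herm C (-x) y = -herm C x y := fun x y => by
        rw [← neg_one_smul F x, herm_smul_left, neg_one_mul]
      simp [herm_add_left, hneg, herm_smul_left, herm_vv, Φ.xv, SUPres.zero_ne_one', mul_assoc, hha0, hξ0] at e0 e1
      have hne : A.ha * A.ξh⁻¹ - 1 ≠ 0 := sub_ne_zero.2 fun e2 => A.hbh (by
        have := congrArg C.σ e2
        rwa [map_mul, map_inv₀, map_one, inv_eq_of_mul_eq_one_left A.hξh] at this)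
      have a0 : a = 0 := (mul_eq_zero.1 (show a * (A.ha * A.ξh⁻¹ - 1) = 0 by linear_combination e0)).resolve_right hne
      have b0 : b = 0 := (mul_eq_zero.1 (show b * (A.ha * A.ξh⁻¹ - 1) = 0 by linear_combination e1)).resolve_right hne
      rw [e, a0, b0]; simp
    have hhu : ⁅A.hl', u⁆ ∈ A.K0 := A.comm_mem_K0 hqp (fun y hy => by
      rw [hl', A.D.π_sl]; exact A.hhh.norm_WB A.hξh hy) hu0
    have := mul_mem hhu hx
    rw [mul_inv_cancel_left] at this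
    exact A.K0_inj hqp this h1
  · intro y hy
    set t := C.σ A.ha * A.ξh
    have hne : t - 1 ≠ 0 := sub_ne_zero.2 A.hbh
    have hR0 : R0 Φ ≤ K.map A.D.π := fun v hv => by
      obtain ⟨k, hk, e⟩ := A.K0_onto hqp hv
      exact ⟨k, ⟨1, by rw [map_one]; exact one_mem _, by simpa using hk⟩, e⟩
    have hq : ∀ (c : SI (0 + 2)), app C A.hh (Φ.v c) = A.ha • Φ.v c →
        (∀ {a γ}, QV Φ a γ → qEl Φ c a γ ∈ WB Φ) → ∀ {a γ}, QV Φ a γ → qEl Φ c a γ ∈ K.map A.D.π := by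
      intro c hs hmem a γ h
      have h' := A.qv_gm (a / (t - 1))
      set γ' := A.gm (a / (t - 1))
      set u := A.D.sl (qEl Φ c (a / (t - 1)) γ')
      have hu : A.D.π u ∈ WB Φ := by rw [A.D.π_sl]; exact hmem h'
      have h1 : A.D.π ⁅A.hl', u⁆ ∈ K.map A.D.π :=
        ⟨⁅A.hl', u⁆, ⟨u, hu, by rw [inv_mul_cancel]; exact one_mem _⟩, rfl⟩
      have hsc : QV Φ (t * (a / (t - 1))) (γ' * (A.ha * C.σ A.ha)) := h'.scale (by rw [A.hξh, one_mul])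
      rw [map_commutatorElement, hl', A.D.π_sl, A.D.π_sl, commutatorElement_def, conj_qEl hs A.hhh.2 h',
        qEl_inv h', qEl_mul hsc h'.inv] at h1
      have hv2 := hsc.mul h'.inv
      have hz : t * (a / (t - 1)) + -(a / (t - 1)) = a := by field_simp; ring
      rw [hz] at h1 hv2
      have hd : QV Φ 0 (γ - (_ : F)) := hv2.split h
      have h2 : qEl Φ c 0 _ ∈ K.map A.D.π := hR0 ⟨hmem hd, by rw [app_qEl hd]; simp [Φ.xv]⟩
      have h3 := mul_mem h1 h2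
      rw [qEl_mul hv2 hd] at h3
      convert h3 using 2
      · ring
      · ring
    obtain ⟨b, δ, a, γ, r, hb, ha, rfl⟩ := WB_cases hy
    exact mul_mem (hq _ A.hhh.app_inl.2.1 mem_WB_q1 hb)
      (mul_mem (hq _ A.hhh.app_inl.1 mem_WB_q0 ha) (hR0 ⟨mem_WB_p _, pEl_x0 ix01 _⟩))
  · rintro M x ⟨u, hu, hx⟩
    refine ⟨ρ M * u * (ρ M)⁻¹, ?_, ?_⟩
    · rw [map_mul, map_mul, map_inv, hρ]
      exact (Subgroup.mem_normalizer_iff.1 (lev_norm_WB M) _).1 hu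
    · have e : ⁅A.hl', ρ M * u * (ρ M)⁻¹⁆ = ρ M * ⁅A.hl', u⁆ * (ρ M)⁻¹ := by
        rw [show ρ M * ⁅A.hl', u⁆ * (ρ M)⁻¹ = ⁅ρ M * A.hl' * (ρ M)⁻¹, ρ M * u * (ρ M)⁻¹⁆ by
          simp only [commutatorElement_def]; group, A.D.cm_eq, A.D.cm_eq (ρ M * A.hl' * (ρ M)⁻¹)]
        congr 1
        rw [map_mul, map_mul, map_inv, hρ, hl', A.D.π_sl, (A.lev_comm_hh M).eq, mul_inv_cancel_right]
      rw [e, show (ρ M * ⁅A.hl', u⁆ * (ρ M)⁻¹)⁻¹ * (ρ M * x * (ρ M)⁻¹) =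
        ρ M * (⁅A.hl', u⁆⁻¹ * x) * (ρ M)⁻¹ by group]
      exact A.norm_K0 hqp (fun y hy => by rw [hρ]; exact (Subgroup.mem_normalizer_iff.1 (lev_norm_WB M) _).1 hy) hx

end FData

end CfsgLib.MultPSU
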