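import Cfsg.Agent.Schur.Basic
import Cfsg.Agent.SchurTheory.Basic
import Mathlib.GroupTheory.Sylow
import Mathlib.Data.Int.GCD

/-!
# `p`-elements in central extensions with kernel of order prime to `p`

Every `p`-element has one lift of `p`-power order; the lift is multiplicative on `p`-subgroups and
equivariant.
-/

set_option autoImplicit false
set_option linter.style.haveILetI false

namespace CfsgLib.MultPSU

/-- `x` has `p`-power order. -/
def PEl {G : Type*} [Group G] (p : ℕ) (x : G) : Prop := ∃ a : ℕ, x ^ p ^ a = 1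

theorem PEl.conj {G : Type*} [Group G] {p : ℕ} {x : G} (h : PEl p x) (g : G) :
    PEl p (g * x * g⁻¹) := by
  obtain ⟨a, ha⟩ := h
  exact ⟨a, by rw [conj_pow, ha, mul_one, mul_inv_cancel]⟩

theorem pEl_one {G : Type*} [Group G] (p : ℕ) : PEl p (1 : G) := ⟨0, one_pow _⟩

/-- The data: a central extension with kernel of order prime to `p`. -/
structure PExt (E G : Type*) [Group E] [Group G] (p : ℕ) where
  π : E →* G
  surj : Function.Surjective π
  central : π.ker ≤ Subgroup.center E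
  prime : p.Prime
  coprime : ¬ p ∣ Nat.card π.ker

namespace PExt

variable {E G : Type*} [Group E] [Group G] [Finite E] {p : ℕ} (D : PExt E G p)

theorem exists_lift {x : G} (hx : PEl p x) : ∃ y, D.π y = x ∧ PEl p y := by
  obtain ⟨y, rfl⟩ := D.surj x
  obtain ⟨a, ha⟩ := hx
  set N := Nat.card D.π.ker
  have hcop : (p ^ a).Coprime N := ((Nat.Prime.coprime_iff_not_dvd D.prime).2 D.coprime).pow_left a
  have hN : ∀ z, D.π z = 1 → z ^ N = 1 := fun z hz => by
    have := congrArg Subtype.val (pow_card_eq_one' (x := (⟨z, hz⟩ : D.π.ker)))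
    exact this
  have hz : D.π (y ^ p ^ a) = 1 := by rw [map_pow, ha]
  obtain ⟨u, v, huv⟩ : ∃ u v : ℤ, (p ^ a : ℕ) * u + (N : ℤ) * v = 1 := by
    refine ⟨Nat.gcdA (p ^ a) N, Nat.gcdB (p ^ a) N, ?_⟩
    rw [← Nat.gcd_eq_gcd_ab, hcop]; rfl
  refine ⟨y ^ ((N : ℤ) * v), ?_, a, ?_⟩
  · rw [map_zpow, show (N : ℤ) * v = 1 - (p ^ a : ℕ) * u by linarith, zpow_sub, zpow_mul,
      zpow_natCast, ha, one_zpow, inv_one, mul_one, zpow_one]
  · rw [← zpow_natCast, ← zpow_mul,
      show (N : ℤ) * v * (p ^ a : ℕ) = (p ^ a : ℕ) * ((N : ℤ) * v) by ring, zpow_mul, zpow_natCast,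
      zpow_mul, zpow_natCast, hN _ hz, one_zpow]

theorem unique {y y' : E} (h : D.π y = D.π y') (hy : PEl p y) (hy' : PEl p y') : y = y' := by
  obtain ⟨a, ha⟩ := hy
  obtain ⟨b, hb⟩ := hy'
  have hz : y'⁻¹ * y ∈ D.π.ker := by
    rw [MonoidHom.mem_ker, map_mul, map_inv, h, inv_mul_cancel]
  have hc : Commute y' (y'⁻¹ * y) := Subgroup.mem_center_iff.1 (D.central hz) y'
  have h1 : (y'⁻¹ * y) ^ p ^ (a + b) = 1 := by
    have e : y ^ p ^ (a + b) = y' ^ p ^ (a + b) * (y'⁻¹ * y) ^ p ^ (a + b) := by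
      rw [← hc.mul_pow, mul_inv_cancel_left]
    rw [pow_add, pow_mul, ha, one_pow, mul_comm, pow_mul, hb, one_pow, one_mul] at e
    rw [pow_add, mul_comm]; exact e.symm
  have h2 : (y'⁻¹ * y) ^ Nat.card D.π.ker = 1 := by
    have := pow_card_eq_one' (x := (⟨_, hz⟩ : D.π.ker))
    simpa using congrArg Subtype.val this
  have hcop : (p ^ (a + b)).Coprime (Nat.card D.π.ker) :=
    ((Nat.Prime.coprime_iff_not_dvd D.prime).2 D.coprime).pow_left _
  have := pow_gcd_eq_one.2 ⟨h1, h2⟩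
  rw [hcop, pow_one, inv_mul_eq_one] at this
  exact this.symm

open Classical in
/-- The lift of `p`-power order. -/
noncomputable def lf (x : G) : E := if h : PEl p x then (D.exists_lift h).choose else 1

theorem π_lf {x : G} (h : PEl p x) : D.π (D.lf x) = x := by
  rw [lf, dif_pos h]; exact (D.exists_lift h).choose_spec.1

theorem pEl_lf (x : G) : PEl p (D.lf x) := by
  by_cases h : PEl p x
  · rw [lf, dif_pos h]; exact (D.exists_lift h).choose_spec.2
  · rw [lf, dif_neg h]; exact pEl_one p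

theorem eq_lf {y : E} (hy : PEl p y) {x : G} (h : D.π y = x) : y = D.lf x := by
  have hx : PEl p x := by
    obtain ⟨a, ha⟩ := hy
    exact ⟨a, by rw [← h, ← map_pow, ha, map_one]⟩
  exact D.unique (by rw [D.π_lf hx, h]) hy (D.pEl_lf x)

theorem lf_one : D.lf 1 = 1 := (D.eq_lf (pEl_one p) (map_one _)).symm

theorem conj_lf {x : G} (h : PEl p x) (g : E) :
    g * D.lf x * g⁻¹ = D.lf (D.π g * x * (D.π g)⁻¹) :=
  D.eq_lf ((D.pEl_lf x).conj g) (by rw [map_mul, map_mul, map_inv, D.π_lf h])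

/-- An element centralising a `p`-element in the image centralises its lift. -/
theorem commute_lf {x : G} (h : PEl p x) {g : E} (hg : Commute (D.π g) x) : Commute g (D.lf x) := by
  have := D.conj_lf h g
  rw [hg.eq, mul_inv_cancel_right, mul_inv_eq_iff_eq_mul] at this
  exact this

theorem commute_lf_lf {x y : G} (hx : PEl p x) (hy : PEl p y) (h : Commute x y) :
    Commute (D.lf x) (D.lf y) := D.commute_lf hy (by rwa [D.π_lf hx])

/-- A `p`-subgroup lifts. -/
theorem exists_pgroup_lift {P : Subgroup G} (hP : IsPGroup p P) :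
    ∃ S : Subgroup E, S.map D.π = P ∧ ∀ x ∈ P, D.lf x ∈ S ∧ ∀ s ∈ S, D.π s = x → s = D.lf x := by
  haveI : Fact p.Prime := ⟨D.prime⟩
  haveI : Finite G := Finite.of_surjective D.π D.surj
  set H := P.comap D.π with hH
  obtain ⟨T⟩ : Nonempty (Sylow p H) := inferInstance
  set S := (T : Subgroup H).map H.subtype with hS
  have hpel : ∀ s ∈ S, PEl p s := by
    rintro _ ⟨t, ht, rfl⟩
    obtain ⟨a, ha⟩ := T.isPGroup' ⟨t, ht⟩
    exact ⟨a, by
      have := congrArg (fun z : (T : Subgroup H) => (((z : H)) : E)) ha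
      simpa using this⟩
  have hle : S.map D.π ≤ P := by
    rintro _ ⟨_, ⟨t, -, rfl⟩, rfl⟩
    exact t.2
  let ψ : H →* P := (D.π.comp H.subtype).codRestrict P fun t => t.2
  have hψ : Function.Surjective ψ := fun x => by
    obtain ⟨y, hy⟩ := D.surj (x : G)
    exact ⟨⟨y, by show D.π y ∈ P; rw [hy]; exact x.2⟩, Subtype.ext hy⟩
  have hTP : (T : Subgroup H).map ψ = ⊤ := by
    have h1 : ¬ p ∣ ((T : Subgroup H).map ψ).index := fun h =>
      T.not_dvd_index (h.trans (Subgroup.index_map_dvd _ hψ))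
    obtain ⟨n, hn⟩ := IsPGroup.iff_card.1 hP
    obtain ⟨k, -, hk⟩ : ∃ k ≤ n, ((T : Subgroup H).map ψ).index = p ^ k :=
      (Nat.dvd_prime_pow D.prime).1 (hn ▸ Subgroup.index_dvd_card _)
    rcases Nat.eq_zero_or_pos k with rfl | hk0
    · rw [← Subgroup.index_eq_one, hk, pow_zero]
    · exact absurd (hk ▸ dvd_pow_self p hk0.ne') h1
  refine ⟨S, le_antisymm hle fun x hx => ?_, fun x hx => ?_⟩
  · obtain ⟨t, ht, e⟩ : (⟨x, hx⟩ : P) ∈ (T : Subgroup H).map ψ := hTP ▸ Subgroup.mem_top _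
    exact ⟨t, ⟨t, ht, rfl⟩, congrArg Subtype.val e⟩
  · obtain ⟨t, ht, e⟩ : (⟨x, hx⟩ : P) ∈ (T : Subgroup H).map ψ := hTP ▸ Subgroup.mem_top _
    have e' : D.π (t : E) = x := congrArg Subtype.val e
    refine ⟨?_, fun s hs hsx => D.eq_lf (hpel s hs) hsx⟩
    rw [← D.eq_lf (hpel _ ⟨t, ht, rfl⟩) e']
    exact ⟨t, ht, rfl⟩

theorem lf_mul {P : Subgroup G} (hP : IsPGroup p P) {x y : G} (hx : x ∈ P) (hy : y ∈ P) :
    D.lf (x * y) = D.lf x * D.lf y := by
  obtain ⟨S, -, h⟩ := D.exists_pgroup_lift hP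
  have pe : ∀ z ∈ P, PEl p z := fun z hz => by
    obtain ⟨a, ha⟩ := hP ⟨z, hz⟩
    exact ⟨a, by simpa using congrArg Subtype.val ha⟩
  exact ((h _ (mul_mem hx hy)).2 _ (mul_mem (h x hx).1 (h y hy).1)
    (by rw [map_mul, D.π_lf (pe x hx), D.π_lf (pe y hy)])).symm

theorem lf_inv {x : G} (hx : PEl p x) : D.lf x⁻¹ = (D.lf x)⁻¹ := by
  refine (D.eq_lf ?_ (by rw [map_inv, D.π_lf hx])).symm
  obtain ⟨a, ha⟩ := D.pEl_lf x
  exact ⟨a, by rw [inv_pow, ha, inv_one]⟩

/-- The lift on a `p`-subgroup, as a homomorphism. -/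
noncomputable def hom {P : Subgroup G} (hP : IsPGroup p P) : P →* E :=
  MonoidHom.mk' (fun x => D.lf x) fun x y => D.lf_mul hP x.2 y.2

end PExt

/-- A subgroup of index prime to the order of a central commutator element with a lift kills it. -/
theorem eq_one_of_lift {E G : Type*} [Group E] [Finite E] [Group G] (π : E →* G)
    (hs : Function.Surjective π) (hc : π.ker ≤ Subgroup.center E) (H' : Subgroup E)
    (hinj : ∀ x ∈ H', π x = 1 → x = 1) {z : E} (hz : π z = 1) (hz' : z ∈ commutator E)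
    (hcop : (orderOf z).Coprime (H'.map π).index) : z = 1 := by
  haveI : Finite G := Finite.of_surjective π hs
  have hidx : (H' ⊔ π.ker).index = (H'.map π).index := by
    rw [← Subgroup.comap_map_eq, Subgroup.index_comap_of_surjective _ hs]
  have h1 := Schur.mem_commutator_of_index_coprime (H' ⊔ π.ker) (hc hz) hz' (hidx ▸ hcop)
  have h2 : ⁅H' ⊔ π.ker, H' ⊔ π.ker⁆ ≤ H' := by
    rw [Subgroup.commutator_le]
    have key : ∀ a ∈ H' ⊔ π.ker, ∃ a' ∈ H', π a = π a' := fun a ha => by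
      rw [← Subgroup.comap_map_eq] at ha
      obtain ⟨a', ha', e⟩ := ha
      exact ⟨a', ha', e.symm⟩
    intro a ha b hb
    obtain ⟨a', ha', ea⟩ := key a ha
    obtain ⟨b', hb', eb⟩ := key b hb
    have ca : a'⁻¹ * a ∈ Subgroup.center E :=
      hc (by rw [MonoidHom.mem_ker, map_mul, map_inv, ea, inv_mul_cancel])
    have cb : b'⁻¹ * b ∈ Subgroup.center E :=
      hc (by rw [MonoidHom.mem_ker, map_mul, map_inv, eb, inv_mul_cancel])
    have e := SchurTheory.commutatorElement_mul_mem_center (x := a') (y := b') ca cb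
    rw [mul_inv_cancel_left, mul_inv_cancel_left] at e
    rw [e, commutatorElement_def]
    exact mul_mem (mul_mem (mul_mem ha' hb') (inv_mem ha')) (inv_mem hb')
  exact hinj z (h2 h1) hz

end CfsgLib.MultPSU
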