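import Cfsg.Agent.MultPSU.BigCen

/-!
# The torus and the radical of the Siegel parabolic, rank two
-/

set_option autoImplicit false
set_option linter.unusedSectionVars false
set_option linter.unusedSimpArgs false

namespace CfsgLib.MultPSU

open Matrix CfsgLib.RepBounds.Unit CfsgLib.SUThreeUnipotent CfsgLib.SUTwoGen CfsgLib.SUPres
open CfsgLib.SLnPres (tv)
open CfsgLib.SpnPres (IsMon)
open scoped commutatorElement

variable {F : Type*} [Field F] [Fintype F] {C : ConjField F} {ι : Type*} [Fintype ι] [DecidableEq ι]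
  {Φ : PFrame C (0 + 2) ι}

local notation "SL2" => Matrix.SpecialLinearGroup (Fin (0 + 2)) F

theorem cases01 (j : Fin (0 + 2)) : j = 0 ∨ j = 1 := by fin_cases j <;> simp

/-- The scalars of a torus element on the frame. -/
def sc2 (C : ConjField F) (a0 a1 : F) : SI (0 + 2) → F :=
  sc C (fun x => if x = 0 then a0 else a1)

/-- An isometry which is diagonal on the frame. -/
def Tor (Φ : PFrame C (0 + 2) ι) (g : suG C ι) (a0 a1 : F) : Prop :=
  (∀ d, app C g (Φ.v d) = sc2 C a0 a1 d • Φ.v d) ∧ app C g Φ.x0 = Φ.x0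

theorem Tor.mul {g g' : suG C ι} {a0 a1 b0 b1 : F} (h : Tor Φ g a0 a1) (h' : Tor Φ g' b0 b1) :
    Tor Φ (g * g') (a0 * b0) (a1 * b1) := by
  refine ⟨fun d => ?_, by rw [app_mul, h'.2, h.2]⟩
  rw [app_mul, h'.1, app_smul, h.1, smul_smul]
  congr 1
  rcases d with j | j <;> rcases cases01 j with rfl | rfl <;> simp [sc2, sc, mul_comm]

theorem exists_tor_right {t : F} (ht : C.σ t = t) (ht0 : t ≠ 0) : ∃ g, Tor Φ g 1 t := by
  obtain ⟨c, hc, hc0⟩ := exists_skew_ne C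
  obtain ⟨b, hb⟩ := CfsgLib.Forms.exists_mul_involution_eq C.ne_id C.invol
    (show C.σ t⁻¹ = t⁻¹ by rw [map_inv₀, ht])
  have hb0 : b ≠ 0 := by rintro rfl; rw [zero_mul] at hb; exact inv_ne_zero ht0 hb.symm
  have hσ : C.σ b ≠ 0 := (map_ne_zero C.σ).2 hb0
  obtain ⟨f1, f2, f3, f4⟩ := flipEl_spec (Φ := Φ) hc hc0 0
  have i1 : app C (flipEl Φ c 0)⁻¹ (Φ.v (.inl 0)) = (-c) • Φ.v (.inr 0) := app_inv_eq C (by
    rw [app_smul, f2, smul_smul, neg_mul_neg, mul_inv_cancel₀ hc0, one_smul])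
  have i2 : app C (flipEl Φ c 0)⁻¹ (Φ.v (.inr 0)) = c⁻¹ • Φ.v (.inl 0) := app_inv_eq C (by
    rw [app_smul, f1, smul_smul, inv_mul_cancel₀ hc0, one_smul])
  have i3 : ∀ d : SI (0 + 2), ix d = 1 → app C (flipEl Φ c 0)⁻¹ (Φ.v d) = Φ.v d := fun d hd =>
    app_inv_eq C (f3 d (by rw [hd]; exact SUPres.zero_ne_one'.symm))
  have hA := lev_diag_app (Φ := Φ) (h01_mon (k := 0) (Units.mk0 b hb0))
  have hB := lev_diag_app (Φ := Φ) (h01_mon (k := 0) (Units.mk0 _ hσ))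
  refine ⟨flipEl Φ c 0 * lev Φ (h01 0 (Units.mk0 b hb0)) * (flipEl Φ c 0)⁻¹ *
    lev Φ (h01 0 (Units.mk0 _ hσ)), fun d => ?_, ?_⟩
  · rw [app_mul, app_mul, app_mul, hB, app_smul, app_smul, app_smul]
    rcases d with j | j <;> rcases cases01 j with rfl | rfl
    · rw [i1, app_smul, hA, app_smul, app_smul, f2, smul_smul, smul_smul, smul_smul]
      congr 1
      simp [sc2, sc, C.invol]
      field_simp
    · rw [i3 _ rfl, hA, app_smul, f3 (.inl 1) SUPres.zero_ne_one'.symm, smul_smul]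
      congr 1
      simp [sc2, sc]
      rw [← mul_inv, mul_comm, hb, inv_inv]
    · rw [i2, app_smul, hA, app_smul, app_smul, f1, smul_smul, smul_smul, smul_smul]
      congr 1
      simp [sc2, sc, C.invol]
      field_simp
    · rw [i3 _ rfl, hA, app_smul, f3 (.inr 1) SUPres.zero_ne_one'.symm, smul_smul]
      congr 1
      simp [sc2, sc, C.invol, ht]
      exact hb
  · rw [app_mul, app_mul, app_mul, lev_x0, app_inv_eq C f4, lev_x0, f4]

theorem exists_tor_left {t : F} (ht : C.σ t = t) (ht0 : t ≠ 0) : ∃ g, Tor Φ g t 1 := by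
  obtain ⟨g, hg⟩ := exists_tor_right (Φ := Φ) ht ht0
  have hw := w01_mon (F := F) (k := 0)
  refine ⟨lev Φ (w01 0) * g * (lev Φ (w01 0))⁻¹, fun d => ?_, ?_⟩
  · obtain ⟨a, ha, ea⟩ : Mv Φ (lev Φ (w01 0)) (Sum.map (Equiv.swap 0 1) (Equiv.swap 0 1) d) d := by
      rcases d with j | j
      · simpa using mv_lev_inl (Φ := Φ) hw (Equiv.swap 0 1 j)
      · simpa using mv_lev_inr (Φ := Φ) hw (Equiv.swap 0 1 j)
    have ei : app C (lev Φ (w01 0))⁻¹ (Φ.v d) = a⁻¹ • Φ.v (Sum.map (Equiv.swap 0 1) (Equiv.swap 0 1) d) :=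
      app_inv_eq C (by rw [app_smul, ea, smul_smul, inv_mul_cancel₀ ha, one_smul])
    rw [app_mul, app_mul, ei, app_smul, hg.1, app_smul, app_smul, ea, smul_smul, smul_smul]
    congr 1
    rcases d with j | j <;> rcases cases01 j with rfl | rfl <;> simp [sc2, sc] <;> field_simp
  · rw [app_mul, app_mul, app_inv_eq C (lev_x0 _), hg.2, lev_x0]

/-- The scalar torus element. -/
theorem exists_tor_scalar {t : F} (ht : C.σ t = t) (ht0 : t ≠ 0) : ∃ g, Tor Φ g t t := by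
  obtain ⟨g, hg⟩ := exists_tor_right (Φ := Φ) ht ht0
  obtain ⟨g', hg'⟩ := exists_tor_left (Φ := Φ) ht ht0
  exact ⟨g' * g, by simpa using hg'.mul hg⟩

theorem exists_fixed (h : 4 ≤ C.q) : ∃ t : F, C.σ t = t ∧ t ≠ 0 ∧ t ≠ 1 ∧ t * t ≠ 1 := by
  classical
  have e : 4 ≤ ((Finset.univ : Finset F).filter fun x => C.σ x = x).card := by
    obtain ⟨s, hs0, hs⟩ : ∃ s : F, s ≠ 0 ∧ C.σ s = -s := by
      obtain ⟨c, hc, hc0⟩ := exists_skew_ne C
      exact ⟨c, hc0, hc⟩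
    have hk := C.card_skew
    rw [Nat.card_eq_fintype_card, Fintype.card_subtype] at hk
    refine h.trans (le_of_eq ?_)
    rw [← hk]
    refine Finset.card_bij (fun x _ => x / s) ?_ ?_ ?_
    · intro x hx
      simp only [Finset.mem_filter, Finset.mem_univ, true_and] at hx ⊢
      rw [map_div₀, hs, C.skew_eq hx]
      field_simp
    · intro x _ y _ e
      exact (div_left_inj' hs0).1 e
    · intro y hy
      simp only [Finset.mem_filter, Finset.mem_univ, true_and] at hy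
      refine ⟨y * s, ?_, by field_simp⟩
      simp only [Finset.mem_filter, Finset.mem_univ, true_and]
      show y * s + C.σ (y * s) = 0
      rw [map_mul, hy, hs]; ring
  obtain ⟨t, ht, ht'⟩ := Finset.exists_mem_notMem_of_card_lt_card
    (s := ({0, 1, -1} : Finset F)) (Finset.card_le_three.trans_lt e)
  simp only [Finset.mem_filter, Finset.mem_univ, true_and] at ht
  simp only [Finset.mem_insert, Finset.mem_singleton, not_or] at ht'
  refine ⟨t, ht, ht'.1, ht'.2.1, fun e2 => ?_⟩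
  rcases mul_self_eq_one_iff.1 e2 with e3 | e3
  · exact ht'.2.1 e3
  · exact ht'.2.2 e3

/-! ### The radical -/

theorem qEl_eq_long {c : SI (0 + 2)} {a γ : F} (h : QV Φ a γ) (ha : a • Φ.x0 = 0) :
    QV Φ 0 γ ∧ qEl Φ c a γ = qEl Φ c 0 γ := by
  have h0 : QV Φ 0 γ := by
    have e : a * eps Φ = 0 := by rw [eps, ← herm_smul_left, ha, herm_zero_left]
    unfold QV at *
    rw [show a * C.σ a * eps Φ = C.σ a * (a * eps Φ) by ring, e, mul_zero, add_zero] at h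
    simpa using h
  exact ⟨h0, (qEl_eq_iff h h0).2 ⟨by rw [ha, zero_smul], rfl⟩⟩

theorem mem_WB_q0 {a γ : F} (h : QV Φ a γ) : qEl Φ (.inl 0) a γ ∈ WB Φ :=
  Subgroup.mem_sup_right (Subgroup.mem_sup_left (qEl_mem_QS h))

theorem mem_WB_q1 {a γ : F} (h : QV Φ a γ) : qEl Φ (.inl 1) a γ ∈ WB Φ :=
  Subgroup.mem_sup_left (qEl_mem_QS h)

theorem mem_WB_p (r : F) : pEl Φ (.inl 0) (.inl 1) r ∈ WB Φ :=
  Subgroup.mem_sup_right (Subgroup.mem_sup_right (pEl_mem_PS _ r))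

theorem WA_cases {y : suG C ι} (h : y ∈ WA Φ) :
    ∃ a γ r, QV Φ a γ ∧ y = qEl Φ (.inl 0) a γ * pEl Φ (.inl 0) (.inl 1) r := by
  have hn : QS Φ (.inl 0) ≤ Subgroup.normalizer (PS Φ (.inl 0) (.inl 1) ix01 : Set (suG C ι)) :=
    le_normalizer_of_conj (by
      rintro _ ⟨a, γ, h, rfl⟩ _ ⟨r, rfl⟩
      rw [(commute_PQ ix01 r h).symm.eq, mul_inv_cancel_right]
      exact pEl_mem_PS _ _)
  obtain ⟨_, ⟨a, γ, ha, rfl⟩, _, ⟨r, rfl⟩, e⟩ := exists_mul_of_sup hn h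
  exact ⟨a, γ, r, ha, e⟩

theorem WB_cases {y : suG C ι} (h : y ∈ WB Φ) : ∃ b δ a γ r, QV Φ b δ ∧ QV Φ a γ ∧
    y = qEl Φ (.inl 1) b δ * (qEl Φ (.inl 0) a γ * pEl Φ (.inl 0) (.inl 1) r) := by
  obtain ⟨_, ⟨b, δ, hb, rfl⟩, w, hw, e⟩ := exists_mul_of_sup q1_norm_WA h
  obtain ⟨a, γ, r, ha, rfl⟩ := WA_cases hw
  exact ⟨b, δ, a, γ, r, hb, ha, e⟩

/-- The images of the frame under a normal form. -/
theorem app_normal {a γ b δ r : F} (hb : QV Φ b δ) (ha : QV Φ a γ) :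
    let y := qEl Φ (.inl 1) b δ * (qEl Φ (.inl 0) a γ * pEl Φ (.inl 0) (.inl 1) r)
    app C y Φ.x0 = Φ.x0 - (C.σ a * eps Φ) • Φ.v (.inl 0) - (C.σ b * eps Φ) • Φ.v (.inl 1) ∧
    app C y (Φ.v (.inl 0)) = Φ.v (.inl 0) ∧ app C y (Φ.v (.inl 1)) = Φ.v (.inl 1) ∧
    herm C (app C y (Φ.v (.inr 0))) (Φ.v (.inr 0)) = γ ∧
    herm C (app C y (Φ.v (.inr 0))) (Φ.v (.inr 1)) = r - a * C.σ b * eps Φ * 1 ∧
    herm C (app C y (Φ.v (.inr 1))) (Φ.v (.inr 1)) = δ := by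
  have h01 : (0 : Fin (0 + 2)) ≠ 1 := SUPres.zero_ne_one'
  have hp : (Sum.inl 1 : SI (0 + 2)) ≠ (Sum.inl 0 : SI (0 + 2)).swap := by simp
  simp only [app_mul, app_qEl hb, app_qEl ha, app_pEl hp, herm_add_left, herm_sub_left, herm_smul_left, herm_vv,
    Φ.vx, Φ.xv, ← eps.eq_def, Sum.swap_inl, Sum.swap_inr, Sum.inl.injEq, Sum.inr.injEq, reduceCtorEq, h01, h01.symm,
    if_true, if_false, mul_zero, zero_mul, mul_one, one_mul, add_zero, zero_add, sub_zero, zero_sub]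
  refine ⟨?_, ?_, ?_, ?_, ?_, ?_⟩
  all_goals first | trivial | module | ring

theorem WB_fix {y : suG C ι} (h : y ∈ WB Φ) :
    app C y (Φ.v (.inl 0)) = Φ.v (.inl 0) ∧ app C y (Φ.v (.inl 1)) = Φ.v (.inl 1) := by
  obtain ⟨b, δ, a, γ, r, hb, ha, rfl⟩ := WB_cases h
  obtain ⟨-, h1, h2, -⟩ := app_normal (r := r) hb ha
  exact ⟨h1, h2⟩

theorem WB_x0 {y : suG C ι} (h : y ∈ WB Φ) :
    ∃ a b : F, app C y Φ.x0 = Φ.x0 + a • Φ.v (.inl 0) + b • Φ.v (.inl 1) := by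
  obtain ⟨b, δ, a, γ, r, hb, ha, rfl⟩ := WB_cases h
  exact ⟨-(C.σ a * eps Φ), -(C.σ b * eps Φ), by rw [(app_normal hb ha).1]; module⟩

theorem smul_x0_zero {a : F} (h : C.σ a * eps Φ = 0) : a • Φ.x0 = 0 := by
  rcases mul_eq_zero.1 h with e | e
  · rw [(map_eq_zero C.σ).1 e, zero_smul]
  · rw [← eps_smul Φ, e, zero_smul, smul_zero]

theorem WB_fix_x0 {y : suG C ι} (h : y ∈ WB Φ) (hx : app C y Φ.x0 = Φ.x0) : ∃ δ γ r, QV Φ 0 δ ∧ QV Φ 0 γ ∧
    y = qEl Φ (.inl 1) 0 δ * (qEl Φ (.inl 0) 0 γ * pEl Φ (.inl 0) (.inl 1) r) := by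
  obtain ⟨b, δ, a, γ, r, hb, ha, rfl⟩ := WB_cases h
  rw [(app_normal hb ha).1] at hx
  have e0 := congrArg (fun x => herm C x (Φ.v (.inr 0))) hx
  have e1 := congrArg (fun x => herm C x (Φ.v (.inr 1))) hx
  simp [herm_sub_left, herm_smul_left, herm_vv, Φ.xv, SUPres.zero_ne_one'] at e0 e1
  obtain ⟨ha', ea⟩ := qEl_eq_long (c := .inl 0) ha (smul_x0_zero (by
    rcases e0 with e | e <;> simp [e]))
  obtain ⟨hb', eb⟩ := qEl_eq_long (c := .inl 1) hb (smul_x0_zero (by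
    rcases e1 with e | e <;> simp [e]))
  exact ⟨δ, γ, r, hb', ha', by rw [ea, eb]⟩

theorem long_inj {δ γ r δ' γ' r' : F} (h1 : QV Φ 0 δ) (h2 : QV Φ 0 γ) (h1' : QV Φ 0 δ') (h2' : QV Φ 0 γ')
    (e : qEl Φ (.inl 1) 0 δ * (qEl Φ (.inl 0) 0 γ * pEl Φ (.inl 0) (.inl 1) r) =
      qEl Φ (.inl 1) 0 δ' * (qEl Φ (.inl 0) 0 γ' * pEl Φ (.inl 0) (.inl 1) r')) :
    δ = δ' ∧ γ = γ' ∧ r = r' := by
  obtain ⟨-, -, -, a1, a2, a3⟩ := app_normal (r := r) h1 h2
  obtain ⟨-, -, -, b1, b2, b3⟩ := app_normal (r := r') h1' h2'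
  refine ⟨?_, ?_, ?_⟩
  · rw [← a3, e, b3]
  · rw [← a1, e, b1]
  · have := a2.symm.trans ((congrArg (fun g => herm C (app C g (Φ.v (.inr 0))) (Φ.v (.inr 1))) e).trans b2)
    simpa using this

theorem lev_tv01 (r : F) : lev Φ (tv 0 1 r) = pEl Φ (.inl 0) (.inr 1) (-C.σ r) := by
  rw [lev_tv SUPres.zero_ne_one', pEl_symm (by simp)]

theorem w_norm_WB : lev Φ (w01 0) ∈ Subgroup.normalizer (WB Φ : Set (suG C ι)) := by
  refine le_normalizer_of_conj (H := Subgroup.zpowers (lev Φ (w01 (F := F) 0))) ?_ (Subgroup.mem_zpowers _)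
  have hw := w01_mon (F := F) (k := 0)
  have hm := isMono_lev (Φ := Φ) hw
  have e0 := lev_mon_inl (Φ := Φ) hw 0
  have e1 := lev_mon_inl (Φ := Φ) hw 1
  simp only [Equiv.swap_apply_left, Equiv.swap_apply_right] at e0 e1
  suffices h : ∀ x ∈ WB Φ, lev Φ (w01 0) * x * (lev Φ (w01 0))⁻¹ ∈ WB Φ by
    haveI : Finite (suG C ι) := inferInstance
    intro y hy
    obtain ⟨n, rfl⟩ := (mem_powers_iff_mem_zpowers (y := y)).2 hy
    induction n with
    | zero => intro x hx; simpa using hx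
    | succ n ih =>
      intro x hx
      have := h _ (ih (Subgroup.mem_zpowers_iff.2 ⟨n, by simp⟩) x hx)
      simpa [pow_succ', mul_assoc] using this
  intro x hx
  obtain ⟨b, δ, a, γ, r, hb, ha, rfl⟩ := WB_cases hx
  rw [show ∀ w u v s : suG C ι, w * (u * (v * s)) * w⁻¹ = (w * u * w⁻¹) * (w * v * w⁻¹) * (w * s * w⁻¹) from
    fun w u v s => by group, conj_qEl' hm e1 hb, conj_qEl' hm e0 ha, conj_pEl' e0 e1 ix01, pEl_symm (by simp)]
  exact mul_mem (mul_mem (mem_WB_q0 (hb.scale1 _)) (mem_WB_q1 (ha.scale1 _))) (mem_WB_p _)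

theorem lev_norm_WB (M : SL2) : lev Φ M ∈ Subgroup.normalizer (WB Φ : Set (suG C ι)) := by
  have h1 : ∀ r, lev Φ (tv 0 1 r) ∈ Subgroup.normalizer (WB Φ : Set (suG C ι)) := fun r => by
    rw [lev_tv01]; exact p01_norm_WB (pEl_mem_PS _ _)
  induction M using CfsgLib.Linear.sl_induction with
  | hone => rw [map_one]; exact one_mem _
  | hmul a b ha hb => rw [map_mul]; exact mul_mem ha hb
  | htransvec i j hij r =>
    rcases cases01 i with rfl | rfl <;> rcases cases01 j with rfl | rfl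
    · exact absurd rfl hij
    · have := h1 r
      rwa [tv, dif_neg hij] at this
    · have e : (tv 1 0 r : SL2) = w01 0 * tv 0 1 (-r) * (w01 0)⁻¹ := by
        rw [(w01_mon (F := F) (k := 0)).mul_tv SUPres.zero_ne_one']
        simp
      rw [tv, dif_neg hij] at e
      rw [e, map_mul, map_mul, map_inv]
      exact mul_mem (mul_mem w_norm_WB (h1 _)) (inv_mem w_norm_WB)
    · exact absurd rfl hij

theorem lev_inter_WB {M : SL2} (h : lev Φ M ∈ WB Φ) : M = 1 := by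
  obtain ⟨h0, h1⟩ := WB_fix h
  apply Subtype.ext
  ext i j
  rw [← lev_inl (Φ := Φ) M i j]
  rcases cases01 j with rfl | rfl
  · rw [h0, herm_vv]; rcases cases01 i with rfl | rfl <;> simp
  · rw [h1, herm_vv]; rcases cases01 i with rfl | rfl <;> simp

/-! ### The order of the unipotent group -/

theorem card_mul_le_sup {G : Type*} [Group G] [Finite G] {A B : Subgroup G} (h : ∀ a ∈ A, a ∈ B → a = 1) :
    Nat.card A * Nat.card B ≤ Nat.card ↥(A ⊔ B) := by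
  rw [← Nat.card_prod]
  refine Nat.card_le_card_of_injective
    (fun x => ⟨x.1.1 * x.2.1, mul_mem (Subgroup.mem_sup_left x.1.2) (Subgroup.mem_sup_right x.2.2)⟩) ?_
  rintro ⟨⟨a, ha⟩, ⟨b, hb⟩⟩ ⟨⟨a', ha'⟩, ⟨b', hb'⟩⟩ e
  have e' : a * b = a' * b' := congrArg Subtype.val e
  have e1 : a'⁻¹ * a = 1 := h _ (mul_mem (inv_mem ha') ha) (by
    rw [show a'⁻¹ * a = b' * b⁻¹ by
      rw [eq_mul_inv_iff_mul_eq, mul_assoc, e', inv_mul_cancel_left]]
    exact mul_mem hb' (inv_mem hb))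
  obtain rfl := inv_mul_eq_one.1 e1
  obtain rfl := mul_left_cancel e'
  rfl

theorem card_PS {c d : SI (0 + 2)} (h : ix c ≠ ix d) : C.q ^ 2 ≤ Nat.card (PS Φ c d h) := by
  rw [← C.card, ← Nat.card_eq_fintype_card]
  refine Nat.card_le_card_of_injective (fun r => ⟨_, pEl_mem_PS h r⟩) fun r s e => ?_
  have e' := congrArg (fun g => herm C (app C g (Φ.v c.swap)) (Φ.v d.swap)) (congrArg Subtype.val e)
  simp only [app_pEl (ne_of_ix h).2, herm_add_left, herm_sub_left, herm_smul_left, herm_v1', herm_v1] at e'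
  have hcd : herm C (Φ.v c) (Φ.v d.swap) = 0 :=
    herm_v0 Φ (fun x => h (by rw [← ix_swap d, x, ix_swap]))
  simpa [hcd] using e'

theorem card_QS (c : SI (0 + 2)) : C.q ≤ Nat.card (QS Φ c) := by
  rw [← C.card_skew]
  refine Nat.card_le_card_of_injective
    (fun γ : C.skew => ⟨qEl Φ c 0 γ.1, qEl_mem_QS (qv_zero_iff.2 (C.skew_eq γ.2))⟩) fun x y e => ?_
  exact Subtype.ext ((qEl_eq_iff (qv_zero_iff.2 (C.skew_eq x.2)) (qv_zero_iff.2 (C.skew_eq y.2))).1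
    (congrArg Subtype.val e)).2

theorem card_QS_odd (he : eps Φ = 1) (c : SI (0 + 2)) : C.q ^ 3 ≤ Nat.card (QS Φ c) := by
  obtain ⟨θ, hθ⟩ := C.exists_trace_one
  have hv : ∀ (a : F) (γ : C.skew), QV Φ a (γ.1 - θ * (a * C.σ a)) := fun a γ => by
    have := C.skew_eq γ.2
    unfold QV
    rw [map_sub, map_mul, map_mul, C.invol, this, he]
    linear_combination -(a * C.σ a) * hθ
  rw [pow_succ, ← C.card, ← Nat.card_eq_fintype_card, ← C.card_skew, ← Nat.card_prod]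
  refine Nat.card_le_card_of_injective
    (fun x : F × C.skew => ⟨qEl Φ c x.1 _, qEl_mem_QS (hv x.1 x.2)⟩) ?_
  rintro ⟨a, x⟩ ⟨b, y⟩ e
  obtain ⟨e1, e2⟩ := (qEl_eq_iff (hv a x) (hv b y)).1 (congrArg Subtype.val e)
  have hab : a = b := by
    have := congrArg (fun z => herm C z Φ.x0) e1
    simpa [herm_smul_left, ← eps.eq_def, he] using this
  subst hab
  exact Prod.ext rfl (Subtype.ext (by simpa using e2))

theorem card_WW_ge {n : ℕ} (hn : n ≤ Nat.card (QS Φ (.inl 0)) ∧ n ≤ Nat.card (QS Φ (.inl 1))) :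
    C.q ^ 2 * (n * (n * C.q ^ 2)) ≤ Nat.card (WW Φ) := by
  have h01 : (0 : Fin (0 + 2)) ≠ 1 := SUPres.zero_ne_one'
  have d1 : ∀ a ∈ QS Φ (.inl 0), a ∈ PS Φ (.inl 0) (.inl 1) ix01 → a = 1 := by
    rintro _ ⟨a, γ, h, rfl⟩ ⟨r, e⟩
    rw [e]; exact pEl_ne_qEl ix01 h e.symm
  have d2 : ∀ a ∈ QS Φ (.inl 1), a ∈ WA Φ → a = 1 := by
    rintro _ ⟨b, δ, h, rfl⟩ hy
    obtain ⟨a, γ, r, ha, e⟩ := WA_cases hy
    have n1 := app_normal (r := (0 : F)) h (QV.zero (Φ := Φ))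
    rw [qEl_zero, pEl_zero (by simp), one_mul, mul_one] at n1
    have n2 := app_normal (r := r) (QV.zero (Φ := Φ)) ha
    rw [qEl_zero, one_mul, ← e] at n2
    obtain ⟨x1, -, -, -, -, z1⟩ := n1
    obtain ⟨x2, -, -, -, -, z2⟩ := n2
    have hb : b • Φ.x0 = 0 := smul_x0_zero (by
      have e1 := congrArg (fun x => herm C x (Φ.v (.inr 1))) (x1.symm.trans x2)
      simpa [herm_sub_left, herm_smul_left, herm_vv, Φ.xv, h01] using e1)
    obtain ⟨-, eb⟩ := qEl_eq_long (c := Sum.inl (1 : Fin (0 + 2))) h hb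
    rw [eb, show δ = 0 from z1.symm.trans z2, qEl_zero]
  have d3 : ∀ a ∈ PS Φ (.inl 0) (.inr 1) ix01', a ∈ WB Φ → a = 1 := by
    rintro _ ⟨r, rfl⟩ hy
    have := congrArg (fun x => herm C x (Φ.v (.inr 0))) (WB_fix hy).2
    simp [app_pEl (ne_of_ix (ix01' (k := 0))).2, herm_add_left, herm_sub_left, herm_smul_left, herm_vv, h01,
      h01.symm] at this
    rw [this, pEl_zero (ne_of_ix (ix01' (k := 0))).2]
  calc C.q ^ 2 * (n * (n * C.q ^ 2))
      ≤ Nat.card (PS Φ (.inl 0) (.inr 1) ix01') * (Nat.card (QS Φ (.inl 1)) *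
          (Nat.card (QS Φ (.inl 0)) * Nat.card (PS Φ (.inl 0) (.inl 1) ix01))) :=
        Nat.mul_le_mul (card_PS _) (Nat.mul_le_mul hn.2 (Nat.mul_le_mul hn.1 (card_PS _)))
    _ ≤ Nat.card (PS Φ (.inl 0) (.inr 1) ix01') * Nat.card (WB Φ) :=
        Nat.mul_le_mul_left _ ((Nat.mul_le_mul_left _ (card_mul_le_sup d1)).trans (card_mul_le_sup d2))
    _ ≤ _ := card_mul_le_sup d3

end CfsgLib.MultPSU
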