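import Cfsg.Agent.MultPSU.SmallRoots

/-!
# A complement over the Siegel parabolic, rank two, `q ≥ 4`

Torus elements make the lifts of the radical of the Siegel parabolic split over the kernel, compatibly
with the lift of the Levi subgroup.
-/

set_option autoImplicit false
set_option linter.unusedSectionVars false
set_option linter.unusedSimpArgs false

namespace CfsgLib.MultPSU

open Matrix CfsgLib.RepBounds.Unit CfsgLib.SUThreeUnipotent CfsgLib.SUTwoGen CfsgLib.SUPres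
open CfsgLib.SLnPres (tv)
open CfsgLib.SpnPres (IsMon)
open scoped commutatorElement

namespace CExt

variable {E G : Type*} [Group E] [Group G] (D : CExt E G)

theorem cm_one_left (Y : G) : D.cm 1 Y = 1 := by rw [← D.cm_swap, D.cm_one_right, inv_one]

theorem mem_cen_one (X : G) {Y : G} (h : D.cm X Y = 1) : Y ∈ D.cen X := D.mem_cen.2 h

/-- The commutator with a commutator, one side commuting. -/
theorem cm_commutator {X A B : G} (hA : D.cm X A = 1) (hL : Commute (D.cm X B) ⁅D.sl A, D.sl B⁆) :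
    D.cm X ⁅A, B⁆ = ⁅D.sl A, D.cm X B⁆ := by
  have e := D.cm_eq (D.sl X) ⁅D.sl A, D.sl B⁆
  rw [map_commutatorElement, D.π_sl, D.π_sl, D.π_sl] at e
  rw [← e]
  have h1 : D.sl X * D.sl A * (D.sl X)⁻¹ = D.sl A :=
    mul_inv_eq_iff_eq_mul.2 (D.commute_of (D.π_sl X) (D.π_sl A) hA).eq
  have h2 : D.sl X * D.sl B * (D.sl X)⁻¹ = D.cm X B * D.sl B := by
    simp only [cm, commutatorElement_def]; group
  generalize D.cm X B = L at hL h2 ⊢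
  generalize D.sl X = x at h1 h2 ⊢
  generalize D.sl A = a at hL h1 ⊢
  generalize D.sl B = b at hL h2 ⊢
  calc ⁅x, ⁅a, b⁆⁆ = ⁅x * a * x⁻¹, x * b * x⁻¹⁆ * ⁅a, b⁆⁻¹ := by simp only [commutatorElement_def]; group
    _ = ⁅a, L * b⁆ * ⁅a, b⁆⁻¹ := by rw [h1, h2]
    _ = ⁅a, L⁆ * (L * ⁅a, b⁆) * L⁻¹ * ⁅a, b⁆⁻¹ := by simp only [commutatorElement_def]; group
    _ = ⁅a, L⁆ := by rw [hL.eq]; group

end CExt

variable {F : Type*} [Field F] [Fintype F] {C : ConjField F} {ι : Type*} [Fintype ι] [DecidableEq ι]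
  {Φ : PFrame C (0 + 2) ι} {E : Type*} [Group E]

local notation "SL2" => Matrix.SpecialLinearGroup (Fin (0 + 2)) F

theorem lev_induction {S : Subgroup (suG C ι)} (h1 : ∀ r, lev Φ (tv 0 1 r) ∈ S)
    (hw : lev Φ (w01 0) ∈ S) (M : SL2) : lev Φ M ∈ S := by
  induction M using CfsgLib.Linear.sl_induction with
  | hone => rw [map_one]; exact one_mem _
  | hmul a b ha hb => rw [map_mul]; exact mul_mem ha hb
  | htransvec i j hij r =>
    rcases cases01 i with rfl | rfl <;> rcases cases01 j with rfl | rfl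
    · exact absurd rfl hij
    · have := h1 r
      rwa [tv, dif_neg hij] at this
    · have e : (tv 1 0 r : SL2) = w01 0 * tv 0 1 (-r) * (w01 0)⁻¹ := by
        rw [(w01_mon (F := F) (k := 0)).mul_tv SUPres.zero_ne_one']
        simp
      rw [tv, dif_neg hij] at e
      rw [e, map_mul, map_mul, map_inv]
      exact mul_mem (mul_mem hw (h1 _)) (inv_mem hw)
    · exact absurd rfl hij

theorem Tor.app_inl {g : suG C ι} {a0 a1 : F} (h : Tor Φ g a0 a1) :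
    app C g (Φ.v (.inl 0)) = a0 • Φ.v (.inl 0) ∧ app C g (Φ.v (.inl 1)) = a1 • Φ.v (.inl 1) ∧
    app C g (Φ.v (.inr 1)) = (C.σ a1)⁻¹ • Φ.v (.inr 1) := by
  refine ⟨?_, ?_, ?_⟩ <;> rw [h.1] <;> simp [sc2, sc]

theorem Tor.conj_q0 {g : suG C ι} {a0 a1 : F} (h : Tor Φ g a0 a1) {a γ : F} (hv : QV Φ a γ) :
    g * qEl Φ (.inl 0) a γ * g⁻¹ = qEl Φ (.inl 0) (C.σ a0 * a) (γ * (a0 * C.σ a0)) :=
  conj_qEl0 h.app_inl.1 h.2 hv

theorem Tor.conj_q1 {g : suG C ι} {a0 a1 : F} (h : Tor Φ g a0 a1) {a γ : F} (hv : QV Φ a γ) :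
    g * qEl Φ (.inl 1) a γ * g⁻¹ = qEl Φ (.inl 1) (C.σ a1 * a) (γ * (a1 * C.σ a1)) :=
  conj_qEl0 h.app_inl.2.1 h.2 hv

theorem Tor.conj_p {g : suG C ι} {a0 a1 : F} (h : Tor Φ g a0 a1) (r : F) :
    g * pEl Φ (.inl 0) (.inl 1) r * g⁻¹ = pEl Φ (.inl 0) (.inl 1) (C.σ a0 * a1 * r) :=
  conj_pEl' h.app_inl.1 h.app_inl.2.1 ix01 r

theorem Tor.conj_m {g : suG C ι} {a0 a1 : F} (h : Tor Φ g a0 a1) (r : F) :
    g * pEl Φ (.inl 0) (.inr 1) r * g⁻¹ = pEl Φ (.inl 0) (.inr 1) (C.σ a0 * (C.σ a1)⁻¹ * r) :=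
  conj_pEl' h.app_inl.1 h.app_inl.2.2 ix01' r

theorem Tor.norm_WB {g : suG C ι} {a0 a1 : F} (h : Tor Φ g a0 a1) {x : suG C ι} (hx : x ∈ WB Φ) :
    g * x * g⁻¹ ∈ WB Φ := by
  obtain ⟨b, δ, a, γ, r, hb, ha, rfl⟩ := WB_cases hx
  rw [show ∀ w u v s : suG C ι, w * (u * (v * s)) * w⁻¹ = (w * u * w⁻¹) * ((w * v * w⁻¹) * (w * s * w⁻¹)) from
    fun w u v s => by group, h.conj_q1 hb, h.conj_q0 ha, h.conj_p]
  exact mul_mem (mem_WB_q1 (hb.scale1 _)) (mul_mem (mem_WB_q0 (ha.scale1 _)) (mem_WB_p _))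

variable (Φ) in
/-- The elements of the radical fixing `x₀`. -/
def R0 : Subgroup (suG C ι) where
  carrier := {y | y ∈ WB Φ ∧ app C y Φ.x0 = Φ.x0}
  one_mem' := ⟨one_mem _, app_one C _⟩
  mul_mem' := fun ha hb => ⟨mul_mem ha.1 hb.1, by rw [app_mul, hb.2, ha.2]⟩
  inv_mem' := fun ha => ⟨inv_mem ha.1, app_inv_eq C ha.2⟩

theorem app_comm_x0 {u v : suG C ι} (hu : u ∈ WB Φ) (hv : v ∈ WB Φ) :
    app C (u * v) Φ.x0 = app C (v * u) Φ.x0 := by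
  obtain ⟨a, b, e⟩ := WB_x0 hu
  obtain ⟨a', b', e'⟩ := WB_x0 hv
  obtain ⟨u0, u1⟩ := WB_fix hu
  obtain ⟨v0, v1⟩ := WB_fix hv
  rw [app_mul, app_mul, e, e', app_add, app_add, app_add, app_add, app_smul, app_smul, app_smul, app_smul,
    u0, u1, v0, v1, e, e']
  module

theorem commutator_mem_R0 {x y : suG C ι} (hx : x ∈ WB Φ) (hy : y ∈ WB Φ) : ⁅x, y⁆ ∈ R0 Φ := by
  refine ⟨?_, ?_⟩
  · rw [commutatorElement_def]
    exact mul_mem (mul_mem (mul_mem hx hy) (inv_mem hx)) (inv_mem hy)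
  rw [show ⁅x, y⁆ = x * y * (y * x)⁻¹ by rw [commutatorElement_def]; group,
    app_comm_x0 (mul_mem hx hy) (inv_mem (mul_mem hy hx)), app_mul, app_comm_x0 hx hy, app_inv_app]

variable (Φ) in
/-- The data: a central extension and `t` fixed by the involution. -/
structure SData (E : Type*) [Group E] where
  D : CExt E (suG C ι)
  t : F
  ht : C.σ t = t
  ht0 : t ≠ 0
  ht1 : t ≠ 1
  ht2 : t * t ≠ 1
  hh : suG C ι
  hhh : Tor Φ hh t t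
  hr : suG C ι
  hhr : Tor Φ hr 1 t
  hl : suG C ι
  hhl : Tor Φ hl t 1

namespace SData

variable (A : SData Φ E)

theorem m_cen_q0 {a γ : F} (hv : QV Φ a γ) (r : F) :
    pEl Φ (.inl 0) (.inr 1) r ∈ A.D.cen (qEl Φ (.inl 0) a γ) := by
  rw [A.D.mem_cen]
  refine A.D.cm_of_scale (fun s => pEl Φ (.inl 0) (.inr 1) s)
    (fun s s' => pEl_add (ne_of_ix (ix01' (k := 0))).2 s s') (fun s => (commute_PQ ix01' s hv).symm)
    (pEl_qEl_comm (by rw [A.hhr.app_inl.1, one_smul]) A.hhr.2 hv) (l := A.t⁻¹) (fun e => A.ht1 (by simpa using e))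
    (fun s => by rw [A.hhr.conj_m, map_one, one_mul, A.ht]) r

theorem p_cen_q0 {a γ : F} (hv : QV Φ a γ) (r : F) :
    pEl Φ (.inl 0) (.inl 1) r ∈ A.D.cen (qEl Φ (.inl 0) a γ) := by
  rw [A.D.mem_cen]
  exact A.D.cm_of_scale (fun s => pEl Φ (.inl 0) (.inl 1) s)
    (fun s s' => pEl_add (ne_of_ix (ix01 (k := 0))).2 s s') (fun s => (commute_PQ ix01 s hv).symm)
    (pEl_qEl_comm (by rw [A.hhr.app_inl.1, one_smul]) A.hhr.2 hv) A.ht1
    (fun s => by rw [A.hhr.conj_p, map_one, one_mul]) r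

theorem p_cen_q1 {a γ : F} (hv : QV Φ a γ) (r : F) :
    pEl Φ (.inl 0) (.inl 1) r ∈ A.D.cen (qEl Φ (.inl 1) a γ) := by
  rw [A.D.mem_cen]
  exact A.D.cm_of_scale (fun s => pEl Φ (.inl 0) (.inl 1) s)
    (fun s s' => pEl_add (ne_of_ix (ix01 (k := 0))).2 s s') (fun s => (commute_PQ_right ix01 s hv).symm)
    (pEl_qEl_comm (by rw [A.hhl.app_inl.2.1, one_smul]) A.hhl.2 hv) A.ht1
    (fun s => by rw [A.hhl.conj_p, A.ht, mul_one]) r

theorem exists_diff {γ : F} (h : QV Φ 0 γ) : ∃ x, γ = x - C.σ x := by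
  obtain ⟨θ, hθ⟩ := C.exists_trace_one
  refine ⟨θ * γ, ?_⟩
  rw [map_mul, qv_zero_iff.1 h]
  linear_combination -γ * hθ

theorem qv_diff (x : F) : QV Φ 0 (x - C.σ x) := qv_zero_iff.2 (by rw [map_sub, C.invol]; ring)

theorem long1_cen_q0 {a γ δ : F} (hv : QV Φ a γ) (hd : QV Φ 0 δ) :
    qEl Φ (.inl 1) 0 δ ∈ A.D.cen (qEl Φ (.inl 0) a γ) := by
  obtain ⟨x, rfl⟩ := exists_diff hd
  rw [A.D.mem_cen]
  refine A.D.cm_of_scale (fun s => qEl Φ (.inl 1) 0 (s - C.σ s)) (fun s s' => ?_) (fun s => ?_)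
    (pEl_qEl_comm (by rw [A.hhr.app_inl.1, one_smul]) A.hhr.2 hv) A.ht2 (fun s => ?_) x
  · rw [qEl_mul (qv_diff s) (qv_diff s'), map_add]
    congr 1 <;> ring
  · refine (pEl_qEl_comm ?_ ?_ hv).symm <;> rw [app_qEl (qv_diff s)] <;>
      simp [herm_vv, Φ.xv, SUPres.zero_ne_one']
  · rw [A.hhr.conj_q1 (qv_diff s), mul_zero, map_mul, map_mul, A.ht]
    congr 1
    ring

theorem long0_cen_q0 {a γ δ : F} (hv : QV Φ a γ) (hd : QV Φ 0 δ) :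
    qEl Φ (.inl 0) 0 δ ∈ A.D.cen (qEl Φ (.inl 0) a γ) := by
  obtain ⟨θ, hθ⟩ := C.exists_trace_one
  have e : qEl Φ (.inl 0) 0 δ =
      ⁅pEl Φ (.inl 0) (.inr 1) 1, pEl Φ (.inl 0) (.inl 1) (-δ * θ)⁆ := by
    rw [commutator_pEl (k := 0) SUPres.zero_ne_one', map_one, map_mul, map_neg, qv_zero_iff.1 hd]
    congr 1
    linear_combination -δ * hθ
  rw [e]
  exact A.D.commutator_mem_cen (A.m_cen_q0 hv _) (A.p_cen_q0 hv _)

theorem w_q {a γ : F} (hv : QV Φ a γ) :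
    lev Φ (w01 0) * qEl Φ (.inl 0) a γ * (lev Φ (w01 0))⁻¹ = qEl Φ (.inl 1) (-a) γ := by
  rw [conj_qEl' (isMono_lev (w01_mon (F := F) (k := 0))) (lev_w01_inl (k := 0)) hv]
  simp

theorem neg_qv {a γ : F} (hv : QV Φ a γ) : QV Φ (-a) γ := by
  unfold QV at *
  simpa using hv

theorem long1_cen_q1 {a γ δ : F} (hv : QV Φ a γ) (hd : QV Φ 0 δ) :
    qEl Φ (.inl 1) 0 δ ∈ A.D.cen (qEl Φ (.inl 1) a γ) := by
  have h := A.D.cm_conj_one (lev Φ (w01 0)) (A.D.mem_cen.1 (A.long0_cen_q0 (neg_qv hv) hd))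
  rw [w_q (neg_qv hv), w_q hd, neg_neg, neg_zero] at h
  exact A.D.mem_cen.2 h

theorem long0_cen_q1 {a γ δ : F} (hv : QV Φ a γ) (hd : QV Φ 0 δ) :
    qEl Φ (.inl 0) 0 δ ∈ A.D.cen (qEl Φ (.inl 1) a γ) := by
  obtain ⟨x, rfl⟩ := exists_diff hd
  rw [A.D.mem_cen]
  refine A.D.cm_of_scale (fun s => qEl Φ (.inl 0) 0 (s - C.σ s)) (fun s s' => ?_) (fun s => ?_)
    (pEl_qEl_comm (by rw [A.hhl.app_inl.2.1, one_smul]) A.hhl.2 hv) A.ht2 (fun s => ?_) x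
  · rw [qEl_mul (qv_diff s) (qv_diff s'), map_add]
    congr 1 <;> ring
  · refine (pEl_qEl_comm ?_ ?_ hv).symm <;> rw [app_qEl (qv_diff s)] <;>
      simp [herm_vv, Φ.xv, SUPres.zero_ne_one']
  · rw [A.hhl.conj_q0 (qv_diff s), mul_zero, map_mul, map_mul, A.ht]
    congr 1
    ring

theorem p_cen_p (s r : F) : pEl Φ (.inl 0) (.inl 1) r ∈ A.D.cen (pEl Φ (.inl 0) (.inl 1) s) := by
  obtain ⟨δ, hd, hd0⟩ : ∃ δ, QV Φ 0 δ ∧ δ ≠ 0 := by
    obtain ⟨c, hc, hc0⟩ := exists_skew_ne C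
    exact ⟨c, qv_zero_iff.2 hc, hc0⟩
  set X := pEl Φ (.inl 0) (.inl 1) s with hX
  set m := pEl Φ (.inl 0) (.inr 1) (-r / δ) with hm
  have hL1 : qEl Φ (.inl 1) 0 δ ∈ A.D.cen X := A.D.mem_cen_comm.1 (A.p_cen_q1 hd s)
  have hcen : ∀ δ', QV Φ 0 δ' → qEl Φ (.inl 0) 0 δ' ∈ A.D.cen X := fun δ' h =>
    A.D.mem_cen_comm.1 (A.p_cen_q0 h s)
  have ev : ⁅m, qEl Φ (.inl 1) 0 δ⁆ = qEl Φ (.inl 0) 0 (-r / δ * C.σ (-r / δ) * δ) * pEl Φ (.inl 0) (.inl 1) r := by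
    rw [hm, commutatorElement_def, conj_pq (k := 0) hd, mul_inv_cancel_right, mul_inv_cancel_right, mul_zero]
    congr 2
    field_simp
  have hq : QV Φ 0 (-r / δ * C.σ (-r / δ) * δ) := qv_zero_iff.2 (by
    rw [map_mul, map_mul, C.invol, qv_zero_iff.1 hd]; ring)
  -- the commutator with `m` is a long element at `+0`
  have hLimg : A.D.π (A.D.cm X m) = qEl Φ (.inl 0) 0 (-(-r / δ * C.σ s - s * C.σ (-r / δ))) := by
    rw [A.D.π_cm, ← commutatorElement_inv, hm, hX, commutator_pEl (k := 0) SUPres.zero_ne_one',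
      qEl_inv (qv_zero_iff.2 (by simp [C.invol]; ring))]
    congr 1
    · simp
    · simp [C.invol]; ring
  have hqL : QV Φ 0 (-(-r / δ * C.σ s - s * C.σ (-r / δ))) := qv_zero_iff.2 (by simp [C.invol]; ring)
  have hlong : ∀ {Y : suG C ι}, qEl Φ (.inl 0) 0 (-(-r / δ * C.σ s - s * C.σ (-r / δ))) ∈ A.D.cen Y →
      Commute (A.D.cm X m) (A.D.sl Y) := fun h =>
    (A.D.commute_of (A.D.π_sl _) hLimg (A.D.mem_cen.1 h)).symm
  have hc1 : Commute (A.D.cm X m) (A.D.sl (qEl Φ (.inl 1) 0 δ)) := hlong (A.long0_cen_q1 hd hqL)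
  have hc2 : Commute (A.D.cm X m) (A.D.sl m) :=
    hlong (A.D.mem_cen_comm.1 (A.m_cen_q0 hqL _))
  have hmem : ⁅qEl Φ (.inl 1) 0 δ, m⁆ ∈ A.D.cen X := by
    rw [A.D.mem_cen, A.D.cm_commutator (A.D.mem_cen.1 hL1) (by
      rw [commutatorElement_def]
      exact ((hc1.mul_right hc2).mul_right hc1.inv_right).mul_right hc2.inv_right),
      commutatorElement_eq_one_iff_commute]
    exact hc1.symm
  have := inv_mem hmem
  rw [commutatorElement_inv, ev] at this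
  have h2 := mul_mem (inv_mem (hcen _ hq)) this
  rwa [inv_mul_cancel_left] at h2

theorem R0_central {X Y : suG C ι} (hY : Y ∈ R0 Φ) (hX : X ∈ WB Φ) : A.D.cm X Y = 1 := by
  have hgen : ∀ Z : suG C ι, (∀ b δ, QV Φ b δ → qEl Φ (.inl 1) b δ ∈ A.D.cen Z) →
      (∀ a γ, QV Φ a γ → qEl Φ (.inl 0) a γ ∈ A.D.cen Z) →
      (∀ r, pEl Φ (.inl 0) (.inl 1) r ∈ A.D.cen Z) → Z ∈ A.D.cen X := by
    intro Z h1 h0 hp
    refine A.D.mem_cen_comm.1 ?_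
    obtain ⟨b, δ, a, γ, r, hb, ha, rfl⟩ := WB_cases hX
    exact mul_mem (h1 _ _ hb) (mul_mem (h0 _ _ ha) (hp r))
  obtain ⟨δ, γ, r, hd, hg, rfl⟩ := WB_fix_x0 hY.1 hY.2
  rw [← A.D.mem_cen]
  refine mul_mem ?_ (mul_mem ?_ ?_)
  · exact hgen _ (fun _ _ h => A.D.mem_cen_comm.1 (A.long1_cen_q1 h hd))
      (fun _ _ h => A.D.mem_cen_comm.1 (A.long1_cen_q0 h hd)) (fun r => A.p_cen_q1 hd r)
  · exact hgen _ (fun _ _ h => A.D.mem_cen_comm.1 (A.long0_cen_q1 h hg))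
      (fun _ _ h => A.D.mem_cen_comm.1 (A.long0_cen_q0 h hg)) (fun r => A.p_cen_q0 hg r)
  · exact hgen _ (fun _ _ h => A.D.mem_cen_comm.1 (A.p_cen_q1 h r))
      (fun _ _ h => A.D.mem_cen_comm.1 (A.p_cen_q0 h r)) (fun r' => A.p_cen_p r r')

/-- Lifts of `R0` commute with lifts of the radical. -/
theorem comm0 {x y : E} (hx : A.D.π x ∈ R0 Φ) (hy : A.D.π y ∈ WB Φ) : Commute x y :=
  (A.D.commute_of (rfl : A.D.π y = A.D.π y) rfl (A.R0_central hx hy)).symm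

/-- The lift of the scalar torus element. -/
noncomputable def hl' : E := A.D.sl A.hh

theorem tor_R0 {g : suG C ι} {a0 a1 : F} (hg : Tor Φ g a0 a1) {x : suG C ι} (hx : x ∈ R0 Φ) :
    g * x * g⁻¹ ∈ R0 Φ :=
  ⟨hg.norm_WB hx.1, by rw [app_mul, app_mul, app_inv_eq C hg.2, hx.2, hg.2]⟩

theorem comm_h_R0 {x : E} (hx : A.D.π x ∈ R0 Φ) : A.D.π ⁅A.hl', x⁆ ∈ R0 Φ := by
  rw [map_commutatorElement, hl', A.D.π_sl, commutatorElement_def]
  exact mul_mem (tor_R0 A.hhh hx) (inv_mem hx)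

/-- The complement over `R0`. -/
def K0 : Subgroup E where
  carrier := {k | ∃ x, A.D.π x ∈ R0 Φ ∧ k = ⁅A.hl', x⁆}
  one_mem' := ⟨1, by rw [map_one]; exact one_mem _, (commutatorElement_one_right _).symm⟩
  mul_mem' := by
    rintro _ _ ⟨x, hx, rfl⟩ ⟨y, hy, rfl⟩
    refine ⟨x * y, by rw [map_mul]; exact mul_mem hx hy, ?_⟩
    have hc := A.comm0 hx (A.comm_h_R0 hy).1
    rw [show ⁅A.hl', x * y⁆ = ⁅A.hl', x⁆ * (x * ⁅A.hl', y⁆ * x⁻¹) by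
      simp only [commutatorElement_def]; group, hc.eq, mul_inv_cancel_right]
  inv_mem' := by
    rintro _ ⟨x, hx, rfl⟩
    refine ⟨x⁻¹, by rw [map_inv]; exact inv_mem hx, ?_⟩
    have hc := A.comm0 hx (A.comm_h_R0 hx).1
    refine inv_eq_of_mul_eq_one_left ?_
    rw [show ⁅A.hl', x⁻¹⁆ = x⁻¹ * ⁅A.hl', x⁆⁻¹ * x by simp only [commutatorElement_def]; group,
      mul_assoc _ x, hc.eq]
    group

theorem K0_img {k : E} (hk : k ∈ A.K0) : A.D.π k ∈ R0 Φ := by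
  obtain ⟨x, hx, rfl⟩ := hk
  exact A.comm_h_R0 hx

theorem K0_inj {k : E} (hk : k ∈ A.K0) (h : A.D.π k = 1) : k = 1 := by
  obtain ⟨x, hx, rfl⟩ := hk
  rw [map_commutatorElement, hl', A.D.π_sl, commutatorElement_def, mul_inv_eq_one] at h
  obtain ⟨δ, γ, r, hd, hg, e⟩ := WB_fix_x0 hx.1 hx.2
  have htt : C.σ (A.t * A.t) = A.t * A.t := by rw [map_mul, A.ht]
  rw [e, show ∀ w u v s : suG C ι, w * (u * (v * s)) * w⁻¹ = (w * u * w⁻¹) * ((w * v * w⁻¹) * (w * s * w⁻¹)) from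
    fun w u v s => by group, A.hhh.conj_q1 hd, A.hhh.conj_q0 hg, A.hhh.conj_p, mul_zero, A.ht] at h
  obtain ⟨e1, e2, e3⟩ := long_inj (qv_zero_iff.2 (by rw [map_mul, htt, qv_zero_iff.1 hd, neg_mul]))
    (qv_zero_iff.2 (by rw [map_mul, htt, qv_zero_iff.1 hg, neg_mul])) hd hg h
  have hne : A.t * A.t - 1 ≠ 0 := sub_ne_zero.2 A.ht2
  have d0 : δ = 0 := (mul_eq_zero.1 (show δ * (A.t * A.t - 1) = 0 by linear_combination e1)).resolve_right hne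
  have g0 : γ = 0 := (mul_eq_zero.1 (show γ * (A.t * A.t - 1) = 0 by linear_combination e2)).resolve_right hne
  have r0 : r = 0 := (mul_eq_zero.1 (show r * (A.t * A.t - 1) = 0 by linear_combination e3)).resolve_right hne
  rw [d0, g0, r0, qEl_zero, qEl_zero, pEl_zero (ne_of_ix (ix01 (k := 0))).2, one_mul, one_mul] at e
  rw [commutatorElement_eq_one_iff_commute]
  exact (Subgroup.mem_center_iff.1 (A.D.central e) _ : Commute A.hl' x)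

theorem K0_onto {y : suG C ι} (hy : y ∈ R0 Φ) : ∃ k ∈ A.K0, A.D.π k = y := by
  obtain ⟨δ, γ, r, hd, hg, rfl⟩ := WB_fix_x0 hy.1 hy.2
  have hne : A.t * A.t - 1 ≠ 0 := sub_ne_zero.2 A.ht2
  have hσ : C.σ (A.t * A.t - 1) = A.t * A.t - 1 := by rw [map_sub, map_mul, A.ht, map_one]
  have key : ∀ {d}, QV Φ 0 d → QV Φ 0 (d / (A.t * A.t - 1)) := fun h =>
    qv_zero_iff.2 (by rw [map_div₀, hσ, qv_zero_iff.1 h, neg_div])
  have st : ∀ u ∈ R0 Φ, ∀ {v}, A.hh * u * A.hh⁻¹ = v * u → v ∈ A.K0.map A.D.π := fun u hu v e =>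
    ⟨⁅A.hl', A.D.sl u⁆, ⟨_, by rw [A.D.π_sl]; exact hu, rfl⟩, by
      rw [map_commutatorElement, hl', A.D.π_sl, A.D.π_sl, commutatorElement_def, e, mul_inv_cancel_right]⟩
  have scl : ∀ d : F, d / (A.t * A.t - 1) * (A.t * A.t) = d + d / (A.t * A.t - 1) := fun d => by
    linear_combination div_mul_cancel₀ d hne
  have qfix : ∀ (c : SI (0 + 2)) {d}, QV Φ 0 d → app C (qEl Φ c 0 d) Φ.x0 = Φ.x0 := fun c d h => by
    rw [app_qEl h]; simp [Φ.xv]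
  have h1 : qEl Φ (.inl 1) 0 δ ∈ A.K0.map A.D.π := by
    refine st _ ⟨mem_WB_q1 (key hd), qfix _ (key hd)⟩ ?_
    rw [A.hhh.conj_q1 (key hd), qEl_mul hd (key hd), A.ht]
    congr 1
    · ring
    · rw [scl]; ring
  have h0 : qEl Φ (.inl 0) 0 γ ∈ A.K0.map A.D.π := by
    refine st _ ⟨mem_WB_q0 (key hg), qfix _ (key hg)⟩ ?_
    rw [A.hhh.conj_q0 (key hg), qEl_mul hg (key hg), A.ht]
    congr 1
    · ring
    · rw [scl]; ring
  have hp : pEl Φ (.inl 0) (.inl 1) r ∈ A.K0.map A.D.π := by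
    refine st _ ⟨mem_WB_p (r / (A.t * A.t - 1)), pEl_x0 ix01 _⟩ ?_
    rw [A.hhh.conj_p, ← pEl_add (ne_of_ix (ix01 (k := 0))).2, A.ht, mul_comm, scl]
  exact mul_mem h1 (mul_mem h0 hp)

/-- Elements centralising `hh` and normalising `R0` normalise the complement. -/
theorem norm_K0 {g : E} (hc : Commute (A.D.π g) A.hh)
    (hn : ∀ x ∈ R0 Φ, A.D.π g * x * (A.D.π g)⁻¹ ∈ R0 Φ) {k : E} (hk : k ∈ A.K0) : g * k * g⁻¹ ∈ A.K0 := by
  obtain ⟨x, hx, rfl⟩ := hk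
  refine ⟨g * x * g⁻¹, by rw [map_mul, map_mul, map_inv]; exact hn _ hx, ?_⟩
  rw [show g * ⁅A.hl', x⁆ * g⁻¹ = ⁅g * A.hl' * g⁻¹, g * x * g⁻¹⁆ by simp only [commutatorElement_def]; group,
    A.D.cm_eq, A.D.cm_eq A.hl']
  congr 1
  rw [map_mul, map_mul, map_inv, hl', A.D.π_sl, hc.eq, mul_inv_cancel_right]

theorem decompose0 {x : E} (hx : A.D.π x ∈ R0 Φ) : ∃ k ∈ A.K0, ∃ z ∈ Subgroup.center E, x = k * z := by
  obtain ⟨k, hk, e⟩ := A.K0_onto hx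
  exact ⟨k, hk, k⁻¹ * x, A.D.center_of_eq e.symm, (mul_inv_cancel_left k x).symm⟩

theorem conj_R0_of {g : E} (hc : Commute (A.D.π g) A.hh)
    (hn : ∀ x ∈ R0 Φ, A.D.π g * x * (A.D.π g)⁻¹ ∈ R0 Φ) {L : E} (hL : A.D.π L ∈ R0 Φ) :
    ⁅g, L⁆ ∈ A.K0 := by
  obtain ⟨k, hk, z, hz, rfl⟩ := A.decompose0 hL
  have hzg : Commute g z := Subgroup.mem_center_iff.1 hz g
  rw [show ⁅g, k * z⁆ = g * k * (z * g⁻¹) * z⁻¹ * k⁻¹ by simp only [commutatorElement_def]; group,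
    ← hzg.inv_left.eq, show g * k * (g⁻¹ * z) * z⁻¹ * k⁻¹ = g * k * g⁻¹ * k⁻¹ by group]
  exact mul_mem (A.norm_K0 hc hn hk) (inv_mem hk)

theorem cm_R0 {X Y : suG C ι} (hX : X ∈ WB Φ) (hY : Y ∈ WB Φ) : A.D.π (A.D.cm X Y) ∈ R0 Φ := by
  rw [A.D.π_cm]; exact commutator_mem_R0 hX hY

theorem cm_add {X Y Y' : suG C ι} (hX : X ∈ WB Φ) (hY : Y ∈ WB Φ) (hY' : Y' ∈ WB Φ) :
    A.D.cm X (Y * Y') = A.D.cm X Y * A.D.cm X Y' := by
  rw [A.D.cm_mul_right, ← (A.comm0 (A.cm_R0 hX hY') (y := A.D.sl Y) (by rw [A.D.π_sl]; exact hY)).eq,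
    mul_inv_cancel_right]

/-- The elements pairing with `X` into the complement. -/
def pairK {X : suG C ι} (hX : X ∈ WB Φ) : Subgroup (suG C ι) where
  carrier := {Y | Y ∈ WB Φ ∧ A.D.cm X Y ∈ A.K0}
  one_mem' := ⟨one_mem _, by rw [A.D.cm_one_right]; exact one_mem _⟩
  mul_mem' := fun ha hb => ⟨mul_mem ha.1 hb.1, by rw [A.cm_add hX ha.1 hb.1]; exact mul_mem ha.2 hb.2⟩
  inv_mem' := by
    intro Y hY
    refine ⟨inv_mem hY.1, ?_⟩
    have e := A.cm_add hX hY.1 (inv_mem hY.1)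
    rw [mul_inv_cancel, A.D.cm_one_right] at e
    rw [eq_inv_of_mul_eq_one_right e.symm]
    exact inv_mem hY.2

theorem mem_pairK_R0 {X Y : suG C ι} (hX : X ∈ WB Φ) (hY : Y ∈ R0 Φ) : Y ∈ A.pairK hX :=
  ⟨hY.1, by rw [A.R0_central hY hX]; exact one_mem _⟩

theorem hr_comm : Commute A.hr A.hh := by
  refine Φ.ext_app (fun c => ?_) (by rw [app_mul, app_mul, A.hhh.2, A.hhr.2, A.hhh.2])
  rw [app_mul, app_mul, A.hhh.1, A.hhr.1, app_smul, app_smul, A.hhr.1, A.hhh.1, smul_smul, smul_smul, mul_comm]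

theorem pair_q0_q1 {a γ b δ : F} (ha : QV Φ a γ) (hb : QV Φ b δ) :
    qEl Φ (.inl 1) b δ ∈ A.pairK (mem_WB_q0 ha) := by
  set X := qEl Φ (.inl 0) a γ
  have hX : X ∈ WB Φ := mem_WB_q0 ha
  obtain ⟨θ, hθ⟩ := C.exists_trace_one
  obtain ⟨δ', hY'⟩ : ∃ δ', QV Φ (b / (A.t - 1)) δ' := ⟨-(θ * (b / (A.t - 1) * C.σ (b / (A.t - 1)) * eps Φ)), by
    unfold QV
    simp only [map_neg, map_mul, C.invol, σ_eps]
    linear_combination -(b / (A.t - 1) * C.σ (b / (A.t - 1)) * eps Φ) * hθ⟩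
  set Y' := qEl Φ (.inl 1) (b / (A.t - 1)) δ'
  have hY'm : Y' ∈ WB Φ := mem_WB_q1 hY'
  set Y1 := A.hr * Y' * A.hr⁻¹
  have hY1 : Y1 ∈ WB Φ := A.hhr.norm_WB hY'm
  -- the commutator of the torus element with `Y'` differs from the given element by a long one
  have hq : Y1 * Y'⁻¹ ∈ A.pairK hX := by
    refine ⟨mul_mem hY1 (inv_mem hY'm), ?_⟩
    have hL : A.D.π (A.D.cm X Y') ∈ R0 Φ := A.cm_R0 hX hY'm
    have e1 : A.D.cm X Y1 = A.D.sl A.hr * A.D.cm X Y' * (A.D.sl A.hr)⁻¹ := by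
      rw [A.D.conj_cm, A.D.π_sl]
      congr 1
      exact (mul_inv_eq_iff_eq_mul.2 (pEl_qEl_comm (by rw [A.hhr.app_inl.1, one_smul]) A.hhr.2 ha).eq).symm
    have e2 : A.D.cm X Y'⁻¹ = (A.D.cm X Y')⁻¹ := by
      have e := A.cm_add hX hY'm (inv_mem hY'm)
      rw [mul_inv_cancel, A.D.cm_one_right] at e
      exact eq_inv_of_mul_eq_one_right e.symm
    rw [A.cm_add hX hY1 (inv_mem hY'm), e1, e2, ← commutatorElement_def]
    refine A.conj_R0_of ?_ (fun x hx => ?_) hL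
    · rw [A.D.π_sl]; exact A.hr_comm
    · rw [A.D.π_sl]; exact tor_R0 A.hhr hx
  have hr0 : (Y1 * Y'⁻¹)⁻¹ * qEl Φ (.inl 1) b δ ∈ R0 Φ := by
    refine ⟨mul_mem (inv_mem (mul_mem hY1 (inv_mem hY'm))) (mem_WB_q1 hb), ?_⟩
    have h1 := hY'.scale1 A.t
    rw [show Y1 = qEl Φ (.inl 1) (C.σ A.t * (b / (A.t - 1))) (δ' * (A.t * C.σ A.t)) from A.hhr.conj_q1 hY',
      show Y'⁻¹ = _ from qEl_inv hY', qEl_mul h1 hY'.inv, qEl_inv (h1.mul hY'.inv),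
      qEl_mul (h1.mul hY'.inv).inv hb, app_qEl ((h1.mul hY'.inv).inv.mul hb)]
    have hz : -(C.σ A.t * (b / (A.t - 1)) + -(b / (A.t - 1))) + b = 0 := by
      have : A.t - 1 ≠ 0 := sub_ne_zero.2 A.ht1
      rw [A.ht]; field_simp; ring
    rw [hz]
    simp [Φ.xv]
  have := mul_mem hq (A.mem_pairK_R0 hX hr0)
  rwa [mul_inv_cancel_left] at this

theorem conj_R0_lev (M : SL2) {x : suG C ι} (hx : x ∈ R0 Φ) :
    lev Φ M * x * (lev Φ M)⁻¹ ∈ R0 Φ :=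
  ⟨(Subgroup.mem_normalizer_iff.1 (lev_norm_WB M) x).1 hx.1, by
    rw [app_mul, app_mul, app_inv_eq C (lev_x0 M), hx.2, lev_x0]⟩

theorem lev_comm_hh (M : SL2) : Commute (lev Φ M) A.hh := by
  have h : lev Φ M ∈ Subgroup.centralizer {A.hh} := by
    refine lev_induction (fun r => ?_) ?_ M
    · rw [Subgroup.mem_centralizer_singleton_iff, lev_tv01]
      have e := A.hhh.conj_m (-C.σ r)
      rw [A.ht, mul_inv_cancel₀ A.ht0, one_mul, mul_inv_eq_iff_eq_mul] at e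
      exact e.symm
    · rw [Subgroup.mem_centralizer_singleton_iff]
      refine Φ.ext_app (fun c => ?_) (by rw [app_mul, app_mul, A.hhh.2, lev_x0, A.hhh.2])
      have hw := w01_mon (F := F) (k := 0)
      rw [app_mul, app_mul, A.hhh.1, app_smul]
      rcases c with j | j
      · rw [lev_mon_inl hw, app_smul, A.hhh.1, smul_smul, smul_smul, mul_comm]
        congr 1
        simp [sc2, sc]
      · rw [lev_mon_inr hw, app_smul, A.hhh.1, smul_smul, smul_smul, mul_comm]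
        congr 1
        simp [sc2, sc]
  exact Subgroup.mem_centralizer_singleton_iff.1 h

theorem pair_q0_q0 {a γ b δ : F} (ha : QV Φ a γ) (hb : QV Φ b δ) :
    qEl Φ (.inl 0) b δ ∈ A.pairK (mem_WB_q0 ha) := by
  set X := qEl Φ (.inl 0) a γ
  have hX : X ∈ WB Φ := mem_WB_q0 ha
  set m := pEl Φ (.inl 0) (.inr 1) (-1 : F) with hm
  set B := qEl Φ (.inl 1) b δ
  have hB : B ∈ WB Φ := mem_WB_q1 hb
  have ev : ⁅m, B⁆ = qEl Φ (.inl 0) b δ * pEl Φ (.inl 0) (.inl 1) δ := by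
    rw [hm, commutatorElement_def, conj_pq (k := 0) hb, mul_inv_cancel_right, mul_inv_cancel_right]
    simp
  have hmB : ⁅m, B⁆ ∈ A.pairK hX := by
    refine ⟨by rw [ev]; exact mul_mem (mem_WB_q0 hb) (mem_WB_p _), ?_⟩
    obtain ⟨-, hK⟩ := A.pair_q0_q1 ha hb
    have hsl : A.D.π ⁅A.D.sl m, A.D.sl B⁆ ∈ WB Φ := by
      rw [map_commutatorElement, A.D.π_sl, A.D.π_sl, ev]; exact mul_mem (mem_WB_q0 hb) (mem_WB_p _)
    rw [A.D.cm_commutator (A.D.mem_cen.1 (A.m_cen_q0 ha _)) (A.comm0 (A.K0_img hK) hsl)]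
    have e : A.D.π (A.D.sl m) = lev Φ (tv 0 1 (1 : F)) := by rw [A.D.π_sl, lev_tv01, map_one]
    refine A.conj_R0_of ?_ (fun x hx => ?_) (A.K0_img hK)
    · rw [e]; exact A.lev_comm_hh _
    · rw [e]; exact conj_R0_lev _ hx
  have hp : pEl Φ (.inl 0) (.inl 1) δ ∈ A.pairK hX :=
    A.mem_pairK_R0 hX ⟨mem_WB_p _, pEl_x0 ix01 _⟩
  have := mul_mem hmB (inv_mem hp)
  rwa [ev, mul_inv_cancel_right] at this

variable (ρ : Matrix.SpecialLinearGroup (Fin (0 + 2)) F →* E) (hρ : ∀ M, A.D.π (ρ M) = lev Φ M)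

include ρ hρ in
theorem pair_q1_q1 {a γ b δ : F} (ha : QV Φ a γ) (hb : QV Φ b δ) :
    qEl Φ (.inl 1) b δ ∈ A.pairK (mem_WB_q1 ha) := by
  obtain ⟨-, hK⟩ := A.pair_q0_q0 (neg_qv ha) (neg_qv hb)
  refine ⟨mem_WB_q1 hb, ?_⟩
  have e := A.D.conj_cm (ρ (w01 0)) (qEl Φ (.inl 0) (-a) γ) (qEl Φ (.inl 0) (-b) δ)
  rw [hρ, w_q (neg_qv ha), w_q (neg_qv hb), neg_neg, neg_neg] at e
  rw [← e]
  exact A.norm_K0 (by rw [hρ]; exact A.lev_comm_hh _) (fun x hx => by rw [hρ]; exact conj_R0_lev _ hx) hK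

include ρ hρ in
theorem pair_all {X Y : suG C ι} (hX : X ∈ WB Φ) (hY : Y ∈ WB Φ) : A.D.cm X Y ∈ A.K0 := by
  have swap : ∀ {U V : suG C ι} (hU : U ∈ WB Φ) (hV : V ∈ WB Φ), V ∈ A.pairK hU → U ∈ A.pairK hV :=
    fun hU hV h => ⟨hU, by rw [← A.D.cm_swap]; exact inv_mem h.2⟩
  have hWB : ∀ {U : suG C ι} (hU : U ∈ WB Φ), (∀ b δ, QV Φ b δ → qEl Φ (.inl 1) b δ ∈ A.pairK hU) →
      (∀ a γ, QV Φ a γ → qEl Φ (.inl 0) a γ ∈ A.pairK hU) → ∀ V ∈ WB Φ, V ∈ A.pairK hU := by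
    intro U hU h1 h0 V hV
    obtain ⟨b, δ, a, γ, r, hb, ha, rfl⟩ := WB_cases hV
    exact mul_mem (h1 _ _ hb) (mul_mem (h0 _ _ ha) (A.mem_pairK_R0 hU ⟨mem_WB_p _, pEl_x0 ix01 _⟩))
  refine (hWB hX (fun b δ hb => swap (mem_WB_q1 hb) hX ?_) (fun a γ ha => swap (mem_WB_q0 ha) hX ?_) Y hY).2
  · exact hWB _ (fun _ _ h => A.pair_q1_q1 ρ hρ hb h)
      (fun _ _ h => swap (mem_WB_q0 h) _ (A.pair_q0_q1 h hb)) X hX
  · exact hWB _ (fun _ _ h => A.pair_q0_q1 ha h) (fun _ _ h => A.pair_q0_q0 ha h) X hX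

theorem comm_h_WB {x : E} (hx : A.D.π x ∈ WB Φ) : A.D.π ⁅A.hl', x⁆ ∈ WB Φ := by
  rw [map_commutatorElement, hl', A.D.π_sl, commutatorElement_def]
  exact mul_mem (A.hhh.norm_WB hx) (inv_mem hx)

include ρ hρ in
theorem comm_h_mul {x y : E} (hx : A.D.π x ∈ WB Φ) (hy : A.D.π y ∈ WB Φ) :
    ∃ k ∈ A.K0, ⁅A.hl', x * y⁆ = ⁅A.hl', x⁆ * ⁅A.hl', y⁆ * k := by
  have h2 := A.comm_h_WB hy
  refine ⟨⁅x, ⁅A.hl', y⁆⁆, by rw [A.D.cm_eq]; exact A.pair_all ρ hρ hx h2, ?_⟩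
  have hk : A.D.π ⁅x, ⁅A.hl', y⁆⁆ ∈ R0 Φ := by rw [map_commutatorElement]; exact commutator_mem_R0 hx h2
  rw [show ⁅A.hl', x * y⁆ = ⁅A.hl', x⁆ * (⁅x, ⁅A.hl', y⁆⁆ * ⁅A.hl', y⁆) by
    simp only [commutatorElement_def]; group, (A.comm0 hk h2).eq, mul_assoc]

include ρ hρ in
/-- The complement over the radical. -/
theorem exists_complement : ∃ K : Subgroup E, (∀ x ∈ K, A.D.π x ∈ WB Φ) ∧ (∀ x ∈ K, A.D.π x = 1 → x = 1) ∧
    (WB Φ ≤ K.map A.D.π) ∧ ∀ M, ∀ x ∈ K, ρ M * x * (ρ M)⁻¹ ∈ K := by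
  have hcl : ∀ {x y : E}, (∃ u, A.D.π u ∈ WB Φ ∧ ⁅A.hl', u⁆⁻¹ * x ∈ A.K0) →
      (∃ u, A.D.π u ∈ WB Φ ∧ ⁅A.hl', u⁆⁻¹ * y ∈ A.K0) → ∃ u, A.D.π u ∈ WB Φ ∧ ⁅A.hl', u⁆⁻¹ * (x * y) ∈ A.K0 := by
    rintro x y ⟨u, hu, hx⟩ ⟨v, hv, hy⟩
    refine ⟨u * v, by rw [map_mul]; exact mul_mem hu hv, ?_⟩
    obtain ⟨k, hk, e⟩ := A.comm_h_mul ρ hρ hu hv
    have hyW : A.D.π y ∈ WB Φ := by
      have := mul_mem (A.comm_h_WB hv) (A.K0_img hy).1
      rwa [← map_mul, mul_inv_cancel_left] at this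
    rw [e, show (⁅A.hl', u⁆ * ⁅A.hl', v⁆ * k)⁻¹ * (x * y) =
      k⁻¹ * (⁅A.hl', v⁆⁻¹ * ((⁅A.hl', u⁆⁻¹ * x) * y)) by group, (A.comm0 (A.K0_img hx) hyW).eq,
      ← mul_assoc ⁅A.hl', v⁆⁻¹]
    exact mul_mem (inv_mem hk) (mul_mem hy hx)
  let K : Subgroup E :=
    { carrier := {x | ∃ u, A.D.π u ∈ WB Φ ∧ ⁅A.hl', u⁆⁻¹ * x ∈ A.K0}
      one_mem' := ⟨1, by rw [map_one]; exact one_mem _, by simp⟩
      mul_mem' := hcl
      inv_mem' := by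
        rintro x ⟨u, hu, hx⟩
        refine ⟨u⁻¹, by rw [map_inv]; exact inv_mem hu, ?_⟩
        obtain ⟨k, hk, e⟩ := A.comm_h_mul ρ hρ hu (y := u⁻¹) (by rw [map_inv]; exact inv_mem hu)
        rw [mul_inv_cancel, commutatorElement_one_right] at e
        have hxW : A.D.π x ∈ WB Φ := by
          have := mul_mem (A.comm_h_WB hu) (A.K0_img hx).1
          rwa [← map_mul, mul_inv_cancel_left] at this
        have hcx := A.comm0 (A.K0_img hx) (y := x⁻¹) (by rw [map_inv]; exact inv_mem hxW)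
        rw [show ⁅A.hl', u⁻¹⁆⁻¹ = k * ⁅A.hl', u⁆ by
          rw [← mul_right_inj (⁅A.hl', u⁻¹⁆), mul_inv_cancel]
          have e' : ⁅A.hl', u⁻¹⁆ * k = ⁅A.hl', u⁆⁻¹ := by
            rw [eq_inv_iff_mul_eq_one]
            have := congrArg (fun z => ⁅A.hl', u⁆⁻¹ * z * ⁅A.hl', u⁆) e
            simpa [mul_assoc] using this.symm
          rw [← mul_assoc, e', inv_mul_cancel]]
        have e3 : ⁅A.hl', u⁆ * x⁻¹ = (⁅A.hl', u⁆⁻¹ * x)⁻¹ := by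
          rw [eq_inv_iff_mul_eq_one, mul_assoc _ x⁻¹, ← hcx.eq, mul_inv_cancel_right, mul_inv_cancel]
        rw [mul_assoc, e3]
        exact mul_mem hk (inv_mem hx) }
  refine ⟨K, ?_, ?_, ?_, ?_⟩
  · rintro x ⟨u, hu, hx⟩
    have := mul_mem (A.comm_h_WB hu) (A.K0_img hx).1
    rwa [← map_mul, mul_inv_cancel_left] at this
  · rintro x ⟨u, hu, hx⟩ h1
    have hR : A.D.π ⁅A.hl', u⁆ ∈ R0 Φ := by
      have := inv_mem (A.K0_img hx)
      rwa [map_mul, h1, mul_one, map_inv, inv_inv] at this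
    have hu0 : A.D.π u ∈ R0 Φ := by
      refine ⟨hu, ?_⟩
      obtain ⟨a, b, e⟩ := WB_x0 hu
      have h := hR.2
      rw [map_commutatorElement, hl', A.D.π_sl, commutatorElement_def, app_mul, app_mul, app_mul] at h
      obtain ⟨u0, u1⟩ := WB_fix hu
      have ei : app C (A.D.π u)⁻¹ Φ.x0 = Φ.x0 - a • Φ.v (.inl 0) - b • Φ.v (.inl 1) := app_inv_eq C (by
        rw [sub_eq_add_neg, sub_eq_add_neg, ← neg_smul, ← neg_smul, app_add, app_add, app_smul, app_smul, e, u0, u1]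
        module)
      have hi0 := app_inv_eq C A.hhh.2
      have it0 : app C A.hh⁻¹ (Φ.v (.inl 0)) = A.t⁻¹ • Φ.v (.inl 0) := app_inv_eq C (by
        rw [app_smul, A.hhh.app_inl.1, smul_smul, inv_mul_cancel₀ A.ht0, one_smul])
      have it1 : app C A.hh⁻¹ (Φ.v (.inl 1)) = A.t⁻¹ • Φ.v (.inl 1) := app_inv_eq C (by
        rw [app_smul, A.hhh.app_inl.2.1, smul_smul, inv_mul_cancel₀ A.ht0, one_smul])
      simp only [ei, sub_eq_add_neg, ← neg_smul, app_add, app_smul, hi0, it0, it1, e, u0, u1, A.hhh.2,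
        A.hhh.app_inl.1, A.hhh.app_inl.2.1, smul_smul] at h
      have e0 := congrArg (fun z => herm C z (Φ.v (.inr 0))) h
      have e1 := congrArg (fun z => herm C z (Φ.v (.inr 1))) h
      have hneg : ∀ x y : ι → F, herm C (-x) y = -herm C x y := fun x y => by
        rw [← neg_one_smul F x, herm_smul_left, neg_one_mul]
      simp [herm_add_left, hneg, herm_smul_left, herm_vv, Φ.xv, SUPres.zero_ne_one', mul_assoc, A.ht0] at e0 e1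
      have hne : A.t - 1 ≠ 0 := sub_ne_zero.2 A.ht1
      have a0 : a = 0 := (mul_eq_zero.1 (show a * (A.t - 1) = 0 by linear_combination e0)).resolve_right hne
      have b0 : b = 0 := (mul_eq_zero.1 (show b * (A.t - 1) = 0 by linear_combination e1)).resolve_right hne
      rw [e, a0, b0]; simp
    have := mul_mem (show ⁅A.hl', u⁆ ∈ A.K0 from ⟨u, hu0, rfl⟩) hx
    rw [mul_inv_cancel_left] at this
    exact A.K0_inj this h1
  · intro y hy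
    obtain ⟨θ, hθ⟩ := C.exists_trace_one
    have hne : A.t - 1 ≠ 0 := sub_ne_zero.2 A.ht1
    have hR0 : R0 Φ ≤ K.map A.D.π := fun v hv => by
      obtain ⟨k, hk, e⟩ := A.K0_onto hv
      exact ⟨k, ⟨1, by rw [map_one]; exact one_mem _, by simpa using hk⟩, e⟩
    have hq : ∀ (c : SI (0 + 2)) (s : F), app C A.hh (Φ.v c) = s • Φ.v c → C.σ s = A.t →
        (∀ {a γ}, QV Φ a γ → qEl Φ c a γ ∈ WB Φ) → ∀ {a γ}, QV Φ a γ → qEl Φ c a γ ∈ K.map A.D.π := by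
      intro c s hs hst hmem a γ h
      obtain ⟨γ', h'⟩ : ∃ γ', QV Φ (a / (A.t - 1)) γ' := ⟨-(θ * (a / (A.t - 1) * C.σ (a / (A.t - 1)) * eps Φ)), by
        unfold QV
        simp only [map_neg, map_mul, C.invol, σ_eps]
        linear_combination -(a / (A.t - 1) * C.σ (a / (A.t - 1)) * eps Φ) * hθ⟩
      set u := A.D.sl (qEl Φ c (a / (A.t - 1)) γ')
      have hu : A.D.π u ∈ WB Φ := by rw [A.D.π_sl]; exact hmem h'
      have h1 : A.D.π ⁅A.hl', u⁆ ∈ K.map A.D.π :=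
        ⟨⁅A.hl', u⁆, ⟨u, hu, by rw [inv_mul_cancel]; exact one_mem _⟩, rfl⟩
      rw [map_commutatorElement, hl', A.D.π_sl, A.D.π_sl, commutatorElement_def, conj_qEl0 hs A.hhh.2 h',
        qEl_inv h', qEl_mul (h'.scale1 s) h'.inv] at h1
      have hv2 := (h'.scale1 s).mul h'.inv
      have hz : C.σ s * (a / (A.t - 1)) + -(a / (A.t - 1)) = a := by rw [hst]; field_simp; ring
      rw [hz] at h1 hv2
      have hd : QV Φ 0 (γ - (_ : F)) := hv2.split h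
      have h2 : qEl Φ c 0 _ ∈ K.map A.D.π := hR0 ⟨hmem hd, by rw [app_qEl hd]; simp [Φ.xv]⟩
      have h3 := mul_mem h1 h2
      rw [qEl_mul hv2 hd] at h3
      convert h3 using 2
      · ring
      · ring
    obtain ⟨b, δ, a, γ, r, hb, ha, rfl⟩ := WB_cases hy
    exact mul_mem (hq _ _ A.hhh.app_inl.2.1 A.ht mem_WB_q1 hb)
      (mul_mem (hq _ _ A.hhh.app_inl.1 A.ht mem_WB_q0 ha) (hR0 ⟨mem_WB_p _, pEl_x0 ix01 _⟩))
  · rintro M x ⟨u, hu, hx⟩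
    refine ⟨ρ M * u * (ρ M)⁻¹, ?_, ?_⟩
    · rw [map_mul, map_mul, map_inv, hρ]
      exact (Subgroup.mem_normalizer_iff.1 (lev_norm_WB M) _).1 hu
    · have e : ⁅A.hl', ρ M * u * (ρ M)⁻¹⁆ = ρ M * ⁅A.hl', u⁆ * (ρ M)⁻¹ := by
        rw [show ρ M * ⁅A.hl', u⁆ * (ρ M)⁻¹ = ⁅ρ M * A.hl' * (ρ M)⁻¹, ρ M * u * (ρ M)⁻¹⁆ by
          simp only [commutatorElement_def]; group, A.D.cm_eq, A.D.cm_eq (ρ M * A.hl' * (ρ M)⁻¹)]
        congr 1
        rw [map_mul, map_mul, map_inv, hρ, hl', A.D.π_sl, (A.lev_comm_hh M).eq, mul_inv_cancel_right]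
      rw [e, show (ρ M * ⁅A.hl', u⁆ * (ρ M)⁻¹)⁻¹ * (ρ M * x * (ρ M)⁻¹) =
        ρ M * (⁅A.hl', u⁆⁻¹ * x) * (ρ M)⁻¹ by group]
      exact A.norm_K0 (by rw [hρ]; exact A.lev_comm_hh _) (fun y hy => by rw [hρ]; exact conj_R0_lev _ hy) hx

end SData

end CfsgLib.MultPSU
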