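import Cfsg.Agent.MultPSU.ThreeTools
import Cfsg.Agent.FusionSub.PSUThree
import Cfsg.Agent.SchurBN.SL2Lift
import Cfsg.Agent.SUThreeUnipotent.Scalars

/-!
# The block `GU₂(q)` of `SU₃(q)`

Primes prime to `p (q² - q + 1)` do not divide the multiplier: the derived group of the preimage of
`GU₂(q)` lies in the lift of `SL₂(q)`.
-/

set_option autoImplicit false
set_option linter.style.haveILetI false

namespace CfsgLib.MultPSU.Three

open Matrix CfsgLib.FusionSub
open CfsgLib.SchurBN (IsPEl)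
open CfsgLib.Chevalley.RankOneRel (uMat vMat)
open scoped MatrixGroups commutatorElement

universe u

variable {F : Type u} [Field F] [Fintype F] {q : ℕ}

theorem embSU_injective (hF : Fintype.card F = q ^ 2) :
    Function.Injective (embSU (F := F) hF) := by
  intro g h e
  have e' : (embThree g.1).1 = (embThree h.1).1 :=
    congrArg (fun x : Cfsg.SU 3 F q => x.1.1) e
  apply Subtype.ext
  apply Units.ext
  rw [coe_embThree, coe_embThree] at e'
  ext i j
  have := congrFun (congrFun e' i.castSucc) j.castSucc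
  fin_cases i <;> fin_cases j <;> simpa using this

/-- The elements of norm one are generated by one element; it gives a splitting of the determinant. -/
theorem exists_det_gen (hF : Fintype.card F = q ^ 2) :
    ∃ d : Cfsg.GU 2 F q, ∀ g : Cfsg.GU 2 F q, ∃ (n : ℤ) (s : Cfsg.SU 2 F q),
      g = GUTwo.inc s * d ^ n := by
  obtain ⟨⟨ζ, hζ⟩, hgen⟩ := IsCyclic.exists_generator (α := GUTwo.normOne F q)
  refine ⟨⟨GLTwo.Δ (ζ, 1), GUTwo.Δ_mem hF hζ (one_mem _)⟩, fun g => ?_⟩
  obtain ⟨n, hn⟩ := Subgroup.mem_zpowers_iff.1 (hgen ⟨_, GUTwo.det_mem_normOne hF g⟩)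
  have hn' : ζ ^ n = Matrix.GeneralLinearGroup.det g.1 := by
    simpa using congrArg Subtype.val hn
  obtain ⟨s, hs⟩ := GUTwo.exists_inc_of_det
    (g := g * (⟨GLTwo.Δ (ζ, 1), GUTwo.Δ_mem hF hζ (one_mem _)⟩ : Cfsg.GU 2 F q) ^ (-n)) (by
    have hd : Matrix.GeneralLinearGroup.det (GLTwo.Δ (ζ, 1)) = ζ := by
      apply Units.ext
      rw [Matrix.GeneralLinearGroup.val_det_apply, GLTwo.coe_Δ, Matrix.det_fin_two_of]
      simp
    rw [Subgroup.coe_mul, SubgroupClass.coe_zpow, map_mul, map_zpow, hd, ← hn', _root_.zpow_neg,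
      mul_inv_cancel])
  exact ⟨n, s, by rw [hs, mul_assoc, ← _root_.zpow_add, neg_add_cancel, zpow_zero, mul_one]⟩

/-- The primes prime to `p (q² - q + 1)`. -/
theorem false_levi {E : Type u} [Group E] [Finite E] {l p : ℕ} [Fact p.Prime] [CharP F p]
    (hF : Fintype.card F = q ^ 2) (D : Cov E (Cfsg.SU 3 F q) l) (hlp : l ≠ p)
    (hl : ¬ l ∣ q ^ 2 * (q ^ 2 - q + 1)) : False := by
  classical
  obtain ⟨C, hC⟩ := CfsgLib.RepBounds.Unit.exists_conjField q hF
  let K := ↥(CfsgLib.SUThreeUnipotent.fixField C)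
  letI : Fintype K := Fintype.ofFinite _
  have hK : Fintype.card K = q := by
    rw [← Nat.card_eq_fintype_card, CfsgLib.SUThreeUnipotent.card_fixField, hC]
  haveI : CharP K p := (RingHom.charP_iff _ (CfsgLib.SUThreeUnipotent.fixField C).subtype.injective p).2 inferInstance
  obtain ⟨e⟩ := CfsgLib.Forms4.nonempty_SU_two_equiv hF hK
  let f : SL(2, K) →* Cfsg.SU 3 F q := (embSU hF).comp (GUTwo.inc.comp e.symm.toMonoidHom)
  have hfinj : Function.Injective f :=
    (embSU_injective hF).comp (GUTwo.inc_injective.comp e.symm.injective)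
  have hP : SchurBN.PrimeToP D.π p := ⟨D.central, by
    rw [D.card_ker]; exact (Nat.coprime_primes Fact.out D.prime).2 hlp.symm⟩
  obtain ⟨ψ, hψ⟩ := SchurBN.exists_lift_sl2 hP f
    (by rw [MonoidHom.range_eq_top.2 D.surj]; exact le_top)
  have hψ' : ∀ A, D.π (ψ A) = f A := fun A => DFunLike.congr_fun hψ A
  set X := (embSU (F := F) hF).range
  set H := X.comap D.π
  obtain ⟨d, hd⟩ := exists_det_gen hF
  obtain ⟨dh, hdh⟩ := D.surj (embSU hF d)
  have hdH : dh ∈ H := ⟨d, hdh.symm⟩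
  have hnorm : ∀ h ∈ H, ∀ x ∈ ψ.range, h * x * h⁻¹ ∈ ψ.range := by
    intro h hh
    obtain ⟨g, hg⟩ : D.π h ∈ X := hh
    have key : ∀ s : SL(2, K), IsPEl p s → h * ψ s * h⁻¹ ∈ ψ.range := by
      intro s hs
      obtain ⟨b, hb⟩ := GUTwo.exists_inc_of_det (g := g * GUTwo.inc (e.symm s) * g⁻¹) (by
        have hdet : ∀ a : Cfsg.SU 2 F q, Matrix.GeneralLinearGroup.det (GUTwo.inc a).1 = 1 := fun a =>
          Units.ext ((Matrix.GeneralLinearGroup.val_det_apply _).trans a.1.2)
        rw [Subgroup.coe_mul, Subgroup.coe_mul, Subgroup.coe_inv, map_mul, map_mul, map_inv, hdet,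
          mul_one, mul_inv_cancel])
      have hfb : f (e b) = D.π (h * ψ s * h⁻¹) := by
        rw [map_mul, map_mul, map_inv, hψ', ← hg]
        show embSU hF (GUTwo.inc (e.symm (e b))) = _
        rw [e.symm_apply_apply, hb, map_mul, map_mul, map_inv]
        rfl
      have hp' : IsPEl p (e b) := by
        obtain ⟨a, ha⟩ := hs
        refine ⟨a, hfinj ?_⟩
        rw [map_pow, hfb, ← map_pow, conj_pow, ← map_pow, ha, map_one, mul_one, mul_inv_cancel,
          map_one, map_one]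
      exact ⟨e b, hP.unique (by rw [hψ', hfb]) (hp'.map ψ) ((hs.map ψ).conj h)⟩
    have htop : (ψ.range.comap (MulAut.conj h).toMonoidHom).comap ψ = ⊤ :=
      SchurBN.sl2_top_of_mem (fun t => key _ (SchurBN.isPEl_uMat p t))
        (fun t => key _ (SchurBN.isPEl_vMat p t))
    rintro _ ⟨A, rfl⟩
    exact (htop ▸ Subgroup.mem_top A : A ∈ (ψ.range.comap (MulAut.conj h).toMonoidHom).comap ψ)
  refine D.false_of_derived X ?_ ψ.range ?_ ?_
  · refine not_dvd_index (c := Nat.card (Cfsg.GU 2 F q)) ?_ ?_ hl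
    · have h2 : Nat.card (Cfsg.GU 2 F q) = q * (q + 1) * (q ^ 2 - 1) := by
        rw [CfsgLib.Forms.card_GU hF]
        simp [Finset.sum_range_succ, Finset.prod_range_succ, CfsgLib.Forms.u, mul_assoc]
      have hq2 : 1 < q ^ 2 := hF ▸ Fintype.one_lt_card
      have e2 : q ^ 2 - 1 = (q + 1) * (q - 1) := by rw [← Nat.sq_sub_sq, one_pow]
      rw [card_SU_three hF, h2, e2]
      ring
    · exact (Nat.card_congr (MonoidHom.ofInjective (embSU_injective hF)).toEquiv).dvd
  · refine commutator_le_of_decomp (W := D.π.ker ⊔ Subgroup.zpowers dh) ?_ (D.comm_sup_zpowers dh)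
      (sup_le ?_ (Subgroup.zpowers_le.2 hdH)) ?_
    · intro h hh
      rw [Subgroup.mem_normalizer_iff]
      refine fun x => ⟨hnorm h hh x, fun hx => ?_⟩
      have := hnorm h⁻¹ (inv_mem hh) _ hx
      simpa [mul_assoc] using this
    · intro k hk
      show D.π k ∈ X
      rw [MonoidHom.mem_ker.1 hk]
      exact one_mem _
    · intro a ha
      obtain ⟨g, hg⟩ : D.π a ∈ X := ha
      obtain ⟨n, s, rfl⟩ := hd g
      refine ⟨ψ (e s), ⟨_, rfl⟩, (ψ (e s))⁻¹ * a, ?_, by rw [mul_inv_cancel_left]⟩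
      rw [show (ψ (e s))⁻¹ * a = ((ψ (e s))⁻¹ * a * (dh ^ n)⁻¹) * dh ^ n by group]
      refine mul_mem (Subgroup.mem_sup_left ?_) (Subgroup.mem_sup_right ⟨n, rfl⟩)
      rw [MonoidHom.mem_ker, map_mul, map_mul, map_inv, map_inv, map_zpow, hdh, hψ', ← hg, map_mul,
        map_zpow]
      show (embSU hF (GUTwo.inc (e.symm (e s))))⁻¹ * _ * _ = 1
      rw [e.symm_apply_apply, inv_mul_cancel_left, mul_inv_cancel]
  · rintro _ ⟨A, rfl⟩ hA
    rw [hψ'] at hA
    rw [show A = 1 from hfinj (hA.trans (map_one f).symm), map_one]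

end CfsgLib.MultPSU.Three
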