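import Cfsg.Agent.MultPSU.Lift
import Cfsg.Agent.Forms4.UnitaryCenter
import Cfsg.Agent.Forms.UnitaryOrder

/-!
# Tools for the multiplier of `SU₃(q)`

A subgroup of index prime to a central kernel element kills it once the derived subgroup of its
preimage meets the kernel trivially; the order of `SU₃(q)`.
-/

set_option autoImplicit false
set_option linter.style.haveILetI false

namespace CfsgLib.MultPSU.Three

open scoped commutatorElement

section Transfer

variable {E G : Type*} [Group E] [Group G] [Finite E]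

/-- Data: a perfect central extension with a kernel of prime order. -/
structure Cov (E G : Type*) [Group E] [Group G] (l : ℕ) where
  π : E →* G
  surj : Function.Surjective π
  central : π.ker ≤ Subgroup.center E
  perfect : commutator E = ⊤
  prime : l.Prime
  card_ker : Nat.card π.ker = l

variable {l : ℕ}

/-- A subgroup of index prime to `l` cannot lift with a derived group missing the kernel. -/
theorem Cov.false_of_derived (D : Cov E G l) (X : Subgroup G) (hX : ¬ l ∣ X.index) (H' : Subgroup E)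
    (hd : ⁅X.comap D.π, X.comap D.π⁆ ≤ H') (hinj : ∀ x ∈ H', D.π x = 1 → x = 1) : False := by
  haveI := Fact.mk D.prime
  obtain ⟨⟨z, hz⟩, hne⟩ : ∃ z : D.π.ker, z ≠ 1 := by
    haveI : Nontrivial D.π.ker :=
      Finite.one_lt_card_iff_nontrivial.1 (by rw [D.card_ker]; exact D.prime.one_lt)
    exact exists_ne 1
  have hord : orderOf z ∣ l := by
    rw [← D.card_ker, ← Subgroup.orderOf_mk (a := z) hz]
    exact orderOf_dvd_natCard _
  have h1 : z ∈ ⁅X.comap D.π, X.comap D.π⁆ := by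
    refine Schur.mem_commutator_of_index_coprime _ (D.central hz) (D.perfect ▸ Subgroup.mem_top z) ?_
    rw [Subgroup.index_comap_of_surjective _ D.surj]
    exact Nat.Coprime.coprime_dvd_left hord (D.prime.coprime_iff_not_dvd.2 hX)
  exact hne (Subtype.ext (hinj z (hd h1) hz))

/-- Elements of a preimage differing from a subgroup by an abelian group normalising it. -/
theorem commutator_le_of_decomp {H L W : Subgroup E} (hn : H ≤ Subgroup.normalizer (L : Set E))
    (hW : ∀ a ∈ W, ∀ b ∈ W, Commute a b) (hWH : W ≤ H) (hd : ∀ a ∈ H, ∃ l ∈ L, ∃ w ∈ W, a = l * w) :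
    ⁅H, H⁆ ≤ L := by
  rw [Subgroup.commutator_le]
  intro a ha b hb
  obtain ⟨l, hl, w, hw, rfl⟩ := hd a ha
  obtain ⟨l', hl', w', hw', rfl⟩ := hd b hb
  have e : ⁅l * w, l' * w'⁆ = l * (w * l' * w⁻¹) * ⁅w, w'⁆ * (w' * l⁻¹ * w'⁻¹) * l'⁻¹ := by
    simp only [commutatorElement_def]; group
  rw [e, commutatorElement_eq_one_iff_commute.2 (hW w hw w' hw'), mul_one]
  refine mul_mem (mul_mem (mul_mem hl ?_) ?_) (inv_mem hl')
  · exact (Subgroup.mem_normalizer_iff.1 (hn (hWH hw)) l').1 hl'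
  · exact (Subgroup.mem_normalizer_iff.1 (hn (hWH hw')) l⁻¹).1 (inv_mem hl)

/-- An element and the kernel generate an abelian group. -/
theorem Cov.comm_sup_zpowers (D : Cov E G l) (d : E) :
    ∀ a ∈ D.π.ker ⊔ Subgroup.zpowers d, ∀ b ∈ D.π.ker ⊔ Subgroup.zpowers d, Commute a b := by
  haveI : (D.π.ker).Normal := inferInstance
  intro a ha b hb
  obtain ⟨k, hk, _, ⟨i, rfl⟩, rfl⟩ := Subgroup.mem_sup_of_normal_left.1 ha
  obtain ⟨k', hk', _, ⟨j, rfl⟩, rfl⟩ := Subgroup.mem_sup_of_normal_left.1 hb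
  have c : ∀ {u}, u ∈ D.π.ker → ∀ v, Commute v u := fun hu v => Subgroup.mem_center_iff.1 (D.central hu) v
  exact ((c hk' k).mul_right (c hk _).symm).mul_left
    ((c hk' _).mul_right ((Commute.refl d).zpow_zpow i j))

end Transfer

theorem not_dvd_index {G : Type*} [Group G] [Finite G] {X : Subgroup G} {l c m : ℕ}
    (hG : Nat.card G = c * m) (hX : c ∣ Nat.card X) (hm : ¬ l ∣ m) : ¬ l ∣ X.index := by
  intro h
  refine hm (h.trans ?_)
  obtain ⟨j, hj⟩ := hX
  have h2 := X.index_mul_card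
  rw [hG, hj] at h2
  have hc : 0 < c := Nat.pos_of_mul_pos_right (hj ▸ Nat.card_pos : 0 < c * j)
  exact ⟨j, Nat.eq_of_mul_eq_mul_left hc (by rw [← h2]; ring)⟩

variable {F : Type*} [Field F] [Fintype F] {q : ℕ}

/-- `|SU₃(q)|`. -/
theorem card_SU_three (hF : Fintype.card F = q ^ 2) :
    Nat.card (Cfsg.SU 3 F q) = q ^ 3 * (q + 1) ^ 2 * ((q - 1) * (q ^ 2 - q + 1)) := by
  have h1 := CfsgLib.Forms4.card_SU_mul_GU hF (n := 3) (by norm_num)
  rw [CfsgLib.Forms.card_GU hF] at h1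
  simp [Finset.sum_range_succ, Finset.prod_range_succ, CfsgLib.Forms.u] at h1
  rw [if_neg (by decide)] at h1
  have hq2 : 1 < q ^ 2 := hF ▸ Fintype.one_lt_card
  obtain ⟨k, rfl⟩ : ∃ k, q = k + 1 := ⟨q - 1, by rcases q with _ | q <;> simp at *⟩
  apply Nat.eq_of_mul_eq_mul_left (show 0 < k + 1 + 1 by omega)
  rw [h1]
  have e1 : (k + 1) ^ 2 - 1 = k * (k + 2) := Nat.sub_eq_of_eq_add (by ring)
  have e2 : (k + 1) ^ 2 - (k + 1) = k * (k + 1) := Nat.sub_eq_of_eq_add (by ring)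
  rw [e1, e2, Nat.add_sub_cancel]
  ring

/-- The prime divisors shared by `q ^ 2 - q + 1` and `q (q² - 1)`. -/
theorem eq_three_of_dvd {l : ℕ} (hl : l.Prime) (h : l ∣ q ^ 2 - q + 1) (hq : 1 ≤ q)
    (h' : l ∣ q ^ 3 * (q + 1) ^ 2 * (q - 1)) : l = 3 ∧ 3 ∣ q + 1 := by
  obtain ⟨k, rfl⟩ : ∃ k, q = k + 1 := ⟨q - 1, by omega⟩
  rw [show (k + 1) ^ 2 - (k + 1) = k * (k + 1) from Nat.sub_eq_of_eq_add (by ring)] at h
  have h1 : ¬ l ∣ k + 1 := fun h2 =>
    hl.not_dvd_one ((Nat.dvd_add_right (Dvd.dvd.mul_left h2 k)).1 h)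
  have h2 : ¬ l ∣ k := fun h2 => hl.not_dvd_one ((Nat.dvd_add_right (Dvd.dvd.mul_right h2 _)).1 h)
  rw [Nat.add_sub_cancel] at h'
  rcases (Nat.Prime.dvd_mul hl).1 h' with h3 | h3
  · rcases (Nat.Prime.dvd_mul hl).1 h3 with h4 | h4
    · exact absurd (hl.dvd_of_dvd_pow h4) h1
    · have h5 := hl.dvd_of_dvd_pow h4
      have h6 : l ∣ 3 := by
        have e : k * (k + 1) + 1 + (k + 1 + 1) = k * (k + 1 + 1) + 3 := by ring
        exact (Nat.dvd_add_right (Dvd.dvd.mul_left h5 k)).1 (e ▸ Nat.dvd_add h h5)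
      obtain rfl := (Nat.prime_dvd_prime_iff_eq hl Nat.prime_three).1 h6
      exact ⟨rfl, h5⟩
  · exact absurd h3 h2

end CfsgLib.MultPSU.Three
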