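import Cfsg.Agent.MultPSU.SLLift
import Cfsg.Agent.SUPres.NLayer

/-!
# Root elements of `SU_n(q)` as `p`-elements, and the unipotent group of two indices
-/

set_option autoImplicit false
set_option linter.unusedSectionVars false
set_option linter.unusedSimpArgs false

namespace CfsgLib.MultPSU

open Matrix CfsgLib.RepBounds.Unit CfsgLib.SUThreeUnipotent CfsgLib.SUTwoGen CfsgLib.SUPres
open scoped commutatorElement

variable {F : Type*} [Field F] [Fintype F] {C : ConjField F} {ι : Type*} [Fintype ι] [DecidableEq ι]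

section General

variable {m : ℕ} {Φ : PFrame C m ι}

theorem pEl_qEl_comm {g : suG C ι} {c : SI m} (h : app C g (Φ.v c) = Φ.v c)
    (hx : app C g Φ.x0 = Φ.x0) {a γ : F} (hv : QV Φ a γ) : Commute g (qEl Φ c a γ) := by
  have e := conj_qEl (s := 1) (ξ := 1) (h.trans (one_smul F _).symm) (hx.trans (one_smul F _).symm) hv
  simp only [map_one, one_mul, mul_one] at e
  exact mul_inv_eq_iff_eq_mul.1 e

theorem app_pEl_fix {c d : SI m} (h : d ≠ c.swap) (r : F) {x : ι → F} (h1 : herm C x (Φ.v c) = 0)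
    (h2 : herm C x (Φ.v d) = 0) : app C (pEl Φ c d r) x = x := by
  rw [app_pEl h, h1, h2]; simp

theorem commute_PQ {c d : SI m} (h : ix c ≠ ix d) (r : F) {a γ : F} (hv : QV Φ a γ) :
    Commute (pEl Φ c d r) (qEl Φ c a γ) :=
  pEl_qEl_comm (app_pEl_fix (ne_of_ix h).2 r (Φ.self c) (herm_v0 Φ (ne_of_ix h).2))
    (app_pEl_fix (ne_of_ix h).2 r (Φ.xv _) (Φ.xv _)) hv

theorem commute_PQ_right {c d : SI m} (h : ix c ≠ ix d) (r : F) {a γ : F} (hv : QV Φ a γ) :
    Commute (pEl Φ c d r) (qEl Φ d a γ) := by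
  rw [pEl_symm (ne_of_ix h).2]
  exact commute_PQ h.symm _ hv

theorem commute_pEl_pEl {c d : SI m} (h : ix c ≠ ix d) (r s : F) :
    Commute (pEl Φ c d r) (pEl Φ c d s) := by
  rw [commute_iff_eq, ← pEl_add (ne_of_ix h).2, ← pEl_add (ne_of_ix h).2, add_comm]

theorem qEl_long_pow {c : SI m} {γ : F} (h : QV Φ 0 γ) (n : ℕ) :
    QV Φ 0 ((n : F) * γ) ∧ qEl Φ c 0 γ ^ n = qEl Φ c 0 ((n : F) * γ) := by
  induction n with
  | zero => rw [Nat.cast_zero, zero_mul, pow_zero, qEl_zero]; exact ⟨QV.zero, rfl⟩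
  | succ n ih =>
    obtain ⟨hn, e⟩ := ih
    refine ⟨?_, ?_⟩
    · rw [qv_zero_iff] at hn h ⊢
      push_cast
      rw [add_mul, one_mul, map_add, hn, h]; ring
    · rw [pow_succ, e, qEl_mul hn h]
      congr 1
      · ring
      · push_cast; ring

theorem qEl_pow {c : SI m} {a γ : F} (h : QV Φ a γ) (n : ℕ) :
    ∃ δ, QV Φ ((n : F) * a) δ ∧ qEl Φ c a γ ^ n = qEl Φ c ((n : F) * a) δ := by
  induction n with
  | zero => exact ⟨0, by rw [Nat.cast_zero, zero_mul]; exact ⟨QV.zero, by rw [pow_zero, qEl_zero]⟩⟩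
  | succ n ih =>
    obtain ⟨δ, hd, e⟩ := ih
    have e' : ((n + 1 : ℕ) : F) * a = (n : F) * a + a := by push_cast; ring
    rw [e', pow_succ, e, qEl_mul hd h]
    exact ⟨_, hd.mul h, rfl⟩

variable {p : ℕ} [CharP F p]

theorem pEl_pEl {c d : SI m} (h : d ≠ c.swap) (r : F) : PEl p (pEl Φ c d r) := by
  refine pEl_of_pow ?_
  have key : ∀ n : ℕ, pEl Φ c d r ^ n = pEl Φ c d ((n : F) * r) := by
    intro n
    induction n with
    | zero => rw [pow_zero, Nat.cast_zero, zero_mul, pEl_zero h]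
    | succ n ih => rw [pow_succ, ih, ← pEl_add h, Nat.cast_succ, add_mul, one_mul]
  rw [key, CharP.cast_eq_zero, zero_mul, pEl_zero h]

theorem pEl_qEl {c : SI m} {a γ : F} (h : QV Φ a γ) : PEl p (qEl Φ c a γ) := by
  refine ⟨2, ?_⟩
  obtain ⟨δ, hd, e⟩ := qEl_pow (c := c) h p
  rw [CharP.cast_eq_zero, zero_mul] at hd e
  rw [pow_two, pow_mul, e, (qEl_long_pow hd p).2, CharP.cast_eq_zero, zero_mul, qEl_zero]

theorem isPGroup_of_pEl {S : Subgroup (suG C ι)} (h : ∀ x ∈ S, PEl p x) : IsPGroup p S := by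
  rintro ⟨x, hx⟩
  obtain ⟨a, ha⟩ := h x hx
  exact ⟨a, Subtype.ext (by simpa using ha)⟩

variable (Φ) in
/-- The root group of one index. -/
def QS (c : SI m) : Subgroup (suG C ι) where
  carrier := {x | ∃ a γ, QV Φ a γ ∧ x = qEl Φ c a γ}
  one_mem' := ⟨0, 0, QV.zero, (qEl_zero c).symm⟩
  mul_mem' := by
    rintro _ _ ⟨a, γ, h, rfl⟩ ⟨a', γ', h', rfl⟩
    exact ⟨_, _, h.mul h', qEl_mul h h'⟩
  inv_mem' := by
    rintro _ ⟨a, γ, h, rfl⟩
    exact ⟨_, _, h.inv, qEl_inv h⟩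

theorem qEl_mem_QS {c : SI m} {a γ : F} (h : QV Φ a γ) : qEl Φ c a γ ∈ QS Φ c := ⟨a, γ, h, rfl⟩

theorem isPGroup_QS (c : SI m) : IsPGroup p (QS Φ c) :=
  isPGroup_of_pEl fun x hx => by obtain ⟨a, γ, h, rfl⟩ := hx; exact pEl_qEl h

variable (Φ) in
/-- The root group of two indices. -/
def PS (c d : SI m) (h : ix c ≠ ix d) : Subgroup (suG C ι) where
  carrier := {x | ∃ r, x = pEl Φ c d r}
  one_mem' := ⟨0, (pEl_zero (ne_of_ix h).2).symm⟩
  mul_mem' := by
    rintro _ _ ⟨r, rfl⟩ ⟨s, rfl⟩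
    exact ⟨r + s, (pEl_add (ne_of_ix h).2 r s).symm⟩
  inv_mem' := by
    rintro _ ⟨r, rfl⟩
    exact ⟨-r, pEl_inv (ne_of_ix h).2 r⟩

theorem pEl_mem_PS {c d : SI m} (h : ix c ≠ ix d) (r : F) : pEl Φ c d r ∈ PS Φ c d h := ⟨r, rfl⟩

theorem isPGroup_PS (c d : SI m) (h : ix c ≠ ix d) : IsPGroup p (PS Φ c d h) :=
  isPGroup_of_pEl fun x hx => by obtain ⟨r, rfl⟩ := hx; exact pEl_pEl (ne_of_ix h).2 r

end General

variable {k : ℕ} {Φ : PFrame C (k + 2) ι}

theorem ix01 : ix (Sum.inl 0 : SI (k + 2)) ≠ ix (Sum.inl 1 : SI (k + 2)) := by simp [SUPres.zero_ne_one']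

theorem ix01' : ix (Sum.inl 0 : SI (k + 2)) ≠ ix (Sum.inr 1 : SI (k + 2)) := by simp [SUPres.zero_ne_one']

/-- The commutator of the two short roots. -/
theorem qq_swap {a γ b δ : F} (h : QV Φ a γ) (h' : QV Φ b δ) :
    qEl Φ (.inl 0) a γ * qEl Φ (.inl 1) b δ =
      pEl Φ (.inl 0) (.inl 1) (a * C.σ b * eps Φ) * qEl Φ (.inl 1) b δ * qEl Φ (.inl 0) a γ := by
  have hne : (0 : Fin (k + 2)) ≠ 1 := SUPres.zero_ne_one'
  refine suG_ext C fun x => ?_
  simp only [app_mul, app_qEl h, app_qEl h', app_pEl (ne_of_ix (ix01 (k := k))).2, herm_add_left,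
    herm_sub_left, herm_smul_left, herm_vv, Φ.vx, Φ.xv, Sum.swap_inl, Sum.inl.injEq, reduceCtorEq, hne,
    hne.symm, if_false, if_true, mul_zero, add_zero, sub_zero, ← eps.eq_def, map_mul, C.invol, σ_eps]
  match_scalars <;> ring

/-- The conjugate of a short root by a long one. -/
theorem conj_pq {r b δ : F} (h' : QV Φ b δ) :
    pEl Φ (.inl 0) (.inr 1) r * qEl Φ (.inl 1) b δ =
      qEl Φ (.inl 0) (-r * b) (r * C.σ r * δ) * pEl Φ (.inl 0) (.inl 1) (-r * δ) *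
        qEl Φ (.inl 1) b δ * pEl Φ (.inl 0) (.inr 1) r := by
  have hne : (0 : Fin (k + 2)) ≠ 1 := SUPres.zero_ne_one'
  have hv : QV Φ (-r * b) (r * C.σ r * δ) := by
    unfold QV at *
    simp only [map_mul, map_neg, C.invol]
    linear_combination (r * C.σ r) * h'
  have hd : C.σ δ = -δ - b * C.σ b * eps Φ := by unfold QV at h'; linear_combination h'
  refine suG_ext C fun x => ?_
  simp only [app_mul, app_qEl hv, app_qEl h', app_pEl (ne_of_ix (ix01 (k := k))).2,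
    app_pEl (ne_of_ix (ix01' (k := k))).2, herm_add_left,
    herm_sub_left, herm_smul_left, herm_vv, Φ.vx, Φ.xv, Sum.swap_inl, Sum.swap_inr, Sum.inl.injEq, Sum.inr.injEq,
    reduceCtorEq, hne, hne.symm, if_false, if_true, mul_zero, mul_one, add_zero, zero_add, sub_zero, ← eps.eq_def,
    map_mul, map_neg, C.invol, hd]
  match_scalars <;> ring

/-- The long root from two roots of two indices. -/
theorem conj_pp (r s : F) :
    pEl Φ (.inl 0) (.inr 1) r * pEl Φ (.inl 0) (.inl 1) s * (pEl Φ (.inl 0) (.inr 1) r)⁻¹ =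
      qEl Φ (.inl 0) 0 (r * C.σ s - s * C.σ r) * pEl Φ (.inl 0) (.inl 1) s := by
  have hne : (0 : Fin (k + 2)) ≠ 1 := SUPres.zero_ne_one'
  have hv : QV Φ 0 (r * C.σ s - s * C.σ r) := qv_zero_iff.2 (by simp only [map_sub, map_mul, C.invol]; ring)
  rw [mul_inv_eq_iff_eq_mul]
  refine suG_ext C fun x => ?_
  simp only [app_mul, app_qEl hv, app_pEl (ne_of_ix (ix01 (k := k))).2,
    app_pEl (ne_of_ix (ix01' (k := k))).2, herm_add_left,
    herm_sub_left, herm_smul_left, herm_vv, Φ.vx, Φ.xv, Sum.swap_inl, Sum.swap_inr, Sum.inl.injEq, Sum.inr.injEq,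
    reduceCtorEq, hne, hne.symm, if_false, if_true, mul_zero, mul_one, add_zero, zero_add, sub_zero,
    map_mul, map_zero, zero_mul]
  match_scalars <;> ring

variable (Φ) in
/-- `Y₀` and the root group of `e₀ + e₁`. -/
def WA : Subgroup (suG C ι) := QS Φ (.inl 0) ⊔ PS Φ (.inl 0) (.inl 1) ix01

variable (Φ) in
/-- with the root group of `2 e₁` -/
def WB : Subgroup (suG C ι) := QS Φ (.inl 1) ⊔ WA Φ

variable (Φ) in
/-- A maximal unipotent group of the indices `0` and `1`. -/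
def WW : Subgroup (suG C ι) := PS Φ (.inl 0) (.inr 1) ix01' ⊔ WB Φ

theorem conj_mem_of_gen {G : Type*} [Group G] {A B : Subgroup G} (x : G) {W : Subgroup G}
    (hA : ∀ a ∈ A, x * a * x⁻¹ ∈ W) (hB : ∀ b ∈ B, x * b * x⁻¹ ∈ W) {y : G} (hy : y ∈ A ⊔ B) :
    x * y * x⁻¹ ∈ W := by
  have : A ⊔ B ≤ W.comap (MulAut.conj x).toMonoidHom := sup_le (fun a ha => hA a ha) fun b hb => hB b hb
  exact this hy

variable {p : ℕ} [Fact p.Prime] [CharP F p]

theorem isPGroup_WA : IsPGroup p (WA Φ) := by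
  refine IsPGroup.to_sup_of_normal_right' (isPGroup_QS _) (isPGroup_PS _ _ _) (le_normalizer_of_conj ?_)
  rintro _ ⟨a, γ, h, rfl⟩ _ ⟨r, rfl⟩
  rw [(commute_PQ ix01 r h).symm.eq, mul_inv_cancel_right]
  exact pEl_mem_PS _ _

theorem q1_norm_WA : QS Φ (.inl 1) ≤ Subgroup.normalizer (WA Φ : Set (suG C ι)) := by
  refine le_normalizer_of_conj ?_
  rintro _ ⟨b, δ, h', rfl⟩ x hx
  refine conj_mem_of_gen _ ?_ ?_ hx
  · rintro _ ⟨a, γ, h, rfl⟩
    have e := qq_swap h h'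
    have e' : qEl Φ (.inl 1) b δ * qEl Φ (.inl 0) a γ * (qEl Φ (.inl 1) b δ)⁻¹ =
        (pEl Φ (.inl 0) (.inl 1) (a * C.σ b * eps Φ))⁻¹ * qEl Φ (.inl 0) a γ := by
      rw [mul_inv_eq_iff_eq_mul, mul_assoc _ (qEl Φ (.inl 0) a γ), e]
      group
    rw [e']
    exact mul_mem (Subgroup.mem_sup_right (inv_mem (pEl_mem_PS _ _)))
      (Subgroup.mem_sup_left (qEl_mem_QS h))
  · rintro _ ⟨r, rfl⟩
    rw [(commute_PQ_right ix01 r h').symm.eq, mul_inv_cancel_right]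
    exact Subgroup.mem_sup_right (pEl_mem_PS _ _)

theorem isPGroup_WB : IsPGroup p (WB Φ) :=
  IsPGroup.to_sup_of_normal_right' (isPGroup_QS _) isPGroup_WA q1_norm_WA

theorem p01_norm_WB : PS Φ (.inl 0) (.inr 1) ix01' ≤ Subgroup.normalizer (WB Φ : Set (suG C ι)) := by
  refine le_normalizer_of_conj ?_
  rintro _ ⟨r, rfl⟩ x hx
  refine conj_mem_of_gen _ ?_ ?_ hx
  · rintro _ ⟨b, δ, h', rfl⟩
    rw [conj_pq h', mul_inv_cancel_right]
    refine mul_mem (mul_mem (Subgroup.mem_sup_right (Subgroup.mem_sup_left (qEl_mem_QS ?_)))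
      (Subgroup.mem_sup_right (Subgroup.mem_sup_right (pEl_mem_PS _ _))))
      (Subgroup.mem_sup_left (qEl_mem_QS h'))
    unfold QV at *
    simp only [map_mul, map_neg, C.invol]
    linear_combination (r * C.σ r) * h'
  · intro y hy
    refine conj_mem_of_gen _ ?_ ?_ hy
    · rintro _ ⟨a, γ, h, rfl⟩
      rw [(commute_PQ ix01' r h).eq, mul_inv_cancel_right]
      exact Subgroup.mem_sup_right (Subgroup.mem_sup_left (qEl_mem_QS h))
    · rintro _ ⟨s, rfl⟩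
      rw [conj_pp]
      exact Subgroup.mem_sup_right (mul_mem (Subgroup.mem_sup_left (qEl_mem_QS
        (qv_zero_iff.2 (by simp only [map_sub, map_mul, C.invol]; ring))))
        (Subgroup.mem_sup_right (pEl_mem_PS _ _)))

theorem isPGroup_WW : IsPGroup p (WW Φ) :=
  IsPGroup.to_sup_of_normal_right' (isPGroup_PS _ _ _) isPGroup_WB p01_norm_WB

end CfsgLib.MultPSU
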